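import Mathlib

set_option autoImplicit false
set_option linter.unusedSectionVars false
set_option linter.unusedSimpArgs false
set_option linter.unusedVariables false

/-! Central extensions: commutators of lifts, and some bi-additive algebra. -/

namespace Cfsg.Agent.Helper2.Stb

open scoped commutatorElement

section CExt

variable {Δ E : Type*} [Group Δ] [Group E]

theorem comm_mul_central_left {z a b : E} (hz : z ∈ Subgroup.center E) : ⁅z * a, b⁆ = ⁅a, b⁆ := by
  rw [commutatorElement_def, commutatorElement_def, mul_inv_rev]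
  have h1 := Subgroup.mem_center_iff.1 hz
  have h2 : z * a * b * (a⁻¹ * z⁻¹) * b⁻¹ = z * (a * b * a⁻¹) * z⁻¹ * b⁻¹ := by group
  rw [h2, ← h1 (a * b * a⁻¹)]
  group

theorem comm_mul_central_right {z a b : E} (hz : z ∈ Subgroup.center E) : ⁅a, z * b⁆ = ⁅a, b⁆ := by
  rw [← commutatorElement_inv, comm_mul_central_left hz, commutatorElement_inv]

variable (ψ : E →* Δ) (hc : ψ.ker ≤ Subgroup.center E)
include hc

/-- the commutator of two elements only depends on their images -/
theorem comm_eq_of_map_eq {e1 e1' e2 e2' : E} (h1 : ψ e1 = ψ e1') (h2 : ψ e2 = ψ e2') :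
    ⁅e1, e2⁆ = ⁅e1', e2'⁆ := by
  have z1 : e1 * e1'⁻¹ ∈ Subgroup.center E :=
    hc (by rw [MonoidHom.mem_ker, map_mul, map_inv, h1, mul_inv_cancel])
  have z2 : e2 * e2'⁻¹ ∈ Subgroup.center E :=
    hc (by rw [MonoidHom.mem_ker, map_mul, map_inv, h2, mul_inv_cancel])
  have a1 : e1 = (e1 * e1'⁻¹) * e1' := by group
  have a2 : e2 = (e2 * e2'⁻¹) * e2' := by group
  rw [a1, a2, comm_mul_central_left z1, comm_mul_central_right z2]

theorem comm_mem_center_of_map {a b : E} (h : Commute (ψ a) (ψ b)) : ⁅a, b⁆ ∈ Subgroup.center E :=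
  hc (by
    rw [MonoidHom.mem_ker, map_commutatorElement, commutatorElement_eq_one_iff_commute]
    exact h)

omit hc in
theorem comm_mul_right_of_central {a b c : E} (h : ⁅a, c⁆ ∈ Subgroup.center E) :
    ⁅a, b * c⁆ = ⁅a, b⁆ * ⁅a, c⁆ := by
  have e : ⁅a, b * c⁆ = ⁅a, b⁆ * (b * ⁅a, c⁆ * b⁻¹) := by
    simp only [commutatorElement_def]; group
  rw [e, Subgroup.mem_center_iff.1 h b, mul_inv_cancel_right]

omit hc in
theorem comm_mul_left_of_central {a b c : E} (h : ⁅b, c⁆ ∈ Subgroup.center E) :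
    ⁅a * b, c⁆ = ⁅a, c⁆ * ⁅b, c⁆ := by
  have e : ⁅a * b, c⁆ = (a * ⁅b, c⁆ * a⁻¹) * ⁅a, c⁆ := by
    simp only [commutatorElement_def]; group
  rw [e, Subgroup.mem_center_iff.1 h a, mul_inv_cancel_right, Subgroup.mem_center_iff.1 h]

/-- lifts of central elements of a perfect group are central -/
theorem lift_central (hψ : Function.Surjective ψ) (hperf : commutator Δ = ⊤) {e : E}
    (he : ψ e ∈ Subgroup.center Δ) : e ∈ Subgroup.center E := by
  have hcen : ∀ y : E, ⁅e, y⁆ ∈ Subgroup.center E := fun y =>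
    comm_mem_center_of_map ψ hc (show ψ e * ψ y = ψ y * ψ e from
      (Subgroup.mem_center_iff.1 he (ψ y)).symm)
  have hmul : ∀ y y' : E, ⁅e, y * y'⁆ = ⁅e, y⁆ * ⁅e, y'⁆ := fun y y' =>
    comm_mul_right_of_central (hcen y')
  have hone : ⁅e, (1 : E)⁆ = 1 := by simp [commutatorElement_def]
  have hinv : ∀ y : E, ⁅e, y⁻¹⁆ = ⁅e, y⁆⁻¹ := by
    intro y
    apply eq_inv_of_mul_eq_one_left
    rw [← hmul, inv_mul_cancel, hone]
  have hcs : ∀ y1 y2 : E, ⁅e, ⁅y1, y2⁆⁆ = 1 := by
    intro y1 y2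
    rw [commutatorElement_def y1 y2, hmul, hmul, hmul, hinv, hinv,
      ← Subgroup.mem_center_iff.1 (hcen y1) (⁅e, y2⁆)]
    group
  have hle : commutator E ≤ Subgroup.centralizer {e} := by
    rw [commutator_eq_closure, Subgroup.closure_le]
    rintro _ ⟨y1, y2, rfl⟩
    rw [SetLike.mem_coe, Subgroup.mem_centralizer_iff]
    intro x hx
    rw [Set.mem_singleton_iff] at hx
    subst hx
    exact commutatorElement_eq_one_iff_commute.1 (hcs y1 y2)
  rw [Subgroup.mem_center_iff]
  intro y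
  have hmap : Subgroup.map ψ (commutator E) = ⊤ := by
    rw [commutator_def Δ] at hperf
    rw [commutator_def E, Subgroup.map_commutator, Subgroup.map_top_of_surjective ψ hψ, hperf]
  have hy : ψ y ∈ Subgroup.map ψ (commutator E) := by
    rw [hmap]
    exact Subgroup.mem_top _
  obtain ⟨y0, hy0, e0⟩ := hy
  have hk : y0⁻¹ * y ∈ ψ.ker := by
    rw [MonoidHom.mem_ker, map_mul, map_inv, e0, inv_mul_cancel]
  have h1 : e * y0 = y0 * e := by
    have := Subgroup.mem_centralizer_iff.1 (hle hy0) e (Set.mem_singleton e)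
    exact this
  have h2 : (y0⁻¹ * y) * e = e * (y0⁻¹ * y) := (Subgroup.mem_center_iff.1 (hc hk) e).symm
  calc y * e = y0 * ((y0⁻¹ * y) * e) := by group
    _ = y0 * (e * (y0⁻¹ * y)) := by rw [h2]
    _ = (y0 * e) * (y0⁻¹ * y) := by group
    _ = (e * y0) * (y0⁻¹ * y) := by rw [h1]
    _ = e * y := by group

end CExt

section Biadd

variable {K : Type*} [Field K] {E : Type*} [Group E]

/-- a bi-additive function invariant under the diagonal scalings `b` and `b + 1` is trivial -/
theorem bimul_eq_one_of_scale (f : K → K → E)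
    (hl : ∀ t t' u, f (t + t') u = f t u * f t' u) (hr : ∀ t u u', f t (u + u') = f t u * f t u')
    {b : K} (hb : 1 + b + b ^ 2 ≠ 0)
    (h1 : ∀ t u, f (b * t) (b * u) = f t u)
    (h2 : ∀ t u, f ((b + 1) * t) ((b + 1) * u) = f t u) : ∀ t u, f t u = 1 := by
  have star : ∀ t u, f (b * t) u * (f t (b * u) * f t u) = 1 := by
    intro t u
    have := h2 t u
    rw [add_mul, add_mul, one_mul, one_mul, hl, hr, hr, h1, mul_assoc] at this
    exact mul_eq_left.1 this
  have key : ∀ t u, f t ((1 + b + b ^ 2) * u) = 1 := by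
    intro t u
    have e : (1 + b + b ^ 2) * u = u + b * (b * u) + b * u := by ring
    rw [e, hr, hr, mul_assoc]
    have s := star t (b * u)
    rw [h1] at s
    exact s
  intro t u
  have := key t ((1 + b + b ^ 2)⁻¹ * u)
  rwa [mul_inv_cancel_left₀ hb] at this

/-- an additive function invariant under a scaling `c ≠ 1` is trivial -/
theorem mul_eq_one_of_scale (g : K → E) (ha : ∀ u u', g (u + u') = g u * g u') {c : K}
    (hc : c - 1 ≠ 0) (h1 : ∀ u, g (c * u) = g u) : ∀ u, g u = 1 := by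
  have key : ∀ u, g ((c - 1) * u) = 1 := by
    intro u
    have e : c * u = (c - 1) * u + u := by ring
    have := h1 u
    rw [e, ha] at this
    exact mul_eq_right.1 this
  intro u
  have := key ((c - 1)⁻¹ * u)
  rwa [mul_inv_cancel_left₀ hc] at this

end Biadd

section FieldLemmas

open Polynomial

theorem exists_not_root {K : Type*} [Field K] (hK5 : ∃ s : Finset K, 4 < s.card) (p : K[X])
    (hp : p ≠ 0) (hd : p.natDegree ≤ 4) : ∃ v : K, p.eval v ≠ 0 := by
  classical
  obtain ⟨s, hs⟩ := hK5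
  by_contra hall
  push Not at hall
  have hsub : s ⊆ p.roots.toFinset := by
    intro v _
    rw [Multiset.mem_toFinset, mem_roots hp]
    exact hall v
  have h1 := Finset.card_le_card hsub
  have h2 := Multiset.toFinset_card_le p.roots
  have h3 := card_roots' p
  omega

theorem exists_stepA_scalar {K : Type*} [Field K] (hK5 : ∃ s : Finset K, 4 < s.card) :
    ∃ b : K, b ≠ 0 ∧ b + 1 ≠ 0 ∧ 1 + b + b ^ 2 ≠ 0 := by
  have hq : (C (1:K) * X ^ 2 + C 1 * X + C 1).natDegree = 2 := natDegree_quadratic one_ne_zero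
  have hq0 : (C (1:K) * X ^ 2 + C 1 * X + C 1) ≠ 0 := by
    intro e; rw [e, natDegree_zero] at hq; omega
  have hl : (X + C (1:K)).natDegree = 1 := natDegree_X_add_C 1
  have hl0 : (X + C (1:K)) ≠ 0 := X_add_C_ne_zero 1
  obtain ⟨v, hv⟩ := exists_not_root hK5 (X * (X + C (1:K)) * (C (1:K) * X ^ 2 + C 1 * X + C 1))
    (mul_ne_zero (mul_ne_zero X_ne_zero hl0) hq0) (by
      refine le_trans natDegree_mul_le ?_
      have := natDegree_mul_le (p := (X : K[X])) (q := X + C (1:K))
      rw [natDegree_X] at this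
      omega)
  simp only [eval_mul, eval_X, eval_add, eval_C, eval_pow, one_mul] at hv
  refine ⟨v, fun e => hv (by rw [e]; simp), fun e => hv (by rw [e]; simp), fun e => hv ?_⟩
  have : v ^ 2 + v + 1 = 0 := by rw [← e]; ring
  rw [this, mul_zero]

theorem exists_pow_ne_one {K : Type*} [Field K] (hK5 : ∃ s : Finset K, 4 < s.card) {k : ℕ}
    (hk1 : 1 ≤ k) (hk3 : k ≤ 3) : ∃ v : K, v ≠ 0 ∧ v ^ k ≠ 1 := by
  have h0 : (X ^ k - C (1:K)) ≠ 0 := X_pow_sub_C_ne_zero (by omega) 1
  have hd : (X ^ k - C (1:K)).natDegree = k := natDegree_X_pow_sub_C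
  obtain ⟨v, hv⟩ := exists_not_root hK5 (X * (X ^ k - C (1:K))) (mul_ne_zero X_ne_zero h0) (by
    refine le_trans natDegree_mul_le ?_
    rw [natDegree_X, hd]; omega)
  simp only [eval_mul, eval_X, eval_sub, eval_pow, eval_C] at hv
  refine ⟨v, fun e => hv (by rw [e]; simp), fun e => hv ?_⟩
  rw [e, sub_self, mul_zero]

end FieldLemmas

end Cfsg.Agent.Helper2.Stb
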