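import Mathlib
import Cfsg.Agent.Helper2.StPerfA
import Cfsg.Agent.Helper6.Chev.UProd
import Cfsg.Agent.Helper6.Chev.Longest
import Cfsg.Agent.Helper6.Chev.Core

set_option autoImplicit false
set_option linter.unusedSectionVars false
set_option linter.unusedSimpArgs false
set_option linter.unusedVariables false

/-! Steinberg presentation, part 1: collection in a group satisfying (R1), (R2) and injectivity
of a homomorphism to the Chevalley group on the subgroups generated by "good" lists of roots. -/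

namespace Cfsg.Agent.Helper2.Stb

open Cfsg.Lie Cfsg.Agent.Helper6 Cfsg.Agent.Helper2.StPerf

variable {D : ChevalleyDatum} {F : Type*} [Field F] {M : Type*} [Group M]

/-- the subgroup generated by the root elements with roots in a list -/
def UL (X : ℕ → F → M) (L : List ℕ) : Subgroup M :=
  Subgroup.closure {g | ∃ r ∈ L, ∃ t : F, g = X r t}

theorem X_mem_UL (X : ℕ → F → M) {L : List ℕ} {r : ℕ} (hr : r ∈ L) (t : F) : X r t ∈ UL X L :=
  Subgroup.subset_closure ⟨r, hr, t, rfl⟩

theorem UL_mono (X : ℕ → F → M) {L L' : List ℕ} (h : ∀ r ∈ L, r ∈ L') : UL X L ≤ UL X L' := by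
  unfold UL
  apply Subgroup.closure_mono
  rintro g ⟨r, hr, t, rfl⟩
  exact ⟨r, h r hr, t, rfl⟩

theorem UL_le (X : ℕ → F → M) {L : List ℕ} {K : Subgroup M} (h : ∀ r ∈ L, ∀ t : F, X r t ∈ K) :
    UL X L ≤ K := by
  unfold UL
  rw [Subgroup.closure_le]
  rintro g ⟨r, hr, t, rfl⟩
  exact h r hr t

theorem UL_nil (X : ℕ → F → M) : UL X [] = ⊥ := by
  unfold UL
  rw [Subgroup.closure_eq_bot_iff]
  rintro g ⟨r, hr, _⟩
  exact absurd hr List.not_mem_nil

theorem wordX_mem (X : ℕ → F → M) {K : Subgroup M} (w : List (ℕ × F))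
    (hw : ∀ p ∈ w, X p.1 p.2 ∈ K) : wordX X w ∈ K := by
  unfold wordX
  apply Subgroup.list_prod_mem
  intro g hg
  simp only [List.mem_map] at hg
  obtain ⟨p, hp, rfl⟩ := hg
  exact hw p hp

theorem wordX_mem_UL (X : ℕ → F → M) {L : List ℕ} (w : List (ℕ × F))
    (hw : ∀ p ∈ w, p.1 ∈ L) : wordX X w ∈ UL X L :=
  wordX_mem X w fun p hp => X_mem_UL X (hw p hp) p.2

theorem wordX_append (X : ℕ → F → M) (w w' : List (ℕ × F)) :
    wordX X (w ++ w') = wordX X w * wordX X w' := by
  unfold wordX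
  rw [List.map_append, List.prod_append]

/-- general conjugation closure lemma -/
theorem conj_closure_mem' {G : Type*} [Group G] {S : Set G} {K : Subgroup G} (g : G)
    (h : ∀ x ∈ S, g * x * g⁻¹ ∈ K) : ∀ x ∈ Subgroup.closure S, g * x * g⁻¹ ∈ K := by
  have hle : Subgroup.closure S ≤ K.comap (MulAut.conj g).toMonoidHom := by
    rw [Subgroup.closure_le]
    intro x hx
    exact h x hx
  intro x hx
  exact hle hx

/-- the conjugation form of (R2) -/
theorem conj_X {X : ℕ → F → M} (h : R12 D X) {k s : ℕ} (hk : k < D.nroots) (hs : s < D.nroots)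
    (h1 : s ≠ k) (h2 : s ≠ D.neg k) (t u : F) :
    X k t * X s u * (X k t)⁻¹ = X s u * wordX X (D.commWord F k s (-t) u) := by
  have hc := h.comm k hk s hs h1 h2 (-t) u
  rw [← hc, X_inv h hk t, X_inv h hk (-t), neg_neg]
  have e : X k t * X k (-t) = 1 := by rw [h.add k hk, add_neg_cancel, X_zero h hk]
  have e' : X k t = (X k (-t))⁻¹ := eq_inv_of_mul_eq_one_left e
  rw [e']
  group

/-- conditions for collecting the root `k` in front of the list `L` -/
structure Coll (D : ChevalleyDatum) (k : ℕ) (L : List ℕ) : Prop where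
  hk : k < D.nroots
  hL : ∀ s ∈ L, s < D.nroots ∧ s ≠ k ∧ s ≠ D.neg k ∧ ∀ c ∈ D.commTerms k s, c.1 ∈ L

theorem commWord_fst_mem {k s : ℕ} {t u : F} {p : ℕ × F} (hp : p ∈ D.commWord F k s t u) :
    ∃ c ∈ D.commTerms k s, p.1 = c.1 := by
  unfold ChevalleyDatum.commWord at hp
  rw [List.mem_map] at hp
  obtain ⟨c, hc, rfl⟩ := hp
  exact ⟨c, hc, rfl⟩

theorem conj_X_mem_UL {X : ℕ → F → M} (h : R12 D X) {k : ℕ} {L : List ℕ} (hc : Coll D k L)
    {s : ℕ} (hs : s ∈ L) (t u : F) : X k t * X s u * (X k t)⁻¹ ∈ UL X L := by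
  obtain ⟨a1, a2, a3, a4⟩ := hc.hL s hs
  rw [conj_X h hc.hk a1 a2 a3]
  apply Subgroup.mul_mem _ (X_mem_UL X hs u)
  apply wordX_mem_UL
  intro p hp
  obtain ⟨c, hc', e⟩ := commWord_fst_mem hp
  rw [e]
  exact a4 c hc'

theorem conj_mem_UL {X : ℕ → F → M} (h : R12 D X) {k : ℕ} {L : List ℕ} (hc : Coll D k L)
    (t : F) {g : M} (hg : g ∈ UL X L) : X k t * g * (X k t)⁻¹ ∈ UL X L := by
  refine conj_closure_mem' (X k t) ?_ g hg
  rintro x ⟨s, hs, u, rfl⟩
  exact conj_X_mem_UL h hc hs t u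

/-- every element of `⟨X_k, X_L⟩` is `x_k(a)` times an element of `⟨X_L⟩` -/
theorem exists_mul_of_mem_UL {X : ℕ → F → M} (h : R12 D X) {k : ℕ} {L : List ℕ}
    (hc : Coll D k L) {g : M} (hg : g ∈ UL X (k :: L)) :
    ∃ a : F, ∃ g' ∈ UL X L, g = X k a * g' := by
  have hk := hc.hk
  unfold UL at hg
  induction hg using Subgroup.closure_induction with
  | mem g hg =>
    obtain ⟨s, hs, u, rfl⟩ := hg
    rcases List.mem_cons.1 hs with rfl | hs'
    · exact ⟨u, 1, Subgroup.one_mem _, by rw [mul_one]⟩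
    · exact ⟨0, X s u, X_mem_UL X hs' u, by rw [X_zero h hk, one_mul]⟩
  | one => exact ⟨0, 1, Subgroup.one_mem _, by rw [X_zero h hk, one_mul]⟩
  | mul g₁ g₂ _ _ ih₁ ih₂ =>
    obtain ⟨a₁, g₁', h1, rfl⟩ := ih₁
    obtain ⟨a₂, g₂', h2, rfl⟩ := ih₂
    refine ⟨a₁ + a₂, (X k (-a₂) * g₁' * (X k (-a₂))⁻¹) * g₂', ?_, ?_⟩
    · exact Subgroup.mul_mem _ (conj_mem_UL h hc _ h1) h2
    · rw [← h.add k hk, X_inv h hk (-a₂), neg_neg]
      have e : X k a₂ * X k (-a₂) = 1 := by rw [h.add k hk, add_neg_cancel, X_zero h hk]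
      calc X k a₁ * g₁' * (X k a₂ * g₂')
          = X k a₁ * (1 : M) * g₁' * X k a₂ * g₂' := by group
        _ = X k a₁ * X k a₂ * (X k (-a₂) * g₁' * X k a₂ * g₂') := by
            rw [← e]; group
        _ = _ := by group
  | inv g _ ih =>
    obtain ⟨a, g', h1, rfl⟩ := ih
    refine ⟨-a, X k a * g'⁻¹ * (X k a)⁻¹, ?_, ?_⟩
    · exact conj_mem_UL h hc _ (Subgroup.inv_mem _ h1)
    · rw [← X_inv h hk]; group

/-- good lists of roots: collection is possible and the root elements are independent in the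
Chevalley group -/
inductive GoodL (hB : BasicOK D) (F : Type*) [Field F] : List ℕ → Prop
  | nil : GoodL hB F []
  | cons {k : ℕ} {L : List ℕ} : GoodL hB F L → Coll D k L →
      (∀ a : F, xU hB k a ∈ UL (xU hB (F := F)) L → a = 0) → GoodL hB F (k :: L)

theorem GoodL.lt {hB : BasicOK D} {L : List ℕ} (hG : GoodL hB F L) : ∀ r ∈ L, r < D.nroots := by
  induction hG with
  | nil => intro r hr; exact absurd hr List.not_mem_nil
  | cons _ hc _ ih =>
    intro r hr
    rcases List.mem_cons.1 hr with rfl | hr'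
    · exact hc.hk
    · exact ih r hr'

section inj

variable {X : ℕ → F → M} (h : R12 D X) (hB : BasicOK D) (π : M →* GL D.Idx F)
  (hπ : ∀ r < D.nroots, ∀ t : F, π (X r t) = xU hB r t)
include h hπ

theorem map_UL_le {L : List ℕ} (hL : ∀ r ∈ L, r < D.nroots) {g : M} (hg : g ∈ UL X L) :
    π g ∈ UL (xU hB (F := F)) L := by
  have hle : UL X L ≤ (UL (xU hB (F := F)) L).comap π := by
    apply UL_le
    intro r hr t
    rw [Subgroup.mem_comap, hπ r (hL r hr)]
    exact X_mem_UL _ hr t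
  exact hle hg

/-- `π` is injective on the subgroup generated by a good list of roots -/
theorem eq_one_of_good {L : List ℕ} (hG : GoodL hB F L) :
    ∀ g ∈ UL X L, π g = 1 → g = 1 := by
  induction hG with
  | nil =>
    intro g hg _
    rw [UL_nil, Subgroup.mem_bot] at hg
    exact hg
  | @cons k L hG' hc hz ih =>
    intro g hg hg1
    obtain ⟨a, g', hg', rfl⟩ := exists_mul_of_mem_UL h hc hg
    rw [map_mul, hπ k hc.hk] at hg1
    have hm : xU hB k a ∈ UL (xU hB (F := F)) L := by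
      have e : xU hB k a = (π g')⁻¹ := eq_inv_of_mul_eq_one_left hg1
      rw [e]
      exact Subgroup.inv_mem _ (map_UL_le h hB π hπ hG'.lt hg')
    have ha := hz a hm
    rw [ha, xU_zero, one_mul] at hg1
    rw [ha, X_zero h hc.hk, one_mul]
    exact ih g' hg' hg1

theorem eq_of_good {L : List ℕ} (hG : GoodL hB F L) {g₁ g₂ : M} (h1 : g₁ ∈ UL X L)
    (h2 : g₂ ∈ UL X L) (e : π g₁ = π g₂) : g₁ = g₂ := by
  have := eq_one_of_good h hB π hπ hG (g₁ * g₂⁻¹)
    (Subgroup.mul_mem _ h1 (Subgroup.inv_mem _ h2)) (by rw [map_mul, map_inv, e, mul_inv_cancel])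
  exact mul_inv_eq_one.1 this

end inj

/-- a root element of the Chevalley group is trivial only for the parameter `0` -/
theorem eq_zero_of_xU_eq_one (hB : BasicOK D) {r : ℕ} (hr : r < D.nroots) {a : F}
    (h : xU hB r a = 1) : a = 0 := by
  have h2 := congrArg Units.val h
  rw [xU_val, Units.val_one, ← torMat_one (D := D)] at h2
  exact eq_zero_of_x_eq_torMat hB hr h2

theorem xU_inj (hB : BasicOK D) {r : ℕ} (hr : r < D.nroots) {a b : F}
    (h : xU hB r a = xU hB r b) : a = b := by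
  have e : xU hB r (a - b) = 1 := by
    rw [sub_eq_add_neg, ← Cfsg.Agent.Helper6.xU_mul, ← xU_inv, h, mul_inv_cancel]
  exact sub_eq_zero.1 (eq_zero_of_xU_eq_one hB hr e)

/-- a word and its reverse act as mutually inverse permutations of the roots -/
theorem wFold_reverse_wFold (hB : BasicOK D) (hAll : ∀ i < D.rank, SimpleAll D i) {L : List ℕ}
    (hL : ∀ i ∈ L, i < D.rank) {s : ℕ} (hs : s < D.nroots) :
    wFold D L.reverse (wFold D L s) = s := by
  induction L with
  | nil => rfl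
  | cons i L ih =>
    have hi := hL i List.mem_cons_self
    have hL' : ∀ j ∈ L, j < D.rank := fun j hj => hL j (List.mem_cons_of_mem _ hj)
    have h1 : wFold D (i :: L) s = wR D (D.simple i) (wFold D L s) := rfl
    have h2 : ∀ x, wFold D (i :: L).reverse x = wFold D L.reverse (wR D (D.simple i) x) := by
      intro x
      simp [wFold, List.foldr_append]
    rw [h1, h2, wR_wR hB (hAll i hi) (wFold_lt hB hAll hL' hs), ih hL']

theorem wFold_wFold_reverse (hB : BasicOK D) (hAll : ∀ i < D.rank, SimpleAll D i) {L : List ℕ}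
    (hL : ∀ i ∈ L, i < D.rank) {s : ℕ} (hs : s < D.nroots) :
    wFold D L (wFold D L.reverse s) = s := by
  have hLr : ∀ i ∈ L.reverse, i < D.rank := fun i hi => hL i (List.mem_reverse.1 hi)
  have := wFold_reverse_wFold hB hAll hLr hs
  rwa [List.reverse_reverse] at this

end Cfsg.Agent.Helper2.Stb
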