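import Mathlib
import Cfsg.Agent.Helper2.Stb.Coll
import Cfsg.Agent.Helper6.Chev.TablesBN

set_option autoImplicit false
set_option linter.unusedSectionVars false
set_option linter.unusedSimpArgs false
set_option linter.unusedVariables false

/-! Steinberg presentation, part 2: the positive roots (in increasing order) and the negative
roots (in the order transported by the longest element) form good lists. -/

namespace Cfsg.Agent.Helper2.Stb

open Cfsg.Lie Cfsg.Agent.Helper6 Cfsg.Agent.Helper2.StPerf

variable {D : ChevalleyDatum} {F : Type*} [Field F]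

/-- the closure check on the negative side: `rho` is the rank of a negative root in the order
transported from the positive side by the longest element -/
def negOrdChk (D : ChevalleyDatum) (N : ℕ) (rho : ℕ → ℕ) : Bool :=
  allLt N fun a => allLt N fun b => !(Nat.blt (rho a) (rho b)) ||
    allL (commTermsG (ceF D) a b) fun c => Nat.blt c.1 N && Nat.blt (rho a) (rho c.1)

/-- `rho` is the table of the reversed word -/
def rhoChk (D : ChevalleyDatum) (N : ℕ) (L : List ℕ) (rho : ℕ → ℕ) : Bool :=
  allLt N fun r => Nat.beq (rho r) (wFoldD D L.reverse r)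

/-- the positive roots from `k` on form a good list -/
theorem goodL_pos (hD : IsTabulated D) (m : ℕ) : ∀ k, D.nroots / 2 ≤ k → k + m = D.nroots →
    GoodL (basicOK_of_tabulated hD) F (List.range' k m) := by
  have hB := basicOK_of_tabulated hD
  have hF := fastOK_of_tabulated hD
  have hO := ordOK_of_tabulated hD
  obtain ⟨lam, Λ, M, h1, h2, h3, h4, h5⟩ := hO.ex
  have Δ := bnData_of_tabulated F hD
  induction m with
  | zero => intro k _ _; exact GoodL.nil
  | succ m ih =>
    intro k hk hkm
    rw [List.range'_succ]
    have hk' : k < D.nroots := by omega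
    refine GoodL.cons (ih (k + 1) (by omega) (by omega)) ⟨hk', ?_⟩ ?_
    · intro s hs
      rw [List.mem_range'_1] at hs
      have hs' : s < D.nroots := by omega
      refine ⟨hs', by omega, ?_, ?_⟩
      · have := Δ.neg_eq hk'
        have := Δ.even
        omega
      · intro c hc
        simp only [posOrdChk, allLt_iff, Bool.or_eq_true, Nat.blt_eq, Nat.ble_eq, allL_iff,
          Bool.and_eq_true] at h5
        rcases h5 k hk' with e1 | e1
        · omega
        · rcases e1 s hs' with e2 | e2
          · omega
          · rw [ceF_eq hF.keys hF.chk, commTermsG_eq] at e2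
            have := e2 c hc
            rw [List.mem_range'_1]
            omega
    · intro a ha
      have hle : UL (xU (basicOK_of_tabulated hD) (F := F)) (List.range' (k + 1) m) ≤
          Uge D F (k + 1) := by
        apply UL_le
        intro r hr t
        rw [List.mem_range'_1] at hr
        exact xU_mem_Uge _ hr.1 (by omega) t
      exact eq_zero_of_xU_mem_Uge hB hF h1 h2 h3 h4 hk hk' (hle ha)

section neg

variable (hD : IsTabulated D) {rho : ℕ → ℕ}
  (hρ : rhoChk D (D.nroots / 2) (w0Word D) rho = true)
  (hN : negOrdChk D (D.nroots / 2) rho = true)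
include hD hρ hN

/-- the negative roots, in the transported order, from position `k` on form a good list -/
theorem goodL_neg (m : ℕ) : ∀ k, D.nroots / 2 ≤ k → k + m = D.nroots →
    GoodL (basicOK_of_tabulated hD) F ((List.range' k m).map (wFold D (w0Word D))) := by
  have hB := basicOK_of_tabulated hD
  have hF := fastOK_of_tabulated hD
  have hO := ordOK_of_tabulated hD
  obtain ⟨lam, Λ, M, h1, h2, h3, h4, h5⟩ := hO.ex
  have Δ := bnData_of_tabulated F hD
  have hw0 := w0Chk_of_tabulated hD
  simp only [w0Chk, Bool.and_eq_true, allL_iff, allLt_iff, Nat.blt_eq] at hw0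
  obtain ⟨hL, hchk⟩ := hw0
  have hLr : ∀ i ∈ (w0Word D).reverse, i < D.rank := fun i hi => hL i (List.mem_reverse.1 hi)
  have hAll := Δ.hAll
  have hn := Δ.hn
  -- `σ` maps the upper half into the lower half
  have hσlow : ∀ s, D.nroots / 2 ≤ s → s < D.nroots → wFold D (w0Word D) s < D.nroots / 2 := by
    intro s hs hs'
    have := hchk s hs'
    rw [show Nat.ble (D.nroots / 2) s = true from Nat.ble_eq ▸ hs] at this
    simp only [cond_true, Nat.blt_eq] at this
    rwa [wFoldD_eq hB hF hn hAll hL hs'] at this
  simp only [rhoChk, allLt_iff, Nat.beq_eq] at hρ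
  have hρ' : ∀ r, r < D.nroots / 2 → rho r = wFold D (w0Word D).reverse r := by
    intro r hr
    have hr' : r < D.nroots := by have := Δ.even; omega
    have e : rho r = wFoldD D (w0Word D).reverse r := hρ r hr
    rw [e, wFoldD_eq hB hF hn hAll hLr hr']
  have hρσ : ∀ s, D.nroots / 2 ≤ s → s < D.nroots → rho (wFold D (w0Word D) s) = s := by
    intro s hs hs'
    rw [hρ' _ (hσlow s hs hs'), wFold_reverse_wFold hB hAll hL hs']
  induction m with
  | zero => intro k _ _; exact GoodL.nil
  | succ m ih =>
    intro k hk hkm
    rw [List.range'_succ, List.map_cons]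
    have hk' : k < D.nroots := by omega
    have hσk := hσlow k hk hk'
    have hσk' : wFold D (w0Word D) k < D.nroots := by have := Δ.even; omega
    refine GoodL.cons (ih (k + 1) (by omega) (by omega)) ⟨hσk', ?_⟩ ?_
    · intro s' hs'
      rw [List.mem_map] at hs'
      obtain ⟨s, hs, rfl⟩ := hs'
      rw [List.mem_range'_1] at hs
      have hsn : s < D.nroots := by omega
      have hσs := hσlow s (by omega) hsn
      have hσs' : wFold D (w0Word D) s < D.nroots := by have := Δ.even; omega
      refine ⟨hσs', ?_, ?_, ?_⟩
      · intro e
        have := hρσ s (by omega) hsn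
        rw [e, hρσ k hk hk'] at this
        omega
      · have := Δ.hnegpos hσk' hσk
        omega
      · intro c hc
        simp only [negOrdChk, allLt_iff, Bool.or_eq_true, Bool.not_eq_true', Nat.blt_eq, allL_iff,
          Bool.and_eq_true] at hN
        rcases hN _ hσk _ hσs with e1 | e1
        · rw [hρσ k hk hk', hρσ s (by omega) hsn] at e1
          have : Nat.blt k s = true := by rw [Nat.blt_eq]; omega
          rw [this] at e1
          exact absurd e1 (by simp)
        · rw [ceF_eq hF.keys hF.chk, commTermsG_eq] at e1
          obtain ⟨c1, c2⟩ := e1 c hc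
          rw [hρσ k hk hk'] at c2
          have hcn : c.1 < D.nroots := by have := Δ.even; omega
          rw [hρ' _ c1] at c2
          have hlt := wFold_lt hB hAll hLr hcn
          rw [List.mem_map]
          refine ⟨wFold D (w0Word D).reverse c.1, ?_, wFold_wFold_reverse hB hAll hL hcn⟩
          rw [List.mem_range'_1]
          omega
    · intro a ha
      -- conjugate by the inverse of the representative of the longest element
      obtain ⟨n₀, hn₀⟩ : ∃ n₀, n₀ = (nW hB F (w0Word D))⁻¹ := ⟨_, rfl⟩
      have hconj : ∀ g ∈ UL (xU (basicOK_of_tabulated hD) (F := F))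
          ((List.range' (k + 1) m).map (wFold D (w0Word D))), n₀ * g * n₀⁻¹ ∈ Uge D F (k + 1) := by
        apply conj_closure_mem'
        rintro x ⟨r, hr, t, rfl⟩
        rw [List.mem_map] at hr
        obtain ⟨s, hs, rfl⟩ := hr
        rw [List.mem_range'_1] at hs
        have hsn : s < D.nroots := by omega
        have hσs' : wFold D (w0Word D) s < D.nroots :=
          wFold_lt hB hAll hL hsn
        obtain ⟨t', ht'⟩ := nW_inv_conj (F := F) hB hAll hL hσs' t
        rw [hn₀, inv_inv, ht', wFold_reverse_wFold hB hAll hL hsn]
        exact xU_mem_Uge hB hs.1 hsn t'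
      have h6 := hconj _ ha
      obtain ⟨t', ht'⟩ := nW_inv_conj (F := F) hB hAll hL hσk' a
      rw [hn₀, inv_inv, ht', wFold_reverse_wFold hB hAll hL hk'] at h6
      have ht0 := eq_zero_of_xU_mem_Uge hB hF h1 h2 h3 h4 hk hk' h6
      rw [ht0, xU_zero] at ht'
      have e : xU hB (wFold D (w0Word D) k) a = 1 := by
        have : xU hB (wFold D (w0Word D) k) a =
            nW hB F (w0Word D) * ((nW hB F (w0Word D))⁻¹ * xU hB (wFold D (w0Word D) k) a *
              nW hB F (w0Word D)) * (nW hB F (w0Word D))⁻¹ := by group
        rw [this, ht']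
        group
      exact eq_zero_of_xU_eq_one hB hσk' e

end neg

end Cfsg.Agent.Helper2.Stb
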