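import Mathlib
import Cfsg.Agent.Helper2.Stb.CollTab

set_option autoImplicit false

/-! Steinberg presentation: table checks for the negative side. -/

namespace Cfsg.Agent.Helper2.Stb

open Cfsg.Lie Cfsg.Agent.Helper6

/-- the rank of a negative root in the order transported by the longest element -/
def rhoTab (D : ChevalleyDatum) (r : ℕ) : ℕ :=
  bif Nat.beq D.nroots 72 then
    digitN 256 0x382a39272b3a25282c3b2e2f323d30333e3540432426292d3c31343f3641443742454647 r
  else Nat.sub (Nat.sub D.nroots 1) r

set_option maxRecDepth 100000 in
theorem rhoChk_of_tabulated {D : ChevalleyDatum} (hD : IsTabulated D) :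
    rhoChk D (D.nroots / 2) (w0Word D) (rhoTab D) = true := by
  simp only [IsTabulated, List.mem_cons, List.not_mem_nil, or_false] at hD
  rcases hD with rfl | rfl | rfl | rfl | rfl | rfl | rfl <;> decide +kernel

set_option maxRecDepth 100000 in
theorem negOrdChk_of_tabulated {D : ChevalleyDatum} (hD : IsTabulated D) :
    negOrdChk D (D.nroots / 2) (rhoTab D) = true := by
  simp only [IsTabulated, List.mem_cons, List.not_mem_nil, or_false] at hD
  rcases hD with rfl | rfl | rfl | rfl | rfl | rfl | rfl <;> decide +kernel

/-- all commutator terms of `±p_i` with a root `s ≠ -p_i` of the lower half lie in the lower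
half and differ from `-p_i` -/
def nradChk (D : ChevalleyDatum) (N i : ℕ) : Bool :=
  allLt N fun s => Nat.beq s (negF D (D.simple i)) ||
    (allL (commTermsG (ceF D) (D.simple i) s) fun c =>
      Nat.blt c.1 N && !Nat.beq c.1 (negF D (D.simple i))) &&
    (allL (commTermsG (ceF D) (negF D (D.simple i)) s) fun c =>
      Nat.blt c.1 N && !Nat.beq c.1 (negF D (D.simple i)))

set_option maxRecDepth 100000 in
theorem nradChk_of_tabulated {D : ChevalleyDatum} (hD : IsTabulated D) :
    (allLt D.rank fun i => nradChk D (D.nroots / 2) i) = true := by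
  simp only [IsTabulated, List.mem_cons, List.not_mem_nil, or_false] at hD
  rcases hD with rfl | rfl | rfl | rfl | rfl | rfl | rfl <;> decide +kernel

end Cfsg.Agent.Helper2.Stb
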