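import Mathlib
import Cfsg.Agent.Helper2.Stb.TabNeg
import Cfsg.Agent.Helper6.Chev.BruhatNF2

set_option autoImplicit false
set_option linter.unusedSectionVars false
set_option linter.unusedSimpArgs false
set_option linter.unusedVariables false

/-! Steinberg presentation, part 3: injectivity on `Û` and `V̂`, the rank one subgroups normalise
`Û_p` and `V̂_p`, and the relations (3), (4) for roots different from `±p` (soft argument). -/

namespace Cfsg.Agent.Helper2.Stb

open Cfsg.Lie Cfsg.Agent.Helper6 Cfsg.Agent.Helper2.StPerf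

variable {D : ChevalleyDatum} {F : Type*} [Field F] {M : Type*} [Group M]

/-- the subgroup generated by the root elements with roots in a set -/
def US (X : ℕ → F → M) (S : Set ℕ) : Subgroup M :=
  Subgroup.closure {g | ∃ r ∈ S, ∃ t : F, g = X r t}

theorem X_mem_US (X : ℕ → F → M) {S : Set ℕ} {r : ℕ} (hr : r ∈ S) (t : F) : X r t ∈ US X S :=
  Subgroup.subset_closure ⟨r, hr, t, rfl⟩

theorem US_mono (X : ℕ → F → M) {S S' : Set ℕ} (h : S ⊆ S') : US X S ≤ US X S' := by
  unfold US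
  apply Subgroup.closure_mono
  rintro g ⟨r, hr, t, rfl⟩
  exact ⟨r, h hr, t, rfl⟩

theorem US_le (X : ℕ → F → M) {S : Set ℕ} {K : Subgroup M} (h : ∀ r ∈ S, ∀ t : F, X r t ∈ K) :
    US X S ≤ K := by
  unfold US
  rw [Subgroup.closure_le]
  rintro g ⟨r, hr, t, rfl⟩
  exact h r hr t

theorem wordX_mem_US (X : ℕ → F → M) {S : Set ℕ} (w : List (ℕ × F))
    (hw : ∀ p ∈ w, p.1 ∈ S) : wordX X w ∈ US X S :=
  wordX_mem X w fun p hp => X_mem_US X (hw p hp) p.2

/-- conditions for `X_k` to normalise `⟨X_s : s ∈ S⟩` -/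
structure CollS (D : ChevalleyDatum) (k : ℕ) (S : Set ℕ) : Prop where
  hk : k < D.nroots
  hS : ∀ s ∈ S, s < D.nroots ∧ s ≠ k ∧ s ≠ D.neg k ∧ ∀ c ∈ D.commTerms k s, c.1 ∈ S

theorem conj_mem_US {X : ℕ → F → M} (h : R12 D X) {k : ℕ} {S : Set ℕ} (hc : CollS D k S)
    (t : F) {g : M} (hg : g ∈ US X S) : X k t * g * (X k t)⁻¹ ∈ US X S := by
  refine conj_closure_mem' (X k t) ?_ g hg
  rintro x ⟨s, hs, u, rfl⟩
  obtain ⟨a1, a2, a3, a4⟩ := hc.hS s hs
  rw [conj_X h hc.hk a1 a2 a3]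
  apply Subgroup.mul_mem _ (X_mem_US X hs u)
  apply wordX_mem_US
  intro p hp
  obtain ⟨c, hc', e⟩ := commWord_fst_mem hp
  rw [e]
  exact a4 c hc'

theorem X_mem_normalizer {X : ℕ → F → M} (h : R12 D X) {k : ℕ} {S : Set ℕ} (hc : CollS D k S)
    (t : F) : X k t ∈ Subgroup.normalizer (US X S : Set M) := by
  rw [Subgroup.mem_normalizer_iff]
  intro g
  constructor
  · exact fun hg => conj_mem_US h hc t hg
  · intro hg
    have h1 := conj_mem_US h hc (-t) hg
    rw [← X_inv h hc.hk] at h1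
    have e : (X k t)⁻¹ * (X k t * g * (X k t)⁻¹) * ((X k t)⁻¹)⁻¹ = g := by group
    rwa [e] at h1

/-- the positive roots -/
def Pset (D : ChevalleyDatum) : Set ℕ := {r | D.nroots / 2 ≤ r ∧ r < D.nroots}
/-- the negative roots -/
def Nset (D : ChevalleyDatum) : Set ℕ := {r | r < D.nroots / 2}
/-- the positive roots other than `p` -/
def PsetE (D : ChevalleyDatum) (p : ℕ) : Set ℕ := {r | D.nroots / 2 ≤ r ∧ r < D.nroots ∧ r ≠ p}
/-- the negative roots other than `-p` -/
def NsetE (D : ChevalleyDatum) (p : ℕ) : Set ℕ := {r | r < D.nroots / 2 ∧ r ≠ D.neg p}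

theorem PsetE_subset (p : ℕ) : PsetE D p ⊆ Pset D := fun r hr => ⟨hr.1, hr.2.1⟩
theorem NsetE_subset (p : ℕ) : NsetE D p ⊆ Nset D := fun r hr => hr.1

/-- `n̂_r(c)` -/
def nH (X : ℕ → F → M) (D : ChevalleyDatum) (r : ℕ) (c : F) : M := wordX X (D.nWord r c)
/-- `ĥ_r(c)` -/
def hH (X : ℕ → F → M) (D : ChevalleyDatum) (r : ℕ) (c : F) : M := wordX X (D.hWord r c)

theorem nH_eq (X : ℕ → F → M) (r : ℕ) (c : F) :
    nH X D r c = X r c * X (D.neg r) (-c⁻¹) * X r c := by
  simp [nH, ChevalleyDatum.nWord, wordX, mul_assoc]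

theorem hH_eq (X : ℕ → F → M) (r : ℕ) (c : F) : hH X D r c = nH X D r c * nH X D r (-1) := by
  unfold hH nH ChevalleyDatum.hWord
  rw [wordX_append]

/-- the rank one subgroup `⟨X_p, X_{-p}⟩` -/
def GP (X : ℕ → F → M) (D : ChevalleyDatum) (p : ℕ) : Subgroup M :=
  Subgroup.closure {g | ∃ t : F, g = X p t ∨ g = X (D.neg p) t}

theorem X_mem_GP (X : ℕ → F → M) (p : ℕ) (t : F) : X p t ∈ GP X D p :=
  Subgroup.subset_closure ⟨t, Or.inl rfl⟩

theorem X_neg_mem_GP (X : ℕ → F → M) (p : ℕ) (t : F) : X (D.neg p) t ∈ GP X D p :=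
  Subgroup.subset_closure ⟨t, Or.inr rfl⟩

theorem nH_mem_GP (X : ℕ → F → M) (p : ℕ) (c : F) : nH X D p c ∈ GP X D p := by
  rw [nH_eq]
  exact Subgroup.mul_mem _ (Subgroup.mul_mem _ (X_mem_GP X p c) (X_neg_mem_GP X p _)) (X_mem_GP X p c)

theorem hH_mem_GP (X : ℕ → F → M) (p : ℕ) (c : F) : hH X D p c ∈ GP X D p := by
  rw [hH_eq]
  exact Subgroup.mul_mem _ (nH_mem_GP X p c) (nH_mem_GP X p _)

theorem GP_le_normalizer {X : ℕ → F → M} (h : R12 D X) {p : ℕ} {S : Set ℕ} (h1 : CollS D p S)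
    (h2 : CollS D (D.neg p) S) : GP X D p ≤ Subgroup.normalizer (US X S : Set M) := by
  unfold GP
  rw [Subgroup.closure_le]
  rintro g ⟨t, rfl | rfl⟩
  · exact X_mem_normalizer h h1 t
  · exact X_mem_normalizer h h2 t

section main

variable {X : ℕ → F → M} (h : R12 D X) (hD : IsTabulated D) (π : M →* GL D.Idx F)
  (hπ : ∀ r < D.nroots, ∀ t : F, π (X r t) = xU (basicOK_of_tabulated hD) r t)
include h hπ

theorem inj_pos {g₁ g₂ : M} (h1 : g₁ ∈ US X (Pset D)) (h2 : g₂ ∈ US X (Pset D))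
    (e : π g₁ = π g₂) : g₁ = g₂ := by
  have Δ := bnData_of_tabulated F hD
  have hG := goodL_pos (F := F) hD (D.nroots / 2) (D.nroots / 2) le_rfl Δ.even
  have hle : US X (Pset D) ≤ UL X (List.range' (D.nroots / 2) (D.nroots / 2)) := by
    apply US_le
    intro r hr t
    apply X_mem_UL
    rw [List.mem_range'_1]
    have := Δ.even
    have h3 : r < D.nroots := hr.2
    exact ⟨hr.1, by omega⟩
  exact eq_of_good h _ π hπ hG (hle h1) (hle h2) e

theorem inj_neg {g₁ g₂ : M} (h1 : g₁ ∈ US X (Nset D)) (h2 : g₂ ∈ US X (Nset D))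
    (e : π g₁ = π g₂) : g₁ = g₂ := by
  have Δ := bnData_of_tabulated F hD
  have hB := basicOK_of_tabulated hD
  have hG := goodL_neg (F := F) hD (rhoChk_of_tabulated hD) (negOrdChk_of_tabulated hD)
    (D.nroots / 2) (D.nroots / 2) le_rfl Δ.even
  have hw0 := w0Chk_of_tabulated hD
  simp only [w0Chk, Bool.and_eq_true, allL_iff, allLt_iff, Nat.blt_eq] at hw0
  obtain ⟨hL, hchk⟩ := hw0
  have hLr : ∀ i ∈ (w0Word D).reverse, i < D.rank := fun i hi => hL i (List.mem_reverse.1 hi)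
  have hle : US X (Nset D) ≤
      UL X ((List.range' (D.nroots / 2) (D.nroots / 2)).map (wFold D (w0Word D))) := by
    apply US_le
    intro r hr t
    apply X_mem_UL
    have hrN : r < D.nroots / 2 := hr
    have hr' : r < D.nroots := by have := Δ.even; omega
    rw [List.mem_map]
    refine ⟨wFold D (w0Word D).reverse r, ?_, wFold_wFold_reverse hB Δ.hAll hL hr'⟩
    rw [List.mem_range'_1]
    have h3 := hchk r hr'
    have hble : Nat.ble (D.nroots / 2) r = false := by
      cases hb : Nat.ble (D.nroots / 2) r with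
      | false => rfl
      | true => have := Nat.ble_eq ▸ hb; omega
    rw [hble] at h3
    simp only [cond_false, Nat.ble_eq] at h3
    rw [wFoldD_eq hB Δ.hF Δ.hn Δ.hAll hLr hr'] at h3
    have := wFold_lt hB Δ.hAll hLr hr'
    have := Δ.even
    omega
  exact eq_of_good h _ π hπ hG (hle h1) (hle h2) e

theorem map_wordX (w : List (ℕ × F)) (hw : ∀ p ∈ w, p.1 < D.nroots) :
    π (wordX X w) = wordU (basicOK_of_tabulated hD) w := by
  induction w with
  | nil => rw [wordX_nil, map_one]; simp [wordU]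
  | cons p w ih =>
    have e : wordU (basicOK_of_tabulated hD) (p :: w) =
        xU (basicOK_of_tabulated hD) p.1 p.2 * wordU (basicOK_of_tabulated hD) w := by
      unfold wordU
      simp only [List.map_cons, List.prod_cons]
    rw [wordX_cons, e, map_mul, hπ p.1 (hw p List.mem_cons_self),
      ih (fun q hq => hw q (List.mem_cons_of_mem _ hq))]

theorem map_nH {r : ℕ} (hr : r < D.nroots) {c : F} (hc : c ≠ 0) :
    π (nH X D r c) = nU (basicOK_of_tabulated hD) r hc := by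
  have hB := basicOK_of_tabulated hD
  unfold nH
  rw [map_wordX h hD π hπ]
  · apply Units.ext
    rw [wordU_val, nU_val]
    rfl
  · intro p hp
    simp only [ChevalleyDatum.nWord, List.mem_cons, List.not_mem_nil, or_false] at hp
    rcases hp with rfl | rfl | rfl
    · exact hr
    · exact (hB.neg r hr).1
    · exact hr

theorem map_hH_val {r : ℕ} (hr : r < D.nroots) (c : F) :
    ((π (hH X D r c) : GL D.Idx F) : Matrix D.Idx D.Idx F) = D.hMat F r c := by
  have hB := basicOK_of_tabulated hD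
  unfold hH
  rw [map_wordX h hD π hπ]
  · rw [wordU_val]
    rfl
  · intro p hp
    simp only [ChevalleyDatum.hWord, ChevalleyDatum.nWord, List.mem_append, List.mem_cons,
      List.not_mem_nil, or_false] at hp
    rcases hp with (rfl | rfl | rfl) | (rfl | rfl | rfl)
    · exact hr
    · exact (hB.neg r hr).1
    · exact hr
    · exact hr
    · exact (hB.neg r hr).1
    · exact hr

variable {i : ℕ} (hi : i < D.rank)
include hi

theorem collS_pos : CollS D (D.simple i) (PsetE D (D.simple i)) ∧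
    CollS D (D.neg (D.simple i)) (PsetE D (D.simple i)) := by
  have Δ := bnData_of_tabulated F hD
  have hB := basicOK_of_tabulated hD
  have hp := (Δ.hAll i hi).hS.1
  have hnp := Δ.hnp hi
  have hpN := Δ.hpN i hi
  have hneg := hB.neg _ hp
  have key : ∀ s ∈ PsetE D (D.simple i),
      (∀ c ∈ D.commTerms (D.simple i) s, c.1 ∈ PsetE D (D.simple i)) ∧
      (∀ c ∈ D.commTerms (D.neg (D.simple i)) s, c.1 ∈ PsetE D (D.simple i)) := by
    intro s hs
    obtain ⟨k1, k2⟩ := radChk_spec Δ.hB Δ.hF (Δ.hR i hi) Δ.hC Δ.hsign' hp hpN hnp hs.2.1 hs.1 hs.2.2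
    constructor
    · intro c hc
      obtain ⟨c1, c2⟩ := k1 c hc
      exact ⟨(Δ.hsign' _ c1.1).1 c1, c1.1, c2⟩
    · intro c hc
      obtain ⟨c1, c2⟩ := k2 c hc
      exact ⟨(Δ.hsign' _ c1.1).1 c1, c1.1, c2⟩
  constructor
  · refine ⟨hp, fun s hs => ⟨hs.2.1, hs.2.2, ?_, (key s hs).1⟩⟩
    have := hs.1
    omega
  · refine ⟨hneg.1, fun s hs => ⟨hs.2.1, ?_, ?_, (key s hs).2⟩⟩
    · have := hs.1
      omega
    · rw [hneg.2.2]
      exact hs.2.2

theorem collS_neg : CollS D (D.simple i) (NsetE D (D.simple i)) ∧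
    CollS D (D.neg (D.simple i)) (NsetE D (D.simple i)) := by
  have Δ := bnData_of_tabulated F hD
  have hB := basicOK_of_tabulated hD
  have hF := fastOK_of_tabulated hD
  have hp := (Δ.hAll i hi).hS.1
  have hnp := Δ.hnp hi
  have hpN := Δ.hpN i hi
  have hneg := hB.neg _ hp
  have hchk := allLt_iff.1 (nradChk_of_tabulated hD) i hi
  simp only [nradChk, allLt_iff, Bool.or_eq_true, Bool.and_eq_true, Nat.blt_eq, Nat.beq_eq,
    allL_iff, Bool.not_eq_true'] at hchk
  have key : ∀ s ∈ NsetE D (D.simple i),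
      (∀ c ∈ D.commTerms (D.simple i) s, c.1 ∈ NsetE D (D.simple i)) ∧
      (∀ c ∈ D.commTerms (D.neg (D.simple i)) s, c.1 ∈ NsetE D (D.simple i)) := by
    intro s hs
    rcases hchk s hs.1 with h1 | h1
    · rw [negF_eq hF.chk] at h1
      exact absurd h1 hs.2
    · rw [ceF_eq hF.keys hF.chk, negF_eq hF.chk, commTermsG_eq] at h1
      constructor
      · intro c hc
        obtain ⟨c1, c2⟩ := h1.1 c hc
        exact ⟨c1, Nat.ne_of_beq_eq_false c2⟩
      · intro c hc
        obtain ⟨c1, c2⟩ := h1.2 c hc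
        exact ⟨c1, Nat.ne_of_beq_eq_false c2⟩
  have hlt : ∀ s ∈ NsetE D (D.simple i), s < D.nroots := by
    intro s hs
    have := hs.1
    have := Δ.even
    omega
  constructor
  · refine ⟨hp, fun s hs => ⟨hlt s hs, ?_, hs.2, (key s hs).1⟩⟩
    have := hs.1
    omega
  · refine ⟨hneg.1, fun s hs => ⟨hlt s hs, hs.2, ?_, (key s hs).2⟩⟩
    rw [hneg.2.2]
    have := hs.1
    omega

/-- the soft argument, positive side -/
theorem conj_eq_pos {g : M} (hg : g ∈ GP X D (D.simple i)) {s s' : ℕ}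
    (hs : s ∈ PsetE D (D.simple i)) (hs' : s' ∈ Pset D) {u u' : F}
    (e : π g * xU (basicOK_of_tabulated hD) s u * (π g)⁻¹ = xU (basicOK_of_tabulated hD) s' u') :
    g * X s u * g⁻¹ = X s' u' := by
  obtain ⟨c1, c2⟩ := collS_pos h hD π hπ hi
  have hn := GP_le_normalizer h c1 c2 hg
  have h1 : g * X s u * g⁻¹ ∈ US X (Pset D) :=
    US_mono X (PsetE_subset _) ((Subgroup.mem_normalizer_iff.1 hn _).1 (X_mem_US X hs u))
  refine inj_pos h hD π hπ h1 (X_mem_US X hs' u') ?_
  rw [map_mul, map_mul, map_inv, hπ s hs.2.1, hπ s' hs'.2, e]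

/-- the soft argument, negative side -/
theorem conj_eq_neg {g : M} (hg : g ∈ GP X D (D.simple i)) {s s' : ℕ}
    (hs : s ∈ NsetE D (D.simple i)) (hs' : s' ∈ Nset D) {u u' : F}
    (e : π g * xU (basicOK_of_tabulated hD) s u * (π g)⁻¹ = xU (basicOK_of_tabulated hD) s' u') :
    g * X s u * g⁻¹ = X s' u' := by
  have Δ := bnData_of_tabulated F hD
  obtain ⟨c1, c2⟩ := collS_neg h hD π hπ hi
  have hn := GP_le_normalizer h c1 c2 hg
  have h1 : g * X s u * g⁻¹ ∈ US X (Nset D) :=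
    US_mono X (NsetE_subset _) ((Subgroup.mem_normalizer_iff.1 hn _).1 (X_mem_US X hs u))
  have hsn : s < D.nroots := by have := hs.1; have := Δ.even; omega
  have hsn' : s' < D.nroots := by have : s' < D.nroots / 2 := hs'; have := Δ.even; omega
  refine inj_neg h hD π hπ h1 (X_mem_US X hs' u') ?_
  rw [map_mul, map_mul, map_inv, hπ s hsn, hπ s' hsn', e]

/-- the reflection `w_p` preserves the sign of the roots other than `±p` -/
theorem wR_mem {s : ℕ} (hs : s < D.nroots) (h1 : s ≠ D.simple i) (h2 : s ≠ D.neg (D.simple i)) :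
    (s ∈ PsetE D (D.simple i) ∧ wR D (D.simple i) s ∈ Pset D) ∨
    (s ∈ NsetE D (D.simple i) ∧ wR D (D.simple i) s ∈ Nset D) := by
  have Δ := bnData_of_tabulated F hD
  have hB := basicOK_of_tabulated hD
  have hA := Δ.hAll i hi
  have hp := hA.hS.1
  have hnegp := hB.neg _ hp
  by_cases hsN : D.nroots / 2 ≤ s
  · left
    refine ⟨⟨hsN, hs, h1⟩, ?_⟩
    have hpos := (Δ.hsign' s hs).2 hsN
    obtain ⟨w1, w2⟩ := Δ.wpos hi hpos h1
    exact ⟨(Δ.hsign' _ w1.1).1 w1, w1.1⟩
  · right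
    have hsN' : s < D.nroots / 2 := by omega
    refine ⟨⟨hsN', h2⟩, ?_⟩
    have hnegs := hB.neg s hs
    have hns := Δ.hnegpos hs hsN'
    have hpos := (Δ.hsign' _ hnegs.1).2 hns
    have hne : D.neg s ≠ D.simple i := by
      intro e
      apply h2
      rw [← e, hnegs.2.2]
    obtain ⟨w1, w2⟩ := Δ.wpos hi hpos hne
    have hw := hA.hC.negw s hs
    have hwlt := wR_lt hB hp hA.hR hs
    rw [hw] at w1
    have h5 := (Δ.hsign' _ w1.1).1 w1
    have h6 := Δ.neg_eq hwlt
    have := Δ.even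
    change wR D (D.simple i) s < D.nroots / 2
    omega

/-- relation (3) for the roots other than `±p` -/
theorem nH_conj_X {s : ℕ} (hs : s < D.nroots) (h1 : s ≠ D.simple i) (h2 : s ≠ D.neg (D.simple i))
    (u : F) :
    nH X D (D.simple i) 1 * X s u * (nH X D (D.simple i) 1)⁻¹ =
      X (wR D (D.simple i) s) (((etaR D (D.simple i) s : ℤ) : F) * u) := by
  have Δ := bnData_of_tabulated F hD
  have hB := basicOK_of_tabulated hD
  have hA := Δ.hAll i hi
  have e := nU_conj_xU hB hA hs u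
  rw [← map_nH h hD π hπ hA.hS.1 (one_ne_zero (α := F))] at e
  rcases wR_mem h hD π hπ hi hs h1 h2 with ⟨a1, a2⟩ | ⟨a1, a2⟩
  · exact conj_eq_pos h hD π hπ hi (nH_mem_GP X _ 1) a1 a2 e
  · exact conj_eq_neg h hD π hπ hi (nH_mem_GP X _ 1) a1 a2 e

/-- relation (4) for the roots other than `±p` -/
theorem hH_conj_X {s : ℕ} (hs : s < D.nroots) (h1 : s ≠ D.simple i) (h2 : s ≠ D.neg (D.simple i))
    {c : F} (hc : c ≠ 0) (u : F) :
    hH X D (D.simple i) c * X s u * (hH X D (D.simple i) c)⁻¹ =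
      X s (c ^ (D.cartan i s) * u) := by
  have Δ := bnData_of_tabulated F hD
  have hB := basicOK_of_tabulated hD
  have hA := Δ.hAll i hi
  have hm := hMat_mul_x hB hA.hS hA.hR (Δ.hAdd i hi) hi hs hc u
  have e : π (hH X D (D.simple i) c) * xU hB s u * (π (hH X D (D.simple i) c))⁻¹ =
      xU hB s (c ^ (D.cartan i s) * u) := by
    rw [mul_inv_eq_iff_eq_mul]
    apply Units.ext
    rw [Units.val_mul, Units.val_mul, xU_val, xU_val, map_hH_val h hD π hπ hA.hS.1]
    exact hm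
  have hsame : ∀ s, s ∈ PsetE D (D.simple i) → s ∈ Pset D := fun s hs => PsetE_subset _ hs
  by_cases hsN : D.nroots / 2 ≤ s
  · exact conj_eq_pos h hD π hπ hi (hH_mem_GP X _ c) ⟨hsN, hs, h1⟩ ⟨hsN, hs⟩ e
  · have hsN' : s < D.nroots / 2 := by omega
    exact conj_eq_neg h hD π hπ hi (hH_mem_GP X _ c) ⟨hsN', h2⟩ hsN' e

end main

end Cfsg.Agent.Helper2.Stb
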