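import Mathlib
import Cfsg.Agent.Helper6.Chev.TablesBN

set_option autoImplicit false

/-! Steinberg presentation: witness pairs expressing the root elements of `±p_i` through a
commutator of root elements of other roots, with the table checks they need. -/

namespace Cfsg.Agent.Helper2.Stb

open Cfsg.Lie Cfsg.Agent.Helper6

/-- a commutator term whose root is in range and different from `±p` -/
def okT (D : ChevalleyDatum) (p np : ℕ) (c : ℕ × ℤ × ℕ × ℕ) : Bool :=
  Nat.blt c.1 D.nroots && !Nat.beq c.1 p && !Nat.beq c.1 np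

/-- exactly one term has root `p'`; it has coefficient `±1` and second exponent `1`, and the
other terms are `okT` -/
def splitChk (D : ChevalleyDatum) (p np p' : ℕ) : List (ℕ × ℤ × ℕ × ℕ) → Bool
  | [] => false
  | c :: T =>
    bif Nat.beq c.1 p' then
      (decide (c.2.1 = 1) || decide (c.2.1 = -1)) && Nat.beq c.2.2.2 1 && allL T (okT D p np)
    else okT D p np c && splitChk D p np p' T

/-- equality test for lists of commutator terms -/
def tBeq : List (ℕ × ℤ × ℕ × ℕ) → List (ℕ × ℤ × ℕ × ℕ) → Bool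
  | [], [] => true
  | a :: L, b :: L' => Nat.beq a.1 b.1 && decide (a.2.1 = b.2.1) && Nat.beq a.2.2.1 b.2.2.1 &&
      Nat.beq a.2.2.2 b.2.2.2 && tBeq L L'
  | _, _ => false

/-- the full check for a witness pair `(γ, δ)` for the root `p' = ±p_i` -/
def witChk (D : ChevalleyDatum) (i p' γ δ : ℕ) : Bool :=
  Nat.blt γ D.nroots && Nat.blt δ D.nroots &&
  !Nat.beq γ (D.simple i) && !Nat.beq γ (negF D (D.simple i)) &&
  !Nat.beq δ (D.simple i) && !Nat.beq δ (negF D (D.simple i)) &&
  !Nat.beq δ γ && !Nat.beq δ (negF D γ) &&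
  splitChk D (D.simple i) (negF D (D.simple i)) p' (commTermsG (ceF D) γ δ) &&
  tBeq (commTermsG (ceF D) (wD D i γ) (wD D i δ))
    ((commTermsG (ceF D) γ δ).map fun c => (wD D i c.1,
      etaD D i c.1 * c.2.1 * etaD D i γ ^ c.2.2.1 * etaD D i δ ^ c.2.2.2, c.2.2.1, c.2.2.2)) &&
  allL (commTermsG (ceF D) γ δ) fun c =>
    decide (cartanF D i c.1 = (c.2.2.1 : ℤ) * cartanF D i γ + (c.2.2.2 : ℤ) * cartanF D i δ)

/-- the witness pairs `(γ⁺, δ⁺, γ⁻, δ⁻)` for `p_i` and `-p_i` -/
def witList (D : ChevalleyDatum) : List (ℕ × ℕ × ℕ × ℕ) :=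
  if D.nroots = 12 then [(8, 5, 3, 6), (4, 10, 7, 1)]
  else if D.nroots = 8 then [(6, 3, 1, 4), (2, 7, 5, 0)]
  else if D.nroots = 24 then [(19, 9, 4, 14), (19, 5, 4, 18), (16, 9, 7, 14), (15, 9, 8, 14)]
  else if D.nroots = 48 then
    [(34, 20, 13, 27), (34, 14, 13, 33), (26, 23, 21, 24), (26, 22, 21, 25)]
  else if D.nroots = 72 then
    [(57, 29, 14, 42), (47, 32, 24, 39), (57, 15, 14, 56), (47, 25, 24, 46), (40, 32, 31, 39),
      (38, 34, 33, 37)]
  else if D.nroots = 126 then
    [(94, 52, 31, 73), (79, 56, 46, 69), (94, 32, 31, 93), (79, 47, 46, 78), (70, 56, 55, 69),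
      (67, 59, 58, 66), (65, 61, 60, 64)]
  else
    [(163, 104, 76, 135), (142, 109, 97, 130), (163, 77, 76, 162), (142, 98, 97, 141),
      (131, 109, 108, 130), (127, 113, 112, 126), (124, 116, 115, 123), (122, 118, 117, 121)]

/-- the witness pairs of the `i`-th fundamental root -/
def witTab (D : ChevalleyDatum) (i : ℕ) : ℕ × ℕ × ℕ × ℕ := (witList D).getD i (0, 0, 0, 0)

/-- all the witness checks of a datum -/
def witAllChk (D : ChevalleyDatum) : Bool :=
  allLt D.rank fun i =>
    witChk D i (D.simple i) (witTab D i).1 (witTab D i).2.1 &&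
    witChk D i (negF D (D.simple i)) (witTab D i).2.2.1 (witTab D i).2.2.2

set_option maxRecDepth 100000 in
theorem witAllChk_of_tabulated {D : ChevalleyDatum} (hD : IsTabulated D) : witAllChk D = true := by
  simp only [IsTabulated, List.mem_cons, List.not_mem_nil, or_false] at hD
  rcases hD with rfl | rfl | rfl | rfl | rfl | rfl | rfl <;> decide +kernel

end Cfsg.Agent.Helper2.Stb
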