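import Mathlib
import Cfsg.Agent.Helper2.Stb.Norm
import Cfsg.Agent.Helper2.Stb.TabWit

set_option autoImplicit false
set_option linter.unusedSectionVars false
set_option linter.unusedSimpArgs false
set_option linter.unusedVariables false

/-! Steinberg presentation, part 4: the relations (3), (4) for the roots `±p`, by rewriting a root
element of `±p` as a factor of a commutator of root elements of other roots. -/

namespace Cfsg.Agent.Helper2.Stb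

open Cfsg.Lie Cfsg.Agent.Helper6 Cfsg.Agent.Helper2.StPerf

variable {D : ChevalleyDatum} {F : Type*} [Field F] {M : Type*} [Group M]

theorem conj_wordX {X : ℕ → F → M} (g : M) (w' : ℕ → ℕ) (ε : ℕ → F) (W : List (ℕ × F))
    (hW : ∀ q ∈ W, g * X q.1 q.2 * g⁻¹ = X (w' q.1) (ε q.1 * q.2)) :
    g * wordX X W * g⁻¹ = wordX X (W.map fun q => (w' q.1, ε q.1 * q.2)) := by
  induction W with
  | nil => simp [wordX_nil]
  | cons q W ih =>
    rw [wordX_cons, List.map_cons, wordX_cons, ← hW q List.mem_cons_self,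
      ← ih (fun q' hq' => hW q' (List.mem_cons_of_mem _ hq'))]
    group

/-- the rewriting lemma, for words -/
theorem rewrite_mid {X : ℕ → F → M} (h : R12 D X) (g : M) (w' : ℕ → ℕ) (ε : ℕ → F) {γ δ : ℕ}
    (hγ : γ < D.nroots) (hδ : δ < D.nroots) (h1 : δ ≠ γ) (h2 : δ ≠ D.neg γ)
    (hγ' : w' γ < D.nroots) (hδ' : w' δ < D.nroots) (h1' : w' δ ≠ w' γ)
    (h2' : w' δ ≠ D.neg (w' γ))
    (kγ : ∀ x, g * X γ x * g⁻¹ = X (w' γ) (ε γ * x))
    (kδ : ∀ x, g * X δ x * g⁻¹ = X (w' δ) (ε δ * x))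
    {t u : F} {pre post : List (ℕ × F)} {p' : ℕ} {v : F}
    (hW : D.commWord F γ δ t u = pre ++ (p', v) :: post)
    (kpre : ∀ q ∈ pre, g * X q.1 q.2 * g⁻¹ = X (w' q.1) (ε q.1 * q.2))
    (kpost : ∀ q ∈ post, g * X q.1 q.2 * g⁻¹ = X (w' q.1) (ε q.1 * q.2))
    (hc : D.commWord F (w' γ) (w' δ) (ε γ * t) (ε δ * u) =
      (D.commWord F γ δ t u).map fun q => (w' q.1, ε q.1 * q.2)) :
    g * X p' v * g⁻¹ = X (w' p') (ε p' * v) := by
  have e1 := h.comm γ hγ δ hδ h1 h2 t u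
  have e2 := h.comm (w' γ) hγ' (w' δ) hδ' h1' h2' (ε γ * t) (ε δ * u)
  rw [hc, hW, List.map_append, List.map_cons, wordX_append, wordX_cons] at e2
  rw [hW, wordX_append, wordX_cons] at e1
  have e3 : g * ((X δ u)⁻¹ * (X γ t)⁻¹ * X δ u * X γ t) * g⁻¹ =
      (X (w' δ) (ε δ * u))⁻¹ * (X (w' γ) (ε γ * t))⁻¹ * X (w' δ) (ε δ * u) *
        X (w' γ) (ε γ * t) := by
    rw [← kγ t, ← kδ u]
    group
  rw [e1, e2] at e3
  have e4 := conj_wordX g w' ε pre kpre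
  have e5 := conj_wordX g w' ε post kpost
  have e6 : g * (wordX X pre * (X p' v * wordX X post)) * g⁻¹ =
      (g * wordX X pre * g⁻¹) * ((g * X p' v * g⁻¹) * (g * wordX X post * g⁻¹)) := by group
  rw [e6, e4, e5] at e3
  exact mul_right_cancel (mul_left_cancel e3)

/-- the rewriting lemma, for the terms of the commutator formula -/
theorem rewrite_terms {X : ℕ → F → M} (h : R12 D X) (g : M) (w' : ℕ → ℕ) (ε : ℕ → F) {γ δ : ℕ}
    (hγ : γ < D.nroots) (hδ : δ < D.nroots) (h1 : δ ≠ γ) (h2 : δ ≠ D.neg γ)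
    (hγ' : w' γ < D.nroots) (hδ' : w' δ < D.nroots) (h1' : w' δ ≠ w' γ)
    (h2' : w' δ ≠ D.neg (w' γ))
    (kγ : ∀ x, g * X γ x * g⁻¹ = X (w' γ) (ε γ * x))
    (kδ : ∀ x, g * X δ x * g⁻¹ = X (w' δ) (ε δ * x))
    {preT postT : List (ℕ × ℤ × ℕ × ℕ)} {p' : ℕ} {c₀ : ℤ} {a₀ : ℕ}
    (hT : D.commTerms γ δ = preT ++ (p', c₀, a₀, 1) :: postT) (hc₀ : c₀ * c₀ = 1)
    (kpre : ∀ c ∈ preT, ∀ x, g * X c.1 x * g⁻¹ = X (w' c.1) (ε c.1 * x))
    (kpost : ∀ c ∈ postT, ∀ x, g * X c.1 x * g⁻¹ = X (w' c.1) (ε c.1 * x))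
    (hc : ∀ t u : F, D.commWord F (w' γ) (w' δ) (ε γ * t) (ε δ * u) =
      (D.commWord F γ δ t u).map fun q => (w' q.1, ε q.1 * q.2)) (v : F) :
    g * X p' v * g⁻¹ = X (w' p') (ε p' * v) := by
  have hc₀F : ((c₀ : ℤ) : F) * ((c₀ : ℤ) : F) = 1 := by
    exact_mod_cast congrArg (fun z : ℤ => (z : F)) hc₀
  obtain ⟨τ, hτ⟩ : ∃ τ : ℕ × ℤ × ℕ × ℕ → ℕ × F, τ = fun c =>
    (c.1, ((c.2.1 : ℤ) : F) * (-(-1 : F)) ^ c.2.2.1 * (((c₀ : ℤ) : F) * v) ^ c.2.2.2) := ⟨_, rfl⟩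
  have hW : D.commWord F γ δ (-1) (((c₀ : ℤ) : F) * v) =
      preT.map τ ++ (p', v) :: postT.map τ := by
    unfold ChevalleyDatum.commWord
    rw [hT, List.map_append, List.map_cons, hτ]
    congr 2
    simp only [neg_neg, one_pow, mul_one, pow_one]
    rw [← mul_assoc, hc₀F, one_mul]
  refine rewrite_mid h g w' ε hγ hδ h1 h2 hγ' hδ' h1' h2' kγ kδ hW ?_ ?_ (hc _ _)
  · intro q hq
    rw [List.mem_map] at hq
    obtain ⟨c, hc', rfl⟩ := hq
    rw [hτ]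
    exact kpre c hc' _
  · intro q hq
    rw [List.mem_map] at hq
    obtain ⟨c, hc', rfl⟩ := hq
    rw [hτ]
    exact kpost c hc' _

theorem tBeq_iff : ∀ (L L' : List (ℕ × ℤ × ℕ × ℕ)), tBeq L L' = true ↔ L = L' := by
  intro L
  induction L with
  | nil =>
    intro L'
    cases L' with
    | nil => simp [tBeq]
    | cons b L' => simp [tBeq]
  | cons a L ih =>
    intro L'
    cases L' with
    | nil => simp [tBeq]
    | cons b L' =>
      obtain ⟨a1, a2, a3, a4⟩ := a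
      obtain ⟨b1, b2, b3, b4⟩ := b
      simp only [tBeq, Bool.and_eq_true, Nat.beq_eq, decide_eq_true_eq, ih, List.cons.injEq,
        Prod.mk.injEq]
      tauto

theorem splitChk_spec {p np p' : ℕ} : ∀ T : List (ℕ × ℤ × ℕ × ℕ), splitChk D p np p' T = true →
    ∃ pre mid post, T = pre ++ mid :: post ∧ mid.1 = p' ∧ (mid.2.1 = 1 ∨ mid.2.1 = -1) ∧
      mid.2.2.2 = 1 ∧ (∀ c ∈ pre, okT D p np c = true) ∧ (∀ c ∈ post, okT D p np c = true) := by
  intro T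
  induction T with
  | nil => intro h; simp [splitChk] at h
  | cons c T ih =>
    intro h
    unfold splitChk at h
    by_cases hb : Nat.beq c.1 p' = true
    · rw [hb, cond_true] at h
      simp only [Bool.and_eq_true, Bool.or_eq_true, decide_eq_true_eq, Nat.beq_eq, allL_iff] at h
      refine ⟨[], c, T, rfl, Nat.eq_of_beq_eq_true hb, h.1.1, h.1.2, ?_, h.2⟩
      intro c' hc'
      exact absurd hc' List.not_mem_nil
    · rw [Bool.not_eq_true] at hb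
      rw [hb, cond_false, Bool.and_eq_true] at h
      obtain ⟨pre, mid, post, e, m1, m2, m3, m4, m5⟩ := ih h.2
      refine ⟨c :: pre, mid, post, by rw [e]; rfl, m1, m2, m3, ?_, m5⟩
      intro c' hc'
      rcases List.mem_cons.1 hc' with rfl | hc''
      · exact h.1
      · exact m4 c' hc''

/-- the content of the witness check -/
structure WitOK (D : ChevalleyDatum) (i p' γ δ : ℕ) : Prop where
  hγ : γ < D.nroots
  hδ : δ < D.nroots
  γp : γ ≠ D.simple i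
  γn : γ ≠ D.neg (D.simple i)
  δp : δ ≠ D.simple i
  δn : δ ≠ D.neg (D.simple i)
  h1 : δ ≠ γ
  h2 : δ ≠ D.neg γ
  split : ∃ pre mid post, D.commTerms γ δ = pre ++ mid :: post ∧ mid.1 = p' ∧
    (mid.2.1 = 1 ∨ mid.2.1 = -1) ∧ mid.2.2.2 = 1 ∧
    (∀ c ∈ pre, c.1 < D.nroots ∧ c.1 ≠ D.simple i ∧ c.1 ≠ D.neg (D.simple i)) ∧
    (∀ c ∈ post, c.1 < D.nroots ∧ c.1 ≠ D.simple i ∧ c.1 ≠ D.neg (D.simple i))
  tw : D.commTerms (wR D (D.simple i) γ) (wR D (D.simple i) δ) =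
    (D.commTerms γ δ).map fun c => (wR D (D.simple i) c.1,
      etaR D (D.simple i) c.1 * c.2.1 * etaR D (D.simple i) γ ^ c.2.2.1 *
        etaR D (D.simple i) δ ^ c.2.2.2, c.2.2.1, c.2.2.2)
  add : ∀ c ∈ D.commTerms γ δ,
    D.cartan i c.1 = (c.2.2.1 : ℤ) * D.cartan i γ + (c.2.2.2 : ℤ) * D.cartan i δ

theorem okT_spec {p np : ℕ} {c : ℕ × ℤ × ℕ × ℕ} (h : okT D p np c = true) :
    c.1 < D.nroots ∧ c.1 ≠ p ∧ c.1 ≠ np := by
  simp only [okT, Bool.and_eq_true, Nat.blt_eq, Bool.not_eq_true'] at h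
  exact ⟨h.1.1, Nat.ne_of_beq_eq_false h.1.2, Nat.ne_of_beq_eq_false h.2⟩

theorem witOK_of_chk (hD : IsTabulated D) {i : ℕ} (hi : i < D.rank) {p' γ δ : ℕ}
    (hp' : p' < D.nroots) (h : witChk D i p' γ δ = true) : WitOK D i p' γ δ := by
  have hB := basicOK_of_tabulated hD
  have hF := fastOK_of_tabulated hD
  have hn := nroots_le_of_tabulated hD
  have hA := simpleAll_of_tabulated hD hi
  have hp := hA.hS.1
  have hwlt : ∀ s < D.nroots, wR D (D.simple i) s < D.nroots := fun s hs => wR_lt hB hp hA.hR hs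
  have hw : ∀ s < D.nroots, wD D i s = wR D (D.simple i) s := fun s hs => wD_eq hF hn hwlt hs
  have hη : ∀ s < D.nroots, etaD D i s = etaR D (D.simple i) s := fun s hs =>
    etaD_eq hF (fun s hs => etaR_pm hB hp hA.hR hs) hs
  simp only [witChk, Bool.and_eq_true, Nat.blt_eq, Bool.not_eq_true', allL_iff, decide_eq_true_eq,
    tBeq_iff] at h
  obtain ⟨⟨⟨⟨⟨⟨⟨⟨⟨⟨a1, a2⟩, a3⟩, a4⟩, a5⟩, a6⟩, a7⟩, a8⟩, a9⟩, a10⟩, a11⟩ := h
  rw [negF_eq hF.chk] at a4 a6 a8 a9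
  rw [ceF_eq hF.keys hF.chk, commTermsG_eq] at a9 a10 a11
  rw [cartanF_eq hF.chk] at a11
  obtain ⟨pre, mid, post, e, m1, m2, m3, m4, m5⟩ := splitChk_spec _ a9
  have hlt : ∀ c ∈ D.commTerms γ δ, c.1 < D.nroots := by
    intro c hc
    rw [e, List.mem_append, List.mem_cons] at hc
    rcases hc with hc | rfl | hc
    · exact (okT_spec (m4 c hc)).1
    · rw [m1]; exact hp'
    · exact (okT_spec (m5 c hc)).1
  refine ⟨a1, a2, Nat.ne_of_beq_eq_false a3, Nat.ne_of_beq_eq_false a4, Nat.ne_of_beq_eq_false a5,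
    Nat.ne_of_beq_eq_false a6, Nat.ne_of_beq_eq_false a7, Nat.ne_of_beq_eq_false a8,
    ⟨pre, mid, post, e, m1, m2, m3, fun c hc => okT_spec (m4 c hc),
      fun c hc => okT_spec (m5 c hc)⟩, ?_, a11⟩
  rw [hw γ a1, hw δ a2] at a10
  rw [a10]
  apply List.map_congr_left
  intro c hc
  rw [hw c.1 (hlt c hc), hη c.1 (hlt c hc), hη γ a1, hη δ a2]

end Cfsg.Agent.Helper2.Stb
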