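import Mathlib
import Cfsg.Agent.Helper2.Stb.Rewrite

set_option autoImplicit false
set_option linter.unusedSectionVars false
set_option linter.unusedSimpArgs false
set_option linter.unusedVariables false

/-! Steinberg presentation, part 5: the relations (3), (4) for all roots. -/

namespace Cfsg.Agent.Helper2.Stb

open Cfsg.Lie Cfsg.Agent.Helper6 Cfsg.Agent.Helper2.StPerf

variable {D : ChevalleyDatum} {F : Type*} [Field F] {M : Type*} [Group M]

section main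

variable {X : ℕ → F → M} (h : R12 D X) (hD : IsTabulated D) (π : M →* GL D.Idx F)
  (hπ : ∀ r < D.nroots, ∀ t : F, π (X r t) = xU (basicOK_of_tabulated hD) r t)
  {i : ℕ} (hi : i < D.rank)
include h hπ hi

/-- (3) for a root `p' = ±p` with a witness pair -/
theorem nH_conj_of_wit {p' γ δ : ℕ} (hW : WitOK D i p' γ δ) (v : F) :
    nH X D (D.simple i) 1 * X p' v * (nH X D (D.simple i) 1)⁻¹ =
      X (wR D (D.simple i) p') (((etaR D (D.simple i) p' : ℤ) : F) * v) := by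
  have hB := basicOK_of_tabulated hD
  have hA := simpleAll_of_tabulated hD hi
  have hp := hA.hS.1
  have hwlt : ∀ s < D.nroots, wR D (D.simple i) s < D.nroots := fun s hs => wR_lt hB hp hA.hR hs
  obtain ⟨pre, mid, post, e, m1, m2, m3, m4, m5⟩ := hW.split
  obtain ⟨q1, q2, q3, q4⟩ := mid
  simp only at m1 m2 m3
  subst m1 m3
  have hc₀ : q2 * q2 = 1 := by rcases m2 with rfl | rfl <;> norm_num
  have hnegγ := hB.neg γ hW.hγ
  refine rewrite_terms h (nH X D (D.simple i) 1) (wR D (D.simple i))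
    (fun ρ => ((etaR D (D.simple i) ρ : ℤ) : F)) hW.hγ hW.hδ hW.h1 hW.h2 (hwlt _ hW.hγ)
    (hwlt _ hW.hδ) ?_ ?_ ?_ ?_ e hc₀ ?_ ?_ ?_ v
  · intro e'
    exact hW.h1 (wR_inj hB hA hW.hδ hW.hγ e')
  · intro e'
    rw [← hA.hC.negw γ hW.hγ] at e'
    exact hW.h2 (wR_inj hB hA hW.hδ hnegγ.1 e')
  · intro x
    exact nH_conj_X h hD π hπ hi hW.hγ hW.γp hW.γn x
  · intro x
    exact nH_conj_X h hD π hπ hi hW.hδ hW.δp hW.δn x
  · intro c hc x
    obtain ⟨c1, c2, c3⟩ := m4 c hc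
    exact nH_conj_X h hD π hπ hi c1 c2 c3 x
  · intro c hc x
    obtain ⟨c1, c2, c3⟩ := m5 c hc
    exact nH_conj_X h hD π hπ hi c1 c2 c3 x
  · intro t u
    unfold ChevalleyDatum.commWord
    rw [hW.tw, List.map_map, List.map_map]
    apply List.map_congr_left
    intro c hc
    simp only [Function.comp]
    congr 1
    have hA2 := etaR_sq (F := F) hB hA hW.hγ
    have hB2 := etaR_sq (F := F) hB hA hW.hδ
    obtain ⟨A, hAdef⟩ : ∃ A : F, A = ((etaR D (D.simple i) γ : ℤ) : F) := ⟨_, rfl⟩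
    obtain ⟨B, hBdef⟩ : ∃ B : F, B = ((etaR D (D.simple i) δ : ℤ) : F) := ⟨_, rfl⟩
    rw [← hAdef] at hA2
    rw [← hBdef] at hB2
    have hA3 : A ^ c.2.2.1 * A ^ c.2.2.1 = 1 := by rw [← mul_pow, hA2, one_pow]
    have hB3 : B ^ c.2.2.2 * B ^ c.2.2.2 = 1 := by rw [← mul_pow, hB2, one_pow]
    push_cast
    rw [← hAdef, ← hBdef]
    have e1 : (-(A * t)) ^ c.2.2.1 = A ^ c.2.2.1 * (-t) ^ c.2.2.1 := by
      rw [← mul_pow]; congr 1; ring
    rw [e1, mul_pow]
    linear_combination (((etaR D (D.simple i) c.1 : ℤ) : F) * ((c.2.1 : ℤ) : F) * (-t) ^ c.2.2.1 *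
      u ^ c.2.2.2 * B ^ c.2.2.2 * B ^ c.2.2.2) * hA3 +
      (((etaR D (D.simple i) c.1 : ℤ) : F) * ((c.2.1 : ℤ) : F) * (-t) ^ c.2.2.1 *
      u ^ c.2.2.2) * hB3

/-- (4) for a root `p' = ±p` with a witness pair -/
theorem hH_conj_of_wit {p' γ δ : ℕ} (hW : WitOK D i p' γ δ) {c : F} (hc : c ≠ 0) (v : F) :
    hH X D (D.simple i) c * X p' v * (hH X D (D.simple i) c)⁻¹ =
      X p' (c ^ (D.cartan i p') * v) := by
  have hB := basicOK_of_tabulated hD
  have hA := simpleAll_of_tabulated hD hi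
  obtain ⟨pre, mid, post, e, m1, m2, m3, m4, m5⟩ := hW.split
  obtain ⟨q1, q2, q3, q4⟩ := mid
  simp only at m1 m2 m3
  subst m1 m3
  have hc₀ : q2 * q2 = 1 := by rcases m2 with rfl | rfl <;> norm_num
  refine rewrite_terms h (hH X D (D.simple i) c) id
    (fun ρ => c ^ (D.cartan i ρ)) hW.hγ hW.hδ hW.h1 hW.h2 hW.hγ hW.hδ hW.h1 hW.h2
    ?_ ?_ e hc₀ ?_ ?_ ?_ v
  · intro x
    exact hH_conj_X h hD π hπ hi hW.hγ hW.γp hW.γn hc x
  · intro x
    exact hH_conj_X h hD π hπ hi hW.hδ hW.δp hW.δn hc x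
  · intro c' hc' x
    obtain ⟨c1, c2, c3⟩ := m4 c' hc'
    exact hH_conj_X h hD π hπ hi c1 c2 c3 hc x
  · intro c' hc' x
    obtain ⟨c1, c2, c3⟩ := m5 c' hc'
    exact hH_conj_X h hD π hπ hi c1 c2 c3 hc x
  · intro t u
    unfold ChevalleyDatum.commWord
    rw [List.map_map]
    apply List.map_congr_left
    intro c' hc'
    simp only [Function.comp, id]
    congr 1
    have hadd := hW.add c' hc'
    have e1 : c ^ (D.cartan i c'.1) =
        (c ^ (D.cartan i γ)) ^ c'.2.2.1 * (c ^ (D.cartan i δ)) ^ c'.2.2.2 := by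
      rw [hadd, zpow_add₀ hc, ← zpow_natCast (c ^ (D.cartan i γ)) c'.2.2.1, ← zpow_mul,
        ← zpow_natCast (c ^ (D.cartan i δ)) c'.2.2.2, ← zpow_mul, mul_comm (c'.2.2.1 : ℤ),
        mul_comm (c'.2.2.2 : ℤ)]
    rw [e1]
    have e2 : (-(c ^ (D.cartan i γ) * t)) ^ c'.2.2.1 =
        (c ^ (D.cartan i γ)) ^ c'.2.2.1 * (-t) ^ c'.2.2.1 := by
      rw [← mul_pow]; congr 1; ring
    rw [e2, mul_pow]
    ring

/-- relation (3): `n̂_p x_s(u) n̂_p⁻¹ = x_{w_p s}(η u)`, for all roots -/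
theorem nH_conj_X_all {s : ℕ} (hs : s < D.nroots) (u : F) :
    nH X D (D.simple i) 1 * X s u * (nH X D (D.simple i) 1)⁻¹ =
      X (wR D (D.simple i) s) (((etaR D (D.simple i) s : ℤ) : F) * u) := by
  have hB := basicOK_of_tabulated hD
  have hF := fastOK_of_tabulated hD
  have hA := simpleAll_of_tabulated hD hi
  have hp := hA.hS.1
  have hchk := allLt_iff.1 (witAllChk_of_tabulated hD) i hi
  rw [Bool.and_eq_true, negF_eq hF.chk] at hchk
  by_cases h1 : s = D.simple i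
  · rw [h1]
    exact nH_conj_of_wit h hD π hπ hi (witOK_of_chk hD hi hp hchk.1) u
  · by_cases h2 : s = D.neg (D.simple i)
    · rw [h2]
      exact nH_conj_of_wit h hD π hπ hi (witOK_of_chk hD hi (hB.neg _ hp).1 hchk.2) u
    · exact nH_conj_X h hD π hπ hi hs h1 h2 u

/-- relation (4): `ĥ_p(c) x_s(u) ĥ_p(c)⁻¹ = x_s(c^{A_{p,s}} u)`, for all roots -/
theorem hH_conj_X_all {s : ℕ} (hs : s < D.nroots) {c : F} (hc : c ≠ 0) (u : F) :
    hH X D (D.simple i) c * X s u * (hH X D (D.simple i) c)⁻¹ =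
      X s (c ^ (D.cartan i s) * u) := by
  have hB := basicOK_of_tabulated hD
  have hF := fastOK_of_tabulated hD
  have hA := simpleAll_of_tabulated hD hi
  have hp := hA.hS.1
  have hchk := allLt_iff.1 (witAllChk_of_tabulated hD) i hi
  rw [Bool.and_eq_true, negF_eq hF.chk] at hchk
  by_cases h1 : s = D.simple i
  · rw [h1]
    exact hH_conj_of_wit h hD π hπ hi (witOK_of_chk hD hi hp hchk.1) hc u
  · by_cases h2 : s = D.neg (D.simple i)
    · rw [h2]
      exact hH_conj_of_wit h hD π hπ hi (witOK_of_chk hD hi (hB.neg _ hp).1 hchk.2) hc u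
    · exact hH_conj_X h hD π hπ hi hs h1 h2 hc u

end main

end Cfsg.Agent.Helper2.Stb
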