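import Mathlib
import Cfsg.Agent.Helper2.Stb.Rel34

set_option autoImplicit false
set_option linter.unusedSectionVars false
set_option linter.unusedSimpArgs false
set_option linter.unusedVariables false

/-! Steinberg presentation, part 6: the subgroups `Ĥ` and `N̂`. -/

namespace Cfsg.Agent.Helper2.Stb

open Cfsg.Lie Cfsg.Agent.Helper6 Cfsg.Agent.Helper2.StPerf

variable {D : ChevalleyDatum} {F : Type*} [Field F] {M : Type*} [Group M]

/-- the generators of `Ĥ` -/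
def HhGen (X : ℕ → F → M) (D : ChevalleyDatum) : Set M :=
  {g | ∃ i < D.rank, ∃ c : F, c ≠ 0 ∧ g = hH X D (D.simple i) c}

/-- the subgroup `Ĥ` generated by the `ĥ_p(c)`, `p` fundamental -/
def Hh (X : ℕ → F → M) (D : ChevalleyDatum) : Subgroup M := Subgroup.closure (HhGen X D)

/-- the elements `n̂_p`, `p` fundamental -/
def NhGen (X : ℕ → F → M) (D : ChevalleyDatum) : Set M :=
  {g | ∃ i < D.rank, g = nH X D (D.simple i) 1}

/-- the subgroup `N̂` generated by `Ĥ` and the `n̂_p` -/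
def Nh (X : ℕ → F → M) (D : ChevalleyDatum) : Subgroup M :=
  Subgroup.closure (HhGen X D ∪ NhGen X D)

/-- the product of the `n̂_p` along a word -/
def nWd (X : ℕ → F → M) (D : ChevalleyDatum) (L : List ℕ) : M :=
  (L.map fun i => nH X D (D.simple i) 1).prod

theorem nWd_nil (X : ℕ → F → M) : nWd X D [] = 1 := by simp [nWd]

theorem nWd_cons (X : ℕ → F → M) (i : ℕ) (L : List ℕ) :
    nWd X D (i :: L) = nH X D (D.simple i) 1 * nWd X D L := by simp [nWd]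

theorem nWd_append (X : ℕ → F → M) (L L' : List ℕ) :
    nWd X D (L ++ L') = nWd X D L * nWd X D L' := by simp [nWd]

theorem Hh_le_Nh (X : ℕ → F → M) : Hh X D ≤ Nh X D :=
  Subgroup.closure_mono Set.subset_union_left

theorem hH_mem_Hh (X : ℕ → F → M) {i : ℕ} (hi : i < D.rank) {c : F} (hc : c ≠ 0) :
    hH X D (D.simple i) c ∈ Hh X D := Subgroup.subset_closure ⟨i, hi, c, hc, rfl⟩

theorem nS_mem_Nh (X : ℕ → F → M) {i : ℕ} (hi : i < D.rank) : nH X D (D.simple i) 1 ∈ Nh X D :=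
  Subgroup.subset_closure (Or.inr ⟨i, hi, rfl⟩)

theorem nWd_mem_Nh (X : ℕ → F → M) {L : List ℕ} (hL : ∀ i ∈ L, i < D.rank) : nWd X D L ∈ Nh X D := by
  unfold nWd
  apply Subgroup.list_prod_mem
  intro g hg
  simp only [List.mem_map] at hg
  obtain ⟨i, hi, rfl⟩ := hg
  exact nS_mem_Nh X (hL i hi)

/-- `g` acts on every root subgroup by a scalar -/
def DiagP (X : ℕ → F → M) (D : ChevalleyDatum) (g : M) : Prop :=
  ∃ c : ℕ → F, ∀ r < D.nroots, c (D.neg r) * c r = 1 ∧ ∀ t : F, g * X r t * g⁻¹ = X r (c r * t)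

theorem DiagP.one (X : ℕ → F → M) : DiagP X D (1 : M) :=
  ⟨fun _ => 1, fun r hr => ⟨by simp, fun t => by simp⟩⟩

theorem DiagP.mul {X : ℕ → F → M} {g g' : M} (hg : DiagP X D g) (hg' : DiagP X D g') :
    DiagP X D (g * g') := by
  obtain ⟨c, hc⟩ := hg
  obtain ⟨d, hd⟩ := hg'
  refine ⟨fun r => c r * d r, fun r hr => ⟨?_, fun t => ?_⟩⟩
  · have h1 := (hc r hr).1
    have h2 := (hd r hr).1
    calc c (D.neg r) * d (D.neg r) * (c r * d r) = (c (D.neg r) * c r) * (d (D.neg r) * d r) := by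
          ring
      _ = 1 := by rw [h1, h2, one_mul]
  · have e : g * g' * X r t * (g * g')⁻¹ = g * (g' * X r t * g'⁻¹) * g⁻¹ := by group
    rw [e, (hd r hr).2, (hc r hr).2, mul_assoc]

theorem DiagP.inv {X : ℕ → F → M} (hB : BasicOK D) {g : M} (hg : DiagP X D g) :
    DiagP X D g⁻¹ := by
  obtain ⟨c, hc⟩ := hg
  refine ⟨fun r => c (D.neg r), fun r hr => ⟨?_, fun t => ?_⟩⟩
  · have hn := hB.neg r hr
    simp only
    rw [hn.2.2, mul_comm]
    exact (hc r hr).1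
  · have h1 := (hc r hr).2 (c (D.neg r) * t)
    rw [← mul_assoc, mul_comm (c r), (hc r hr).1, one_mul] at h1
    rw [← h1]
    group

section main

variable {X : ℕ → F → M} (h : R12 D X) (hD : IsTabulated D) (π : M →* GL D.Idx F)
  (hπ : ∀ r < D.nroots, ∀ t : F, π (X r t) = xU (basicOK_of_tabulated hD) r t)
include h hπ

theorem diagP_hH {i : ℕ} (hi : i < D.rank) {c : F} (hc : c ≠ 0) :
    DiagP X D (hH X D (D.simple i) c) := by
  have hB := basicOK_of_tabulated hD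
  refine ⟨fun r => c ^ (D.cartan i r), fun r hr => ⟨?_, fun t => ?_⟩⟩
  · simp only
    rw [(hB.negTab r hr).1 i hi, zpow_neg, inv_mul_cancel₀ (zpow_ne_zero _ hc)]
  · exact hH_conj_X_all h hD π hπ hi hr hc t

theorem diagP_of_mem_Hh {g : M} (hg : g ∈ Hh X D) : DiagP X D g := by
  have hB := basicOK_of_tabulated hD
  unfold Hh at hg
  induction hg using Subgroup.closure_induction with
  | mem g hg =>
    obtain ⟨i, hi, c, hc, rfl⟩ := hg
    exact diagP_hH h hD π hπ hi hc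
  | one => exact DiagP.one X
  | mul g₁ g₂ _ _ ih₁ ih₂ => exact ih₁.mul ih₂
  | inv g _ ih => exact ih.inv hB

/-- `n̂_p(-1) = n̂_p⁻¹` -/
theorem nH_neg_one {r : ℕ} (hr : r < D.nroots) : nH X D r (-1) = (nH X D r 1)⁻¹ := by
  have hB := basicOK_of_tabulated hD
  have hn := (hB.neg r hr).1
  rw [nH_eq, nH_eq, mul_inv_rev, mul_inv_rev, X_inv h hr, X_inv h hn, mul_assoc]
  norm_num

/-- `n̂_p(c) = ĥ_p(c) n̂_p` -/
theorem nH_eq_hH_mul {r : ℕ} (hr : r < D.nroots) (c : F) :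
    nH X D r c = hH X D r c * nH X D r 1 := by
  rw [hH_eq, nH_neg_one h hD π hπ hr, inv_mul_cancel_right]

/-- `n̂_p² = ĥ_p(-1)⁻¹` -/
theorem nS_sq {r : ℕ} (hr : r < D.nroots) :
    nH X D r 1 * nH X D r 1 = (hH X D r (-1))⁻¹ := by
  rw [hH_eq, nH_neg_one h hD π hπ hr, ← mul_inv_rev, inv_inv]

theorem nS_inv_eq {r : ℕ} (hr : r < D.nroots) :
    (nH X D r 1)⁻¹ = hH X D r (-1) * nH X D r 1 := by
  rw [hH_eq, nH_neg_one h hD π hπ hr, inv_mul_cancel_right]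

/-- `ĥ_q(a) n̂_p ĥ_q(a)⁻¹ = n̂_p(a^{A_{q,p}})` -/
theorem hH_conj_nS {i j : ℕ} (hi : i < D.rank) (hj : j < D.rank) {a : F} (ha : a ≠ 0) :
    hH X D (D.simple j) a * nH X D (D.simple i) 1 * (hH X D (D.simple j) a)⁻¹ =
      nH X D (D.simple i) (a ^ (D.cartan j (D.simple i))) := by
  have hB := basicOK_of_tabulated hD
  have hA := simpleAll_of_tabulated hD hi
  have hp := hA.hS.1
  have hn := hB.neg _ hp
  rw [nH_eq, nH_eq]
  have e : ∀ (g a b c : M), g * (a * b * c) * g⁻¹ = (g * a * g⁻¹) * (g * b * g⁻¹) * (g * c * g⁻¹) := by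
    intros; group
  rw [e, hH_conj_X_all h hD π hπ hj hp ha, hH_conj_X_all h hD π hπ hj hn.1 ha,
    (hB.negTab _ hp).1 j hj, zpow_neg]
  simp

/-- conjugation by `n̂_p` preserves `Ĥ` -/
theorem nS_conj_Hh {i : ℕ} (hi : i < D.rank) {g : M} (hg : g ∈ Hh X D) :
    nH X D (D.simple i) 1 * g * (nH X D (D.simple i) 1)⁻¹ ∈ Hh X D := by
  have hA := simpleAll_of_tabulated hD hi
  have hp := hA.hS.1
  refine conj_closure_mem' _ ?_ g hg
  rintro x ⟨j, hj, a, ha, rfl⟩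
  have h1 := hH_conj_nS h hD π hπ hi hj ha
  rw [nH_eq_hH_mul h hD π hπ hp (a ^ (D.cartan j (D.simple i)))] at h1
  -- `ĥ n̂ ĥ⁻¹ = ĥ' n̂`, so `n̂ ĥ n̂⁻¹ = ĥ'⁻¹ ĥ`
  obtain ⟨n, hn⟩ : ∃ n, n = nH X D (D.simple i) 1 := ⟨_, rfl⟩
  obtain ⟨k, hk⟩ : ∃ k, k = hH X D (D.simple j) a := ⟨_, rfl⟩
  obtain ⟨k', hk'⟩ : ∃ k', k' = hH X D (D.simple i) (a ^ (D.cartan j (D.simple i))) := ⟨_, rfl⟩
  rw [← hn, ← hk, ← hk'] at h1
  have h2 : nH X D (D.simple i) 1 * hH X D (D.simple j) a * (nH X D (D.simple i) 1)⁻¹ =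
      (hH X D (D.simple i) (a ^ (D.cartan j (D.simple i))))⁻¹ * hH X D (D.simple j) a := by
    rw [← hn, ← hk, ← hk']
    have h3 : k' = k * n * k⁻¹ * n⁻¹ := by rw [h1]; group
    rw [h3]
    group
  rw [h2]
  exact Subgroup.mul_mem _ (Subgroup.inv_mem _ (hH_mem_Hh X hi (zpow_ne_zero _ ha)))
    (hH_mem_Hh X hj ha)

end main

end Cfsg.Agent.Helper2.Stb
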