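import Mathlib
import Cfsg.Agent.Helper2.Stb.HN

set_option autoImplicit false
set_option linter.unusedSectionVars false
set_option linter.unusedSimpArgs false
set_option linter.unusedVariables false

/-! Steinberg presentation, part 7: the elements of `N̂` permute the root subgroups, and an
element of `N̂` mapping into `H` lies in `Ĥ` (deletion argument). -/

namespace Cfsg.Agent.Helper2.Stb

open Cfsg.Lie Cfsg.Agent.Helper6 Cfsg.Agent.Helper2.StPerf

variable {D : ChevalleyDatum} {F : Type*} [Field F] {M : Type*} [Group M]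

/-- conjugation by `g` permutes the root elements, compatibly with `r ↦ -r` -/
def RootP (X : ℕ → F → M) (D : ChevalleyDatum) (g : M) : Prop :=
  ∃ σ : ℕ → ℕ, ∃ c : ℕ → F, ∀ r < D.nroots, σ r < D.nroots ∧ σ (D.neg r) = D.neg (σ r) ∧
    c (D.neg r) * c r = 1 ∧ ∀ t : F, g * X r t * g⁻¹ = X (σ r) (c r * t)

theorem RootP.one (X : ℕ → F → M) : RootP X D (1 : M) :=
  ⟨id, fun _ => 1, fun r hr => ⟨hr, rfl, by simp, fun t => by simp⟩⟩

theorem RootP.mul {X : ℕ → F → M} {g g' : M} (hg : RootP X D g) (hg' : RootP X D g') :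
    RootP X D (g * g') := by
  obtain ⟨σ, c, h1⟩ := hg
  obtain ⟨τ, d, h2⟩ := hg'
  refine ⟨fun r => σ (τ r), fun r => c (τ r) * d r, fun r hr => ?_⟩
  obtain ⟨a1, a2, a3, a4⟩ := h2 r hr
  obtain ⟨b1, b2, b3, b4⟩ := h1 (τ r) a1
  refine ⟨b1, ?_, ?_, ?_⟩
  · simp only [a2, b2]
  · simp only [a2]
    calc c (D.neg (τ r)) * d (D.neg r) * (c (τ r) * d r)
        = (c (D.neg (τ r)) * c (τ r)) * (d (D.neg r) * d r) := by ring
      _ = 1 := by rw [b3, a3, one_mul]
  · intro t
    have : g * g' * X r t * (g * g')⁻¹ = g * (g' * X r t * g'⁻¹) * g⁻¹ := by group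
    rw [this, a4, b4, mul_assoc]

theorem rootP_of_diagP {X : ℕ → F → M} {g : M} (hg : DiagP X D g) : RootP X D g := by
  obtain ⟨c, hc⟩ := hg
  exact ⟨id, c, fun r hr => ⟨hr, rfl, (hc r hr).1, (hc r hr).2⟩⟩

/-- the subgroup of the elements that permute the root elements together with their inverses -/
def RootS (X : ℕ → F → M) (D : ChevalleyDatum) : Subgroup M where
  carrier := {g | RootP X D g ∧ RootP X D g⁻¹}
  one_mem' := ⟨RootP.one X, by rw [inv_one]; exact RootP.one X⟩
  mul_mem' := by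
    rintro g g' ⟨hg1, hg2⟩ ⟨hh1, hh2⟩
    exact ⟨hg1.mul hh1, by rw [_root_.mul_inv_rev]; exact hh2.mul hg2⟩
  inv_mem' := by
    rintro g ⟨hg1, hg2⟩
    exact ⟨hg2, by rw [inv_inv]; exact hg1⟩

theorem wR_self (p : ℕ) : wR D p p = D.neg p := by
  unfold wR
  rw [if_pos rfl]

theorem wFold_neg (hB : BasicOK D) (hAll : ∀ i < D.rank, SimpleAll D i) {L : List ℕ}
    (hL : ∀ i ∈ L, i < D.rank) {r : ℕ} (hr : r < D.nroots) :
    wFold D L (D.neg r) = D.neg (wFold D L r) := by
  induction L with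
  | nil => rfl
  | cons i L ih =>
    have hi := hL i List.mem_cons_self
    have hL' : ∀ j ∈ L, j < D.rank := fun j hj => hL j (List.mem_cons_of_mem _ hj)
    change wR D (D.simple i) (wFold D L (D.neg r)) = D.neg (wR D (D.simple i) (wFold D L r))
    rw [ih hL', (hAll i hi).hC.negw _ (wFold_lt hB hAll hL' hr)]

/-- a word sending a positive root to a negative root passes through a fundamental root -/
theorem exists_split_of_neg (Δ : BNData D F) : ∀ (L : List ℕ), (∀ i ∈ L, i < D.rank) →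
    ∀ r, D.nroots / 2 ≤ r → r < D.nroots → wFold D L.reverse r < D.nroots / 2 →
    ∃ Lv j Lr, L = Lv ++ j :: Lr ∧ wFold D Lv.reverse r = D.simple j := by
  intro L
  induction L with
  | nil =>
    intro _ r h1 _ h3
    change r < D.nroots / 2 at h3
    omega
  | cons i L ih =>
    intro hL r h1 h2 h3
    have hi := hL i List.mem_cons_self
    have hL' : ∀ j ∈ L, j < D.rank := fun j hj => hL j (List.mem_cons_of_mem _ hj)
    have e : ∀ (L' : List ℕ) (x : ℕ),
        wFold D (i :: L').reverse x = wFold D L'.reverse (wR D (D.simple i) x) := by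
      intro L' x
      simp [wFold, List.foldr_append]
    rw [e] at h3
    have hA := Δ.hAll i hi
    have hwlt := wR_lt Δ.hB hA.hS.1 hA.hR h2
    by_cases hr' : wR D (D.simple i) r < D.nroots / 2
    · refine ⟨[], i, L, rfl, ?_⟩
      change r = D.simple i
      by_contra hne
      have hpos := (Δ.hsign' r h2).2 h1
      obtain ⟨w1, _⟩ := Δ.wpos hi hpos hne
      have := (Δ.hsign' _ w1.1).1 w1
      omega
    · obtain ⟨Lv, j, Lr, e1, e2⟩ := ih hL' _ (by omega) hwlt h3
      refine ⟨i :: Lv, j, Lr, by rw [e1]; rfl, ?_⟩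
      rw [e, e2]

section main

variable {X : ℕ → F → M} (h : R12 D X) (hD : IsTabulated D) (π : M →* GL D.Idx F)
  (hπ : ∀ r < D.nroots, ∀ t : F, π (X r t) = xU (basicOK_of_tabulated hD) r t)
include h hπ

theorem rootP_nS {i : ℕ} (hi : i < D.rank) : RootP X D (nH X D (D.simple i) 1) := by
  have hB := basicOK_of_tabulated hD
  have hA := simpleAll_of_tabulated hD hi
  refine ⟨wR D (D.simple i), fun r => ((etaR D (D.simple i) r : ℤ) : F), fun r hr => ⟨?_, ?_, ?_, ?_⟩⟩
  · exact wR_lt hB hA.hS.1 hA.hR hr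
  · exact hA.hC.negw r hr
  · simp only
    rw [etaR_neg hB hA hr]
    exact etaR_sq hB hA hr
  · intro t
    exact nH_conj_X_all h hD π hπ hi hr t

theorem rootP_nS_inv {i : ℕ} (hi : i < D.rank) : RootP X D (nH X D (D.simple i) 1)⁻¹ := by
  have hB := basicOK_of_tabulated hD
  have hA := simpleAll_of_tabulated hD hi
  refine ⟨wR D (D.simple i), fun r => ((etaR D (D.simple i) (wR D (D.simple i) r) : ℤ) : F),
    fun r hr => ⟨?_, ?_, ?_, ?_⟩⟩
  · exact wR_lt hB hA.hS.1 hA.hR hr
  · exact hA.hC.negw r hr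
  · simp only
    have hw := wR_lt hB hA.hS.1 hA.hR hr
    rw [hA.hC.negw r hr, etaR_neg hB hA hw]
    exact etaR_sq hB hA hw
  · intro t
    have hw := wR_lt hB hA.hS.1 hA.hR hr
    have h1 := nH_conj_X_all h hD π hπ hi hw
      (((etaR D (D.simple i) (wR D (D.simple i) r) : ℤ) : F) * t)
    rw [wR_wR hB hA hr, ← mul_assoc, etaR_sq hB hA hw, one_mul] at h1
    rw [← h1]
    group

theorem Nh_le_RootS : Nh X D ≤ RootS X D := by
  have hB := basicOK_of_tabulated hD
  unfold Nh
  rw [Subgroup.closure_le]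
  rintro g (⟨i, hi, c, hc, rfl⟩ | ⟨i, hi, rfl⟩)
  · have h1 := diagP_hH h hD π hπ hi hc
    exact ⟨rootP_of_diagP h1, rootP_of_diagP (h1.inv hB)⟩
  · exact ⟨rootP_nS h hD π hπ hi, rootP_nS_inv h hD π hπ hi⟩

theorem map_nWd {L : List ℕ} (hL : ∀ i ∈ L, i < D.rank) :
    π (nWd X D L) = nW (basicOK_of_tabulated hD) F L := by
  induction L with
  | nil => simp [nWd, nW]
  | cons i L ih =>
    have hi := hL i List.mem_cons_self
    have hL' : ∀ j ∈ L, j < D.rank := fun j hj => hL j (List.mem_cons_of_mem _ hj)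
    have e : nW (basicOK_of_tabulated hD) F (i :: L) =
        nU (basicOK_of_tabulated hD) (D.simple i) (one_ne_zero (α := F)) *
          nW (basicOK_of_tabulated hD) F L := by
      simp [nW]
    rw [nWd_cons, map_mul, ih hL', e,
      map_nH h hD π hπ (simpleAll_of_tabulated hD hi).hS.1 (one_ne_zero (α := F))]

/-- conjugation by the product of the `n̂_p` along a word -/
theorem nWd_conj {L : List ℕ} (hL : ∀ i ∈ L, i < D.rank) :
    ∃ c : ℕ → F, ∀ r < D.nroots, c (D.neg r) * c r = 1 ∧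
      ∀ t : F, nWd X D L * X r t * (nWd X D L)⁻¹ = X (wFold D L r) (c r * t) := by
  have hB := basicOK_of_tabulated hD
  have Δ := bnData_of_tabulated F hD
  induction L with
  | nil => exact ⟨fun _ => 1, fun r hr => ⟨by simp, fun t => by simp [nWd_nil, wFold]⟩⟩
  | cons i L ih =>
    have hi := hL i List.mem_cons_self
    have hL' : ∀ j ∈ L, j < D.rank := fun j hj => hL j (List.mem_cons_of_mem _ hj)
    have hA := Δ.hAll i hi
    obtain ⟨c, hc⟩ := ih hL'
    refine ⟨fun r => ((etaR D (D.simple i) (wFold D L r) : ℤ) : F) * c r, fun r hr => ⟨?_, ?_⟩⟩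
    · simp only
      have hw := wFold_lt hB Δ.hAll hL' hr
      rw [wFold_neg hB Δ.hAll hL' hr, etaR_neg hB hA hw]
      calc ((etaR D (D.simple i) (wFold D L r) : ℤ) : F) * c (D.neg r) *
            (((etaR D (D.simple i) (wFold D L r) : ℤ) : F) * c r)
          = (((etaR D (D.simple i) (wFold D L r) : ℤ) : F) *
              ((etaR D (D.simple i) (wFold D L r) : ℤ) : F)) * (c (D.neg r) * c r) := by ring
        _ = 1 := by rw [etaR_sq hB hA hw, (hc r hr).1, one_mul]
    · intro t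
      have e : nWd X D (i :: L) * X r t * (nWd X D (i :: L))⁻¹ =
          nH X D (D.simple i) 1 * (nWd X D L * X r t * (nWd X D L)⁻¹) *
            (nH X D (D.simple i) 1)⁻¹ := by
        rw [nWd_cons]; group
      rw [e, (hc r hr).2, nH_conj_X_all h hD π hπ hi (wFold_lt hB Δ.hAll hL' hr), mul_assoc]
      rfl

theorem map_Hh_le {g : M} (hg : g ∈ Hh X D) : π g ∈ D.diagonalSubgroup F := by
  have hle : Hh X D ≤ (D.diagonalSubgroup F).comap π := by
    unfold Hh
    rw [Subgroup.closure_le]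
    rintro g ⟨i, hi, c, hc, rfl⟩
    rw [SetLike.mem_coe, Subgroup.mem_comap]
    apply Subgroup.subset_closure
    exact ⟨D.simple i, c, (simpleAll_of_tabulated hD hi).hS.1, hc,
      map_hH_val h hD π hπ (simpleAll_of_tabulated hD hi).hS.1 c⟩
  exact hle hg

/-- the deletion argument -/
theorem nWd_mem_Hh : ∀ (k : ℕ) (L : List ℕ), L.length = k → (∀ i ∈ L, i < D.rank) →
    π (nWd X D L) ∈ D.diagonalSubgroup F → nWd X D L ∈ Hh X D := by
  have hB := basicOK_of_tabulated hD
  have Δ := bnData_of_tabulated F hD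
  intro k
  induction k using Nat.strong_induction_on with
  | _ k IH =>
    intro L hk hL hH0
    cases L with
    | nil => rw [nWd_nil]; exact Subgroup.one_mem _
    | cons i₁ L₁ =>
      have hi₁ := hL i₁ List.mem_cons_self
      have hL₁ : ∀ j ∈ L₁, j < D.rank := fun j hj => hL j (List.mem_cons_of_mem _ hj)
      have hA := Δ.hAll i₁ hi₁
      have hp₁ := hA.hS.1
      have hpN := Δ.hpN i₁ hi₁
      have hnp₁ := (hB.neg _ hp₁).1
      rw [map_nWd h hD π hπ hL] at hH0
      have e0 : nW hB F (i₁ :: L₁) =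
          nU hB (D.simple i₁) (one_ne_zero (α := F)) * nW hB F L₁ := by simp [nW]
      -- the reversed tail sends `p₁` to a negative root
      have hβ : wFold D L₁.reverse (D.simple i₁) < D.nroots / 2 := by
        by_contra hβ
        have hβ' : D.nroots / 2 ≤ wFold D L₁.reverse (D.simple i₁) := by omega
        have hLr : ∀ i ∈ L₁.reverse, i < D.rank := fun i hi => hL₁ i (List.mem_reverse.1 hi)
        have hβlt := wFold_lt hB Δ.hAll hLr hp₁
        obtain ⟨t', ht'⟩ := nW_inv_conj (F := F) hB Δ.hAll hL₁ hp₁ (1 : F)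
        obtain ⟨h₀, hh₀⟩ : ∃ h₀, h₀ = nW hB F (i₁ :: L₁) := ⟨_, rfl⟩
        rw [← hh₀] at hH0 e0
        have e1 : nW hB F L₁ = (nU hB (D.simple i₁) (one_ne_zero (α := F)))⁻¹ * h₀ := by
          rw [e0]; group
        have e2 : (nW hB F L₁)⁻¹ * xU hB (D.simple i₁) 1 * nW hB F L₁ =
            h₀⁻¹ * (nU hB (D.simple i₁) (one_ne_zero (α := F)) * xU hB (D.simple i₁) 1 *
              (nU hB (D.simple i₁) (one_ne_zero (α := F)))⁻¹) * h₀⁻¹⁻¹ := by
          rw [e1]; group
        rw [nU_conj_xU hB hA hp₁, wR_self] at e2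
        obtain ⟨c, hc⟩ := Δ.diag_conj_xU (Subgroup.inv_mem _ hH0) hnp₁
        rw [hc, ht'] at e2
        have hmem : xU hB (wFold D L₁.reverse (D.simple i₁)) t' ∈ D.borelSubgroup F :=
          Δ.posUnipotent_le_borel (Δ.xU_pos_mem ((Δ.hsign' _ hβlt).2 hβ') t')
        rw [e2] at hmem
        have hz := Δ.eq_zero_of_xU_neg_mem_borel hnp₁ (Δ.hnp hi₁) hmem
        rw [hz, xU_zero] at e2
        rw [e2] at ht'
        have : xU hB (D.simple i₁) (1 : F) = 1 := by
          have e3 : xU hB (D.simple i₁) (1 : F) = nW hB F L₁ *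
              ((nW hB F L₁)⁻¹ * xU hB (D.simple i₁) 1 * nW hB F L₁) * (nW hB F L₁)⁻¹ := by group
          rw [e3, ht']; group
        exact Δ.xU_one_ne_one hp₁ this
      obtain ⟨Lv, j, Lr, e1, e2⟩ := exists_split_of_neg Δ L₁ hL₁ _ hpN hp₁ hβ
      have hLv : ∀ i ∈ Lv, i < D.rank := fun i hi => hL₁ i (by rw [e1]; simp [hi])
      have hLr : ∀ i ∈ Lr, i < D.rank := fun i hi => hL₁ i (by rw [e1]; simp [hi])
      have hj : j < D.rank := hL₁ j (by rw [e1]; simp)
      have hpj := (Δ.hAll j hj).hS.1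
      have hnpj := hB.neg _ hpj
      have hfold : wFold D Lv (D.simple j) = D.simple i₁ := by
        rw [← e2, wFold_wFold_reverse hB Δ.hAll hLv hp₁]
      obtain ⟨c, hc⟩ := nWd_conj h hD π hπ hLv
      obtain ⟨c1, c2⟩ := hc _ hpj
      obtain ⟨_, c3⟩ := hc _ hnpj.1
      rw [hfold] at c2
      rw [wFold_neg hB Δ.hAll hLv hpj, hfold] at c3
      obtain ⟨a, ha⟩ : ∃ a, a = c (D.simple j) := ⟨_, rfl⟩
      have ha' : c (D.neg (D.simple j)) = a⁻¹ := by
        rw [ha]; exact eq_inv_of_mul_eq_one_left c1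
      have ha0 : a ≠ 0 := by
        rw [ha]
        intro e
        rw [e, mul_zero] at c1
        exact zero_ne_one c1
      -- `n̂_v n̂_j n̂_v⁻¹ = ĥ_{p₁}(a) n̂_{p₁}`
      have e3 : nWd X D Lv * nH X D (D.simple j) 1 * (nWd X D Lv)⁻¹ =
          hH X D (D.simple i₁) a * nH X D (D.simple i₁) 1 := by
        rw [← nH_eq_hH_mul h hD π hπ hp₁, nH_eq, nH_eq]
        have e : ∀ (g a b c : M),
            g * (a * b * c) * g⁻¹ = (g * a * g⁻¹) * (g * b * g⁻¹) * (g * c * g⁻¹) := by
          intros; group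
        rw [e, c2, c3, ← ha, ha']
        simp
      have e4 : nWd X D (i₁ :: L₁) =
          (nH X D (D.simple i₁) 1 * hH X D (D.simple i₁) a * (nH X D (D.simple i₁) 1)⁻¹) *
            (nH X D (D.simple i₁) 1 * nH X D (D.simple i₁) 1) * nWd X D (Lv ++ Lr) := by
        have e5 : nWd X D Lv * nH X D (D.simple j) 1 =
            hH X D (D.simple i₁) a * nH X D (D.simple i₁) 1 * nWd X D Lv := by
          rw [← e3]; group
        rw [nWd_cons, e1, nWd_append, nWd_cons, nWd_append, ← mul_assoc (nWd X D Lv), e5]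
        group
      have hk1 : nH X D (D.simple i₁) 1 * hH X D (D.simple i₁) a * (nH X D (D.simple i₁) 1)⁻¹ ∈
          Hh X D := nS_conj_Hh h hD π hπ hi₁ (hH_mem_Hh X hi₁ ha0)
      have hk2 : nH X D (D.simple i₁) 1 * nH X D (D.simple i₁) 1 ∈ Hh X D := by
        rw [nS_sq h hD π hπ hp₁]
        exact Subgroup.inv_mem _ (hH_mem_Hh X hi₁ (by norm_num))
      have hkm := Subgroup.mul_mem _ hk1 hk2
      have hLvr : ∀ i ∈ Lv ++ Lr, i < D.rank := by
        intro i hi
        rcases List.mem_append.1 hi with hi | hi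
        · exact hLv i hi
        · exact hLr i hi
      have hlen : (Lv ++ Lr).length < k := by
        rw [← hk, e1]
        simp
      have hπ' : π (nWd X D (Lv ++ Lr)) ∈ D.diagonalSubgroup F := by
        have e6 : nWd X D (Lv ++ Lr) =
            ((nH X D (D.simple i₁) 1 * hH X D (D.simple i₁) a * (nH X D (D.simple i₁) 1)⁻¹) *
              (nH X D (D.simple i₁) 1 * nH X D (D.simple i₁) 1))⁻¹ * nWd X D (i₁ :: L₁) := by
          rw [e4]; group
        rw [e6, map_mul, map_inv, map_nWd h hD π hπ hL]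
        exact Subgroup.mul_mem _ (Subgroup.inv_mem _ (map_Hh_le h hD π hπ hkm)) hH0
      have := IH _ hlen (Lv ++ Lr) rfl hLvr hπ'
      rw [e4]
      exact Subgroup.mul_mem _ hkm this

/-- every element of `N̂` is an element of `Ĥ` times a product of `n̂_p`'s -/
theorem exists_Hh_mul_nWd {g : M} (hg : g ∈ Nh X D) :
    ∃ k ∈ Hh X D, ∃ L : List ℕ, (∀ i ∈ L, i < D.rank) ∧ g = k * nWd X D L := by
  unfold Nh at hg
  induction hg using Subgroup.closure_induction_left with
  | one => exact ⟨1, Subgroup.one_mem _, [], by simp, by simp [nWd_nil]⟩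
  | mul_left x hx y _ ih =>
    obtain ⟨k, hk, L, hL, rfl⟩ := ih
    rcases hx with ⟨i, hi, c, hc, rfl⟩ | ⟨i, hi, rfl⟩
    · exact ⟨hH X D (D.simple i) c * k, Subgroup.mul_mem _ (hH_mem_Hh X hi hc) hk, L, hL,
        by rw [mul_assoc]⟩
    · refine ⟨nH X D (D.simple i) 1 * k * (nH X D (D.simple i) 1)⁻¹,
        nS_conj_Hh h hD π hπ hi hk, i :: L, ?_, ?_⟩
      · intro j hj
        rcases List.mem_cons.1 hj with rfl | hj'
        · exact hi
        · exact hL j hj'
      · rw [nWd_cons]; group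
  | inv_mul_cancel x hx y _ ih =>
    obtain ⟨k, hk, L, hL, rfl⟩ := ih
    rcases hx with ⟨i, hi, c, hc, rfl⟩ | ⟨i, hi, rfl⟩
    · exact ⟨(hH X D (D.simple i) c)⁻¹ * k,
        Subgroup.mul_mem _ (Subgroup.inv_mem _ (hH_mem_Hh X hi hc)) hk, L, hL, by rw [mul_assoc]⟩
    · have hp := (simpleAll_of_tabulated hD hi).hS.1
      refine ⟨hH X D (D.simple i) (-1) *
        (nH X D (D.simple i) 1 * k * (nH X D (D.simple i) 1)⁻¹),
        Subgroup.mul_mem _ (hH_mem_Hh X hi (by norm_num)) (nS_conj_Hh h hD π hπ hi hk),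
        i :: L, ?_, ?_⟩
      · intro j hj
        rcases List.mem_cons.1 hj with rfl | hj'
        · exact hi
        · exact hL j hj'
      · rw [nWd_cons]
        conv_lhs => rw [nS_inv_eq h hD π hπ hp]
        group

/-- (5): an element of `N̂` mapping into `H` lies in `Ĥ` -/
theorem mem_Hh_of_map_mem {g : M} (hg : g ∈ Nh X D) (hπg : π g ∈ D.diagonalSubgroup F) :
    g ∈ Hh X D := by
  obtain ⟨k, hk, L, hL, rfl⟩ := exists_Hh_mul_nWd h hD π hπ hg
  refine Subgroup.mul_mem _ hk (nWd_mem_Hh h hD π hπ _ L rfl hL ?_)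
  have : π (nWd X D L) = (π k)⁻¹ * π (k * nWd X D L) := by
    rw [map_mul]; group
  rw [this]
  exact Subgroup.mul_mem _ (Subgroup.inv_mem _ (map_Hh_le h hD π hπ hk)) hπg

end main

end Cfsg.Agent.Helper2.Stb
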