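import Mathlib
import Cfsg.Agent.Helper2.Stb.Del

set_option autoImplicit false
set_option linter.unusedSectionVars false
set_option linter.unusedSimpArgs false
set_option linter.unusedVariables false

/-! Steinberg presentation, part 8: the Bruhat decomposition `M = B̂ N̂ B̂`. -/

namespace Cfsg.Agent.Helper2.Stb

open Cfsg.Lie Cfsg.Agent.Helper6 Cfsg.Agent.Helper2.StPerf

variable {D : ChevalleyDatum} {F : Type*} [Field F] {M : Type*} [Group M]

/-- `B̂ = Û Ĥ` -/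
def Bh (X : ℕ → F → M) (D : ChevalleyDatum) : Subgroup M := US X (Pset D) ⊔ Hh X D

/-- the set `B̂ N̂ B̂` -/
def BNB (X : ℕ → F → M) (D : ChevalleyDatum) : Set M :=
  {x | ∃ b ∈ Bh X D, ∃ n ∈ Nh X D, ∃ b' ∈ Bh X D, x = b * n * b'}

theorem U_le_Bh (X : ℕ → F → M) : US X (Pset D) ≤ Bh X D := le_sup_left
theorem Hh_le_Bh (X : ℕ → F → M) : Hh X D ≤ Bh X D := le_sup_right

theorem mul_mem_BNB {X : ℕ → F → M} {b₀ x : M} (hb : b₀ ∈ Bh X D) (hx : x ∈ BNB X D) :
    b₀ * x ∈ BNB X D := by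
  obtain ⟨b, hb1, n, hn, b', hb', rfl⟩ := hx
  exact ⟨b₀ * b, Subgroup.mul_mem _ hb hb1, n, hn, b', hb', by group⟩

section main

variable {X : ℕ → F → M} (h : R12 D X) (hD : IsTabulated D) (π : M →* GL D.Idx F)
  (hπ : ∀ r < D.nroots, ∀ t : F, π (X r t) = xU (basicOK_of_tabulated hD) r t)
include h hπ

theorem Hh_le_normalizer_U : Hh X D ≤ Subgroup.normalizer (US X (Pset D) : Set M) := by
  have hB := basicOK_of_tabulated hD
  have key : ∀ k ∈ Hh X D, ∀ g ∈ US X (Pset D), k * g * k⁻¹ ∈ US X (Pset D) := by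
    intro k hk
    obtain ⟨c, hc⟩ := diagP_of_mem_Hh h hD π hπ hk
    apply conj_closure_mem'
    rintro x ⟨r, hr, t, rfl⟩
    rw [(hc r hr.2).2]
    exact X_mem_US X hr _
  intro k hk
  rw [Subgroup.mem_normalizer_iff]
  intro g
  constructor
  · exact key k hk g
  · intro hg
    have := key k⁻¹ (Subgroup.inv_mem _ hk) _ hg
    have e : k⁻¹ * (k * g * k⁻¹) * k⁻¹⁻¹ = g := by group
    rwa [e] at this

/-- `b ∈ B̂` is `û ĥ` -/
theorem exists_of_mem_Bh {b : M} (hb : b ∈ Bh X D) :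
    ∃ u ∈ US X (Pset D), ∃ k ∈ Hh X D, b = u * k := by
  have h1 : (b : M) ∈ ((US X (Pset D) ⊔ Hh X D : Subgroup M) : Set M) := hb
  rw [Subgroup.coe_mul_of_right_le_normalizer_left _ _ (Hh_le_normalizer_U h hD π hπ),
    Set.mem_mul] at h1
  obtain ⟨u, hu, k, hk, e⟩ := h1
  exact ⟨u, hu, k, hk, e.symm⟩

variable {i : ℕ} (hi : i < D.rank)
include hi

/-- `Û = Û_p X̂_p` -/
theorem exists_of_mem_U {u : M} (hu : u ∈ US X (Pset D)) :
    ∃ y ∈ US X (PsetE D (D.simple i)), ∃ t : F, u = y * X (D.simple i) t := by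
  have Δ := bnData_of_tabulated F hD
  have hp := (Δ.hAll i hi).hS.1
  have hpN := Δ.hpN i hi
  obtain ⟨c1, _⟩ := collS_pos h hD π hπ hi
  unfold US at hu
  induction hu using Subgroup.closure_induction with
  | mem g hg =>
    obtain ⟨r, hr, t, rfl⟩ := hg
    by_cases e : r = D.simple i
    · exact ⟨1, Subgroup.one_mem _, t, by rw [e, one_mul]⟩
    · exact ⟨X r t, X_mem_US X (show r ∈ PsetE D (D.simple i) from ⟨hr.1, hr.2, e⟩) t, 0, by rw [X_zero h hp, mul_one]⟩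
  | one => exact ⟨1, Subgroup.one_mem _, 0, by rw [X_zero h hp, mul_one]⟩
  | mul g₁ g₂ _ _ ih₁ ih₂ =>
    obtain ⟨y₁, h1, t₁, rfl⟩ := ih₁
    obtain ⟨y₂, h2, t₂, rfl⟩ := ih₂
    refine ⟨y₁ * (X (D.simple i) t₁ * y₂ * (X (D.simple i) t₁)⁻¹),
      Subgroup.mul_mem _ h1 (conj_mem_US h c1 t₁ h2), t₁ + t₂, ?_⟩
    rw [← h.add _ hp]
    group
  | inv g _ ih =>
    obtain ⟨y, h1, t, rfl⟩ := ih
    refine ⟨X (D.simple i) (-t) * y⁻¹ * (X (D.simple i) (-t))⁻¹,
      conj_mem_US h c1 (-t) (Subgroup.inv_mem _ h1), -t, ?_⟩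
    rw [mul_inv_rev, X_inv h hp]
    group

/-- `n̂_p x_p(t) = x_{-p}(-t) n̂_p` -/
theorem nS_mul_X (t : F) :
    nH X D (D.simple i) 1 * X (D.simple i) t = X (D.neg (D.simple i)) (-t) * nH X D (D.simple i) 1 := by
  have Δ := bnData_of_tabulated F hD
  have hp := (Δ.hAll i hi).hS.1
  have h1 := nH_conj_X_all h hD π hπ hi hp t
  rw [wR_self] at h1
  have e : ((etaR D (D.simple i) (D.simple i) : ℤ) : F) = -1 := by
    simp [etaR]
  rw [e, neg_one_mul] at h1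
  rw [← h1]
  group

/-- `x_{-p}(-c) = x_p(-c⁻¹) ĥ_p(c⁻¹) n̂_p x_p(-c⁻¹)` -/
theorem X_neg_eq {c : F} (hc : c ≠ 0) :
    X (D.neg (D.simple i)) (-c) =
      X (D.simple i) (-c⁻¹) * (hH X D (D.simple i) c⁻¹ * nH X D (D.simple i) 1) *
        X (D.simple i) (-c⁻¹) := by
  have Δ := bnData_of_tabulated F hD
  have hp := (Δ.hAll i hi).hS.1
  rw [← nH_eq_hH_mul h hD π hπ hp, nH_eq, inv_inv, ← X_inv h hp]
  group

/-- the key step: `n̂_p B̂ N̂ B̂ ⊆ B̂ N̂ B̂` -/
theorem nS_mul_mem_BNB {x : M} (hx : x ∈ BNB X D) : nH X D (D.simple i) 1 * x ∈ BNB X D := by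
  have Δ := bnData_of_tabulated F hD
  have hB := basicOK_of_tabulated hD
  have hp := (Δ.hAll i hi).hS.1
  have hnp := (hB.neg _ hp).1
  obtain ⟨b, hb, n, hn, b', hb', rfl⟩ := hx
  obtain ⟨u, hu, k, hk, rfl⟩ := exists_of_mem_Bh h hD π hπ hb
  obtain ⟨y, hy, t, rfl⟩ := exists_of_mem_U h hD π hπ hi hu
  obtain ⟨nI, hnI⟩ : ∃ nI, nI = nH X D (D.simple i) 1 := ⟨_, rfl⟩
  rw [← hnI]
  have hnIN : nI ∈ Nh X D := by rw [hnI]; exact nS_mem_Nh X hi
  -- `y' = n̂ y n̂⁻¹ ∈ Û_p`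
  obtain ⟨c1, c2⟩ := collS_pos h hD π hπ hi
  have hnorm := GP_le_normalizer h c1 c2 (nH_mem_GP X (D.simple i) 1)
  rw [← hnI] at hnorm
  have hy' : nI * y * nI⁻¹ ∈ Bh X D :=
    U_le_Bh X (US_mono X (PsetE_subset _) ((Subgroup.mem_normalizer_iff.1 hnorm _).1 hy))
  -- `m = ĥ n`
  obtain ⟨m, hm⟩ : ∃ m, m = k * n := ⟨_, rfl⟩
  have hmN : m ∈ Nh X D := by rw [hm]; exact Subgroup.mul_mem _ (Hh_le_Nh X hk) hn
  obtain ⟨σ, c, hσ⟩ := (Nh_le_RootS h hD π hπ hmN).2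
  obtain ⟨s1, s2, s3, s4⟩ := hσ _ hp
  -- `x_p(t) m = m x_ρ(c t)`
  have hcomm : ∀ r < D.nroots, ∀ t : F, X r t * m = m * X (σ r) (c r * t) := by
    intro r hr t
    have := (hσ r hr).2.2.2 t
    rw [inv_inv] at this
    rw [← this]
    group
  by_cases hρ : D.nroots / 2 ≤ σ (D.simple i)
  · -- `ρ > 0`
    refine ⟨nI * y * nI⁻¹, hy', nI * m, Subgroup.mul_mem _ hnIN hmN,
      X (σ (D.simple i)) (c (D.simple i) * t) * b',
      Subgroup.mul_mem _ (U_le_Bh X (X_mem_US X (show σ (D.simple i) ∈ Pset D from ⟨hρ, s1⟩) _)) hb', ?_⟩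
    calc nI * (y * X (D.simple i) t * k * n * b')
        = nI * y * (X (D.simple i) t * (k * n)) * b' := by group
      _ = nI * y * (m * X (σ (D.simple i)) (c (D.simple i) * t)) * b' := by
          rw [← hm, hcomm _ hp]
      _ = _ := by group
  · -- `ρ < 0`
    have hρ' : σ (D.simple i) < D.nroots / 2 := by omega
    by_cases ht : t = 0
    · refine ⟨nI * y * nI⁻¹, hy', nI * m, Subgroup.mul_mem _ hnIN hmN, b', hb', ?_⟩
      rw [ht, X_zero h hp, hm]
      group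
    · -- `n̂ n̂ = k₂ ∈ Ĥ`
      have hk2 : nI * nI ∈ Hh X D := by
        rw [hnI, nS_sq h hD π hπ hp]
        exact Subgroup.inv_mem _ (hH_mem_Hh X hi (by norm_num))
      obtain ⟨d, hd⟩ := (diagP_of_mem_Hh h hD π hπ hk2).inv hB
      have hd' : ∀ s : F, X (D.neg (D.simple i)) s * (nI * nI) =
          (nI * nI) * X (D.neg (D.simple i)) (d (D.neg (D.simple i)) * s) := by
        intro s
        have := (hd _ hnp).2 s
        rw [inv_inv] at this
        rw [← this]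
        group
      have hnegρ : D.nroots / 2 ≤ D.neg (σ (D.simple i)) := Δ.hnegpos s1 hρ'
      have hnegρlt : D.neg (σ (D.simple i)) < D.nroots := (hB.neg _ s1).1
      have ht' : t⁻¹ ≠ 0 := inv_ne_zero ht
      refine ⟨nI * y * nI⁻¹ * X (D.simple i) (-t⁻¹) * hH X D (D.simple i) t⁻¹ * (nI * nI), ?_,
        m, hmN, X (D.neg (σ (D.simple i)))
          (c (D.neg (D.simple i)) * (d (D.neg (D.simple i)) * t⁻¹)) * b', ?_, ?_⟩
      · exact Subgroup.mul_mem _ (Subgroup.mul_mem _ (Subgroup.mul_mem _ hy'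
          (U_le_Bh X (X_mem_US X (show D.simple i ∈ Pset D from ⟨Δ.hpN i hi, hp⟩) _)))
          (Hh_le_Bh X (hH_mem_Hh X hi ht'))) (Hh_le_Bh X hk2)
      · exact Subgroup.mul_mem _ (U_le_Bh X (X_mem_US X (show D.neg (σ (D.simple i)) ∈ Pset D from ⟨hnegρ, hnegρlt⟩) _)) hb'
      · have r1 := nS_mul_X h hD π hπ hi t
        have r2 := X_neg_eq h hD π hπ hi ht
        have r3 := nS_mul_X h hD π hπ hi (-t⁻¹)
        rw [neg_neg] at r3
        rw [← hnI] at r1 r2 r3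
        have r4 := hcomm _ hnp (d (D.neg (D.simple i)) * t⁻¹)
        rw [s2] at r4
        calc nI * (y * X (D.simple i) t * k * n * b')
            = nI * y * nI⁻¹ * (nI * X (D.simple i) t) * (k * n) * b' := by group
          _ = nI * y * nI⁻¹ * (X (D.neg (D.simple i)) (-t) * nI) * m * b' := by rw [r1, ← hm]
          _ = nI * y * nI⁻¹ * X (D.simple i) (-t⁻¹) * hH X D (D.simple i) t⁻¹ *
                (nI * X (D.simple i) (-t⁻¹)) * nI * m * b' := by rw [r2]; group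
          _ = nI * y * nI⁻¹ * X (D.simple i) (-t⁻¹) * hH X D (D.simple i) t⁻¹ *
                (X (D.neg (D.simple i)) t⁻¹ * (nI * nI)) * m * b' := by rw [r3]; group
          _ = nI * y * nI⁻¹ * X (D.simple i) (-t⁻¹) * hH X D (D.simple i) t⁻¹ * (nI * nI) *
                (X (D.neg (D.simple i)) (d (D.neg (D.simple i)) * t⁻¹) * m) * b' := by
              rw [hd']; group
          _ = _ := by rw [r4]; group

theorem nS_inv_mul_mem_BNB {x : M} (hx : x ∈ BNB X D) : (nH X D (D.simple i) 1)⁻¹ * x ∈ BNB X D := by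
  have hp := (simpleAll_of_tabulated hD hi).hS.1
  rw [nS_inv_eq h hD π hπ hp, mul_assoc]
  exact mul_mem_BNB (Hh_le_Bh X (hH_mem_Hh X hi (by norm_num))) (nS_mul_mem_BNB h hD π hπ hi hx)

end main

section gen

variable {X : ℕ → F → M} (h : R12 D X) (hD : IsTabulated D) (π : M →* GL D.Idx F)
  (hπ : ∀ r < D.nroots, ∀ t : F, π (X r t) = xU (basicOK_of_tabulated hD) r t)
  (hgen : Subgroup.closure {g | ∃ r < D.nroots, ∃ t : F, g = X r t} = ⊤)
include h hπ hgen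

/-- `M` is generated by `B̂` and the `n̂_p` -/
theorem closure_Bh_NhGen : Subgroup.closure ((Bh X D : Set M) ∪ NhGen X D) = ⊤ := by
  have Δ := bnData_of_tabulated F hD
  have hB := basicOK_of_tabulated hD
  rw [eq_top_iff, ← hgen, Subgroup.closure_le]
  rintro g ⟨r, hr, t, rfl⟩
  have key : ∀ r, Reach D r → r < D.nroots ∧
      ∀ t : F, X r t ∈ Subgroup.closure ((Bh X D : Set M) ∪ NhGen X D) := by
    intro r hr
    induction hr with
    | @simple i hi =>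
      refine ⟨(Δ.hAll _ hi).hS.1, fun t => Subgroup.subset_closure (Or.inl ?_)⟩
      exact U_le_Bh X (X_mem_US X (show D.simple i ∈ Pset D from
        ⟨Δ.hpN _ hi, (Δ.hAll _ hi).hS.1⟩) t)
    | @step i s hi hs _ ih =>
      have hA := Δ.hAll i hi
      refine ⟨wR_lt hB hA.hS.1 hA.hR hs, fun t => ?_⟩
      have h1 := nH_conj_X_all h hD π hπ hi hs (((etaR D (D.simple i) s : ℤ) : F) * t)
      rw [← mul_assoc, etaR_sq hB hA hs, one_mul] at h1
      rw [← h1]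
      have hn : nH X D (D.simple i) 1 ∈ Subgroup.closure ((Bh X D : Set M) ∪ NhGen X D) :=
        Subgroup.subset_closure (Or.inr ⟨i, hi, rfl⟩)
      exact Subgroup.mul_mem _ (Subgroup.mul_mem _ hn (ih.2 _)) (Subgroup.inv_mem _ hn)
  exact (key r (Δ.hReach r hr)).2 t

/-- the Bruhat decomposition of `M` -/
theorem mem_BNB (x : M) : x ∈ BNB X D := by
  have hx : x ∈ Subgroup.closure ((Bh X D : Set M) ∪ NhGen X D) := by
    rw [closure_Bh_NhGen h hD π hπ hgen]; exact Subgroup.mem_top _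
  induction hx using Subgroup.closure_induction_left with
  | one => exact ⟨1, Subgroup.one_mem _, 1, Subgroup.one_mem _, 1, Subgroup.one_mem _, by simp⟩
  | mul_left x hx y _ ih =>
    rcases hx with hx | ⟨i, hi, rfl⟩
    · exact mul_mem_BNB hx ih
    · exact nS_mul_mem_BNB h hD π hπ hi ih
  | inv_mul_cancel x hx y _ ih =>
    rcases hx with hx | ⟨i, hi, rfl⟩
    · exact mul_mem_BNB (Subgroup.inv_mem _ hx) ih
    · exact nS_inv_mul_mem_BNB h hD π hπ hi ih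

end gen

end Cfsg.Agent.Helper2.Stb
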