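import Mathlib
import Cfsg.Agent.Helper2.Stb.Bru

set_option autoImplicit false
set_option linter.unusedSectionVars false
set_option linter.unusedSimpArgs false
set_option linter.unusedVariables false

/-! Steinberg presentation, part 9: the kernel of `π` lies in `Ĥ` and is central. -/

namespace Cfsg.Agent.Helper2.Stb

open Cfsg.Lie Cfsg.Agent.Helper6 Cfsg.Agent.Helper2.StPerf

variable {D : ChevalleyDatum} {F : Type*} [Field F] {M : Type*} [Group M]

section main

variable {X : ℕ → F → M} (h : R12 D X) (hD : IsTabulated D) (π : M →* GL D.Idx F)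
  (hπ : ∀ r < D.nroots, ∀ t : F, π (X r t) = xU (basicOK_of_tabulated hD) r t)
include h hπ

theorem map_U_le {g : M} (hg : g ∈ US X (Pset D)) : π g ∈ D.posUnipotent F := by
  have Δ := bnData_of_tabulated F hD
  have hle : US X (Pset D) ≤ (D.posUnipotent F).comap π := by
    apply US_le
    intro r hr t
    rw [Subgroup.mem_comap, hπ r hr.2]
    exact Δ.xU_pos_mem ((Δ.hsign' r hr.2).2 hr.1) t
  exact hle hg

theorem map_Bh_le {g : M} (hg : g ∈ Bh X D) : π g ∈ D.borelSubgroup F := by
  have Δ := bnData_of_tabulated F hD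
  obtain ⟨u, hu, k, hk, rfl⟩ := exists_of_mem_Bh h hD π hπ hg
  rw [map_mul]
  exact Subgroup.mul_mem _ (Δ.posUnipotent_le_borel (map_U_le h hD π hπ hu))
    (Δ.diag_le_borel (map_Hh_le h hD π hπ hk))

theorem map_Nh_le {g : M} (hg : g ∈ Nh X D) : π g ∈ D.monomialSubgroup F := by
  have Δ := bnData_of_tabulated F hD
  have hB := basicOK_of_tabulated hD
  have hle : Nh X D ≤ (D.monomialSubgroup F).comap π := by
    unfold Nh
    rw [Subgroup.closure_le]
    rintro g (⟨i, hi, c, hc, rfl⟩ | ⟨i, hi, rfl⟩)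
    · exact Δ.diag_le_monomial (map_Hh_le h hD π hπ (hH_mem_Hh X hi hc))
    · rw [SetLike.mem_coe, Subgroup.mem_comap,
        map_nH h hD π hπ (Δ.hAll i hi).hS.1 (one_ne_zero (α := F))]
      exact nU_one_mem_monomial hB (Δ.hAll i hi).hS.1
  exact hle hg

variable (hgen : Subgroup.closure {g | ∃ r < D.nroots, ∃ t : F, g = X r t} = ⊤)
include hgen

/-- the kernel of `π` lies in `Ĥ` -/
theorem ker_le_Hh : π.ker ≤ Hh X D := by
  have Δ := bnData_of_tabulated F hD
  intro x hx
  rw [MonoidHom.mem_ker] at hx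
  obtain ⟨b, hb, n, hn, b', hb', rfl⟩ := mem_BNB h hD π hπ hgen x
  rw [map_mul, map_mul] at hx
  have hnB : π n ∈ D.borelSubgroup F := by
    have e : π n = (π b)⁻¹ * (π b')⁻¹ := by
      rw [← mul_inv_rev, eq_inv_iff_mul_eq_one]
      calc π n * (π b' * π b) = (π b)⁻¹ * (π b * π n * π b') * π b := by group
        _ = 1 := by rw [hx]; group
    rw [e]
    exact Subgroup.mul_mem _ (Subgroup.inv_mem _ (map_Bh_le h hD π hπ hb))
      (Subgroup.inv_mem _ (map_Bh_le h hD π hπ hb'))
  have hnH : π n ∈ D.diagonalSubgroup F := by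
    rw [← Δ.inf_eq]
    exact ⟨hnB, map_Nh_le h hD π hπ hn⟩
  have hnHh := mem_Hh_of_map_mem h hD π hπ hn hnH
  have hxB : b * n * b' ∈ Bh X D :=
    Subgroup.mul_mem _ (Subgroup.mul_mem _ hb (Hh_le_Bh X hnHh)) hb'
  obtain ⟨u, hu, k, hk, e⟩ := exists_of_mem_Bh h hD π hπ hxB
  rw [← map_mul, ← map_mul, e, map_mul] at hx
  have hu1 : π u = 1 := by
    have h1 : π u ∈ D.posUnipotent F ⊓ D.diagonalSubgroup F := by
      refine ⟨map_U_le h hD π hπ hu, ?_⟩
      have e2 : π u = (π k)⁻¹ := eq_inv_of_mul_eq_one_left hx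
      rw [e2]
      exact Subgroup.inv_mem _ (map_Hh_le h hD π hπ hk)
    rw [posUnipotent_inf_diagonal Δ.hB Δ.hH Δ.good, Subgroup.mem_bot] at h1
    exact h1
  have hu2 : u = 1 := inj_pos h hD π hπ hu (Subgroup.one_mem _) (by rw [hu1, map_one])
  rw [e, hu2, one_mul]
  exact hk

/-- the kernel of `π` is central -/
theorem ker_le_center : π.ker ≤ Subgroup.center M := by
  have hB := basicOK_of_tabulated hD
  intro x hx
  have hxH := ker_le_Hh h hD π hπ hgen hx
  rw [MonoidHom.mem_ker] at hx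
  obtain ⟨c, hc⟩ := diagP_of_mem_Hh h hD π hπ hxH
  have hcomm : ∀ r < D.nroots, ∀ t : F, X r t * x = x * X r t := by
    intro r hr t
    have h1 := (hc r hr).2 t
    have h2 := congrArg π h1
    rw [map_mul, map_mul, map_inv, hx, one_mul, inv_one, mul_one, hπ r hr, hπ r hr] at h2
    have h3 := xU_inj hB hr h2
    rw [← h3] at h1
    calc X r t * x = (x * X r t * x⁻¹) * x := by rw [h1]
      _ = x * X r t := by group
  have hle : (⊤ : Subgroup M) ≤ Subgroup.centralizer {x} := by
    rw [← hgen, Subgroup.closure_le]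
    rintro g ⟨r, hr, t, rfl⟩
    rw [SetLike.mem_coe, Subgroup.mem_centralizer_iff]
    intro y hy
    rw [Set.mem_singleton_iff] at hy
    rw [hy]
    exact (hcomm r hr t).symm
  rw [Subgroup.mem_center_iff]
  intro g
  have := Subgroup.mem_centralizer_iff.1 (hle (Subgroup.mem_top g)) x (Set.mem_singleton x)
  exact this.symm

end main

end Cfsg.Agent.Helper2.Stb
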