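import Mathlib
import Cfsg.Agent.Helper2.Stb.Ker

set_option autoImplicit false
set_option linter.unusedSectionVars false
set_option linter.unusedSimpArgs false
set_option linter.unusedVariables false

/-! Steinberg presentation, part 10: the presented groups and their homomorphism onto the
Chevalley group. -/

namespace Cfsg.Agent.Helper2.Stb

open Cfsg.Lie Cfsg.Agent.Helper6 Cfsg.Agent.Helper2.StPerf

variable {D : ChevalleyDatum} {K : Type*} [Field K]

/-- the root element `x_r(t)` as an element of the Chevalley group (trivial out of range) -/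
noncomputable def gX (hB : BasicOK D) (K : Type*) [Field K] (r : ℕ) (t : K) : ↥(D.group K) := by
  classical
  exact if h : r < D.nroots then ⟨xU hB r t, xU_mem_group hB h t⟩ else 1

theorem xU_of_ge (hB : BasicOK D) {r : ℕ} (hr : ¬ r < D.nroots) (t : K) : xU hB r t = 1 := by
  apply Units.ext
  rw [xU_val, Units.val_one]
  unfold ChevalleyDatum.x
  rw [dif_neg hr]

theorem gX_val (hB : BasicOK D) (r : ℕ) (t : K) : ((gX hB K r t : ↥(D.group K)) : GL D.Idx K) = xU hB r t := by
  unfold gX
  by_cases h : r < D.nroots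
  · rw [dif_pos h]
  · rw [dif_neg h, xU_of_ge hB h]
    rfl

/-- the images of the free generators -/
noncomputable def gF (hB : BasicOK D) (K : Type*) [Field K] (p : Fin D.nroots × K) : ↥(D.group K) :=
  gX hB K p.1.val p.2

theorem lift_stX (hB : BasicOK D) (r : ℕ) (t : K) :
    FreeGroup.lift (gF hB K) (D.stX r t) = gX hB K r t := by
  unfold ChevalleyDatum.stX
  by_cases h : r < D.nroots
  · rw [dif_pos h, FreeGroup.lift_apply_of]
    rfl
  · rw [dif_neg h, map_one]
    apply Subtype.ext
    rw [gX_val, xU_of_ge hB h]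
    rfl

theorem lift_stWord_val (hB : BasicOK D) (w : List (ℕ × K)) :
    ((FreeGroup.lift (gF hB K) (D.stWord w) : ↥(D.group K)) : GL D.Idx K) = wordU hB w := by
  unfold ChevalleyDatum.stWord wordU
  induction w with
  | nil => simp
  | cons p w ih =>
    rw [List.map_cons, List.prod_cons, List.map_cons, List.prod_cons, map_mul, Subgroup.coe_mul, ih,
      lift_stX, gX_val]

section rels

variable (hD : IsTabulated D)

theorem lift_relsAB {g : FreeGroup (Fin D.nroots × K)} (hg : g ∈ D.steinbergRelsAB K) :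
    FreeGroup.lift (gF (basicOK_of_tabulated hD) K) g = 1 := by
  have hB := basicOK_of_tabulated hD
  have Δ := bnData_of_tabulated K hD
  rcases hg with ⟨r, t₁, t₂, hr, rfl⟩ | ⟨r, s, t, u, hr, hs, h1, h2, rfl⟩
  · rw [map_mul, map_mul, map_inv, lift_stX, lift_stX, lift_stX, mul_inv_eq_one]
    apply Subtype.ext
    rw [Subgroup.coe_mul, gX_val, gX_val, gX_val, Cfsg.Agent.Helper6.xU_mul]
  · rw [map_mul, map_mul, map_mul, map_mul, map_inv, map_inv, map_inv, lift_stX, lift_stX,
      mul_inv_eq_one]
    apply Subtype.ext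
    simp only [Subgroup.coe_mul, Subgroup.coe_inv, gX_val, lift_stWord_val]
    have hc := Δ.hC r hr s hs h1 h2 t u
    have e : xU hB s u * xU hB r t = xU hB r t * xU hB s u * wordU hB (D.commWord K r s t u) := by
      apply Units.ext
      simp only [Units.val_mul, xU_val, wordU_val]
      exact hc
    rw [← mul_inv_eq_one]
    calc (xU hB s u)⁻¹ * (xU hB r t)⁻¹ * xU hB s u * xU hB r t * (wordU hB (D.commWord K r s t u))⁻¹
        = (xU hB s u)⁻¹ * (xU hB r t)⁻¹ * (xU hB s u * xU hB r t) *
            (wordU hB (D.commWord K r s t u))⁻¹ := by group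
      _ = 1 := by rw [e]; group

include hD in
theorem hMat_mul_hMat {r : ℕ} (hr : r < D.nroots) {t₁ t₂ : K} (h1 : t₁ ≠ 0) (h2 : t₂ ≠ 0) :
    D.hMat K r t₁ * D.hMat K r t₂ = D.hMat K r (t₁ * t₂) := by
  have Δ := bnData_of_tabulated K hD
  have hH := Δ.hH r hr
  rw [hH t₁ h1, hH t₂ h2, hH (t₁ * t₂) (mul_ne_zero h1 h2), dMat_mul_dMat, one_mul]
  congr 1
  funext u
  rw [mul_zpow]

theorem lift_rels {g : FreeGroup (Fin D.nroots × K)} (hg : g ∈ D.steinbergRels K) :
    FreeGroup.lift (gF (basicOK_of_tabulated hD) K) g = 1 := by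
  have hB := basicOK_of_tabulated hD
  rcases hg with hg | ⟨r, t₁, t₂, hr, h1, h2, rfl⟩
  · exact lift_relsAB hD hg
  · rw [map_mul, map_mul, map_inv, mul_inv_eq_one]
    apply Subtype.ext
    apply Units.ext
    unfold ChevalleyDatum.stH
    rw [Subgroup.coe_mul, Units.val_mul, lift_stWord_val, lift_stWord_val, lift_stWord_val,
      wordU_val, wordU_val, wordU_val]
    exact hMat_mul_hMat hD hr h1 h2

end rels

section pres

variable (hD : IsTabulated D) {rels : Set (FreeGroup (Fin D.nroots × K))}
  (hsub : D.steinbergRelsAB K ⊆ rels)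

/-- the generators of the presented group -/
def pX (D : ChevalleyDatum) {K : Type*} [Field K] (rels : Set (FreeGroup (Fin D.nroots × K)))
    (r : ℕ) (t : K) : PresentedGroup rels := PresentedGroup.mk rels (D.stX r t)

theorem mk_stWord (w : List (ℕ × K)) :
    PresentedGroup.mk rels (D.stWord w) = wordX (pX D rels) w := by
  unfold ChevalleyDatum.stWord wordX
  rw [map_list_prod, List.map_map]
  rfl

include hsub in
theorem r12_pX : R12 D (pX D rels) := by
  constructor
  · intro r hr t u
    have h : PresentedGroup.mk rels (D.stX r t * D.stX r u * (D.stX r (t + u))⁻¹) = 1 :=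
      PresentedGroup.one_of_mem (hsub (Or.inl ⟨r, t, u, hr, rfl⟩))
    rw [map_mul, map_mul, map_inv, mul_inv_eq_one] at h
    exact h
  · intro r hr s hs h1 h2 t u
    have h : PresentedGroup.mk rels ((D.stX s u)⁻¹ * (D.stX r t)⁻¹ * D.stX s u * D.stX r t *
        (D.stWord (D.commWord K r s t u))⁻¹) = 1 :=
      PresentedGroup.one_of_mem (hsub (Or.inr ⟨r, s, t, u, hr, hs, h1, h2, rfl⟩))
    rw [map_mul, map_mul, map_mul, map_mul, map_inv, map_inv, map_inv, mul_inv_eq_one,
      mk_stWord] at h
    exact h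

theorem gen_pX : Subgroup.closure {g | ∃ r < D.nroots, ∃ t : K, g = pX D rels r t} = ⊤ := by
  rw [eq_top_iff, ← PresentedGroup.closure_range_of, Subgroup.closure_le]
  rintro _ ⟨⟨r, t⟩, rfl⟩
  apply Subgroup.subset_closure
  refine ⟨r.val, r.isLt, t, ?_⟩
  unfold pX ChevalleyDatum.stX
  rw [dif_pos r.isLt]
  rfl

variable (θ : PresentedGroup rels →* ↥(D.group K))
  (hθ : ∀ (r : ℕ) (t : K), r < D.nroots →
    ((θ (pX D rels r t) : GL D.Idx K) : Matrix D.Idx D.Idx K) = D.x K r t)
include hsub hθ

theorem hπ_of (r : ℕ) (hr : r < D.nroots) (t : K) :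
    ((D.group K).subtype.comp θ) (pX D rels r t) = xU (basicOK_of_tabulated hD) r t := by
  apply Units.ext
  rw [xU_val, ← hθ r t hr]
  rfl

include hD in
/-- the kernel of `θ` lies in `Ĥ` -/
theorem ker_le_Hh_pres : θ.ker ≤ Hh (pX D rels) D := by
  intro x hx
  apply ker_le_Hh (r12_pX hsub) hD ((D.group K).subtype.comp θ) (hπ_of hD hsub θ hθ) gen_pX
  rw [MonoidHom.mem_ker] at hx ⊢
  rw [MonoidHom.comp_apply, hx]
  rfl

include hD in
/-- the kernel of `θ` is central -/
theorem ker_le_center_pres : θ.ker ≤ Subgroup.center (PresentedGroup rels) := by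
  intro x hx
  apply ker_le_center (r12_pX hsub) hD ((D.group K).subtype.comp θ) (hπ_of hD hsub θ hθ) gen_pX
  rw [MonoidHom.mem_ker] at hx ⊢
  rw [MonoidHom.comp_apply, hx]
  rfl

/-- `θ` is surjective -/
theorem surjective_pres : Function.Surjective θ := by
  have key : ∀ g ∈ D.group K, ∃ x, ((θ x : ↥(D.group K)) : GL D.Idx K) = g := by
    intro g hg
    unfold ChevalleyDatum.group at hg
    induction hg using Subgroup.closure_induction with
    | mem g hg =>
      obtain ⟨r, t, hrt⟩ := hg
      refine ⟨pX D rels r.val t, ?_⟩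
      apply Units.ext
      rw [hθ r.val t r.isLt, hrt, x_of_lt r.isLt]
    | one => exact ⟨1, by rw [map_one]; rfl⟩
    | mul g₁ g₂ _ _ ih₁ ih₂ =>
      obtain ⟨x₁, rfl⟩ := ih₁
      obtain ⟨x₂, rfl⟩ := ih₂
      exact ⟨x₁ * x₂, by rw [map_mul]; rfl⟩
    | inv g _ ih =>
      obtain ⟨x, rfl⟩ := ih
      exact ⟨x⁻¹, by rw [map_inv]; rfl⟩
  intro y
  obtain ⟨x, hx⟩ := key y.val y.property
  exact ⟨x, Subtype.ext hx⟩

end pres

/-- the homomorphism from the group presented by (R1), (R2) -/
noncomputable def thetaAB (hD : IsTabulated D) (K : Type*) [Field K] :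
    D.SteinbergCover K →* ↥(D.group K) :=
  PresentedGroup.toGroup (f := gF (basicOK_of_tabulated hD) K) (fun r hr => lift_relsAB hD hr)

/-- the homomorphism from the group presented by (R1), (R2), (R3) -/
noncomputable def thetaABC (hD : IsTabulated D) (K : Type*) [Field K] :
    D.SteinbergGroup K →* ↥(D.group K) :=
  PresentedGroup.toGroup (f := gF (basicOK_of_tabulated hD) K) (fun r hr => lift_rels hD hr)

theorem thetaAB_apply (hD : IsTabulated D) (r : ℕ) (t : K) (hr : r < D.nroots) :
    ((thetaAB hD K (pX D (D.steinbergRelsAB K) r t) : GL D.Idx K) : Matrix D.Idx D.Idx K) =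
      D.x K r t := by
  unfold thetaAB pX
  have : PresentedGroup.toGroup (f := gF (basicOK_of_tabulated hD) K)
      (fun r hr => lift_relsAB hD hr) (PresentedGroup.mk (D.steinbergRelsAB K) (D.stX r t)) =
      FreeGroup.lift (gF (basicOK_of_tabulated hD) K) (D.stX r t) := rfl
  rw [this, lift_stX, gX_val, xU_val]

theorem thetaABC_apply (hD : IsTabulated D) (r : ℕ) (t : K) (hr : r < D.nroots) :
    ((thetaABC hD K (pX D (D.steinbergRels K) r t) : GL D.Idx K) : Matrix D.Idx D.Idx K) =
      D.x K r t := by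
  unfold thetaABC pX
  have : PresentedGroup.toGroup (f := gF (basicOK_of_tabulated hD) K)
      (fun r hr => lift_rels hD hr) (PresentedGroup.mk (D.steinbergRels K) (D.stX r t)) =
      FreeGroup.lift (gF (basicOK_of_tabulated hD) K) (D.stX r t) := rfl
  rw [this, lift_stX, gX_val, xU_val]

end Cfsg.Agent.Helper2.Stb
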