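import Mathlib
import Cfsg.Agent.Helper2.Stb.Main
import Cfsg.Agent.Helper2.BN.Parabolic
import Cfsg.Agent.S1051

set_option autoImplicit false
set_option linter.unusedSectionVars false
set_option linter.unusedSimpArgs false
set_option linter.unusedVariables false

/-! The centre of the Chevalley group of a tabulated datum is trivial. -/

namespace Cfsg.Agent.Helper2.Stb

open Cfsg.Lie Cfsg.Agent.Helper6

variable {D : ChevalleyDatum} {K : Type*} [Field K]

theorem center_group_eq_bot (hD : IsTabulated D) : Subgroup.center ↥(D.group K) = ⊥ := by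
  have Δ := bnData_of_tabulated K hD
  have hle : Subgroup.center ↥(D.group K) ≤ Δ.bnPair.B := by
    intro z hz
    apply Cfsg.Agent.Helper2.BN.mem_of_conj_B_le' (P := Δ.bnPair) le_rfl
    intro b hb
    rw [Subgroup.mem_center_iff] at hz
    rw [← hz b, mul_inv_cancel_right]
    exact hb
  have h2 : Subgroup.center ↥(D.group K) ≤ (Δ.bnPair.B).normalCore :=
    Subgroup.normal_le_normalCore.2 hle
  have h3 : (Δ.bnPair.B).normalCore = ⊥ := Cfsg.Agent.S1051.result D hD
  rw [h3] at h2
  exact eq_bot_iff.2 h2

end Cfsg.Agent.Helper2.Stb
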