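import Mathlib
import Cfsg.Agent.Helper2.Stb.Center

set_option autoImplicit false
set_option linter.unusedSectionVars false
set_option linter.unusedSimpArgs false
set_option linter.unusedVariables false

/-! Steinberg presentation, part 11: with the relations (R3) the subgroup `Ĥ` is commutative and,
when the Cartan matrix is unimodular, it meets the kernel of `π` trivially. -/

namespace Cfsg.Agent.Helper2.Stb

open Cfsg.Lie Cfsg.Agent.Helper6 Cfsg.Agent.Helper2.StPerf

variable {D : ChevalleyDatum} {F : Type*} [Field F] {M : Type*} [Group M]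

theorem list_prod_mul_of_commute {ι : Type*} (L : List ι) (f g : ι → M)
    (hc : ∀ i j, f i * g j = g j * f i) :
    (L.map f).prod * (L.map g).prod = (L.map fun i => f i * g i).prod := by
  induction L with
  | nil => simp
  | cons a L ih =>
    simp only [List.map_cons, List.prod_cons]
    have h1 : (L.map f).prod * g a = g a * (L.map f).prod := by
      clear ih
      induction L with
      | nil => simp
      | cons b L ih2 =>
        simp only [List.map_cons, List.prod_cons]
        rw [mul_assoc, ih2, ← mul_assoc, hc b a, mul_assoc]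
    calc f a * (L.map f).prod * (g a * (L.map g).prod)
        = f a * ((L.map f).prod * g a) * (L.map g).prod := by group
      _ = f a * (g a * (L.map f).prod) * (L.map g).prod := by rw [h1]
      _ = f a * g a * ((L.map f).prod * (L.map g).prod) := by group
      _ = _ := by rw [ih]

theorem list_prod_inv_of_commute {ι : Type*} (L : List ι) (f : ι → M)
    (hc : ∀ i j, f i * f j = f j * f i) :
    ((L.map f).prod)⁻¹ = (L.map fun i => (f i)⁻¹).prod := by
  induction L with
  | nil => simp
  | cons a L ih =>
    simp only [List.map_cons, List.prod_cons]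
    have h1 : (L.map f).prod * f a = f a * (L.map f).prod := by
      clear ih
      induction L with
      | nil => simp
      | cons b L ih2 =>
        simp only [List.map_cons, List.prod_cons]
        rw [mul_assoc, ih2, ← mul_assoc, hc b a, mul_assoc]
    rw [← ih, ← mul_inv_rev, h1]

theorem list_prod_range_eq (n : ℕ) (f : ℕ → F) :
    ((List.range n).map f).prod = ∏ i ∈ Finset.range n, f i := by
  induction n with
  | zero => simp
  | succ n ih =>
    rw [List.range_succ, List.map_append, List.prod_append, Finset.prod_range_succ, ih]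
    simp

section tor

variable {X : ℕ → F → M} (h : R12 D X) (hD : IsTabulated D) (π : M →* GL D.Idx F)
  (hπ : ∀ r < D.nroots, ∀ t : F, π (X r t) = xU (basicOK_of_tabulated hD) r t)
include h hπ

/-- `n̂_r(-c) = n̂_r(c)⁻¹` -/
theorem nH_neg {r : ℕ} (hr : r < D.nroots) (c : F) : nH X D r (-c) = (nH X D r c)⁻¹ := by
  have hB := basicOK_of_tabulated hD
  have hn := (hB.neg r hr).1
  rw [nH_eq, nH_eq, mul_inv_rev, mul_inv_rev, X_inv h hr, X_inv h hn, mul_assoc, inv_neg, neg_neg]

/-- `ĥ_q(a) n̂_p(c) ĥ_q(a)⁻¹ = n̂_p(a^{A_{q,p}} c)` -/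
theorem hH_conj_nH {i j : ℕ} (hi : i < D.rank) (hj : j < D.rank) {a : F} (ha : a ≠ 0) (c : F) :
    hH X D (D.simple j) a * nH X D (D.simple i) c * (hH X D (D.simple j) a)⁻¹ =
      nH X D (D.simple i) (a ^ (D.cartan j (D.simple i)) * c) := by
  have hB := basicOK_of_tabulated hD
  have hA := simpleAll_of_tabulated hD hi
  have hp := hA.hS.1
  have hn := hB.neg _ hp
  rw [nH_eq, nH_eq]
  have e : ∀ (g a b c : M), g * (a * b * c) * g⁻¹ = (g * a * g⁻¹) * (g * b * g⁻¹) * (g * c * g⁻¹) := by
    intros; group
  rw [e, hH_conj_X_all h hD π hπ hj hp ha, hH_conj_X_all h hD π hπ hj hn.1 ha,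
    (hB.negTab _ hp).1 j hj, zpow_neg]
  have e2 : (a ^ D.cartan j (D.simple i))⁻¹ * -c⁻¹ = -(a ^ D.cartan j (D.simple i) * c)⁻¹ := by
    rw [mul_inv]; ring
  rw [e2]

variable (hR3 : ∀ i < D.rank, ∀ a b : F, a ≠ 0 → b ≠ 0 →
  hH X D (D.simple i) a * hH X D (D.simple i) b = hH X D (D.simple i) (a * b))
include hR3

theorem hH_one {i : ℕ} (hi : i < D.rank) : hH X D (D.simple i) (1 : F) = 1 := by
  have h1 := hR3 i hi 1 1 one_ne_zero one_ne_zero
  rw [mul_one] at h1
  exact mul_left_cancel (h1.trans (mul_one _).symm)

theorem hH_inv {i : ℕ} (hi : i < D.rank) {a : F} (ha : a ≠ 0) :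
    (hH X D (D.simple i) a)⁻¹ = hH X D (D.simple i) a⁻¹ := by
  apply inv_eq_of_mul_eq_one_right
  rw [hR3 i hi a a⁻¹ ha (inv_ne_zero ha), mul_inv_cancel₀ ha, hH_one h hD π hπ hR3 hi]

theorem hH_comm {i j : ℕ} (hi : i < D.rank) (hj : j < D.rank) {a b : F} (ha : a ≠ 0) (hb : b ≠ 0) :
    hH X D (D.simple j) a * hH X D (D.simple i) b = hH X D (D.simple i) b * hH X D (D.simple j) a := by
  have hp := (simpleAll_of_tabulated hD hi).hS.1
  obtain ⟨A, hAdef⟩ : ∃ A : F, A = a ^ (D.cartan j (D.simple i)) := ⟨_, rfl⟩
  have hA0 : A ≠ 0 := by rw [hAdef]; exact zpow_ne_zero _ ha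
  have key : hH X D (D.simple j) a * hH X D (D.simple i) b * (hH X D (D.simple j) a)⁻¹ =
      hH X D (D.simple i) b := by
    have e : ∀ (g x y : M), g * (x * y) * g⁻¹ = (g * x * g⁻¹) * (g * y * g⁻¹) := by
      intros; group
    conv_lhs => rw [hH_eq X (D.simple i) b]
    rw [e, hH_conj_nH h hD π hπ hi hj ha, hH_conj_nH h hD π hπ hi hj ha, ← hAdef, mul_neg, mul_one,
      nH_neg h hD π hπ hp, nH_eq_hH_mul h hD π hπ hp (A * b), nH_eq_hH_mul h hD π hπ hp A,
      mul_comm A b, ← hR3 i hi b A hb hA0]
    group
  calc hH X D (D.simple j) a * hH X D (D.simple i) b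
      = (hH X D (D.simple j) a * hH X D (D.simple i) b * (hH X D (D.simple j) a)⁻¹) *
          hH X D (D.simple j) a := by group
    _ = _ := by rw [key]

theorem Hh_comm : ∀ x ∈ Hh X D, ∀ y ∈ Hh X D, x * y = y * x := by
  have step1 : ∀ g ∈ HhGen X D, ∀ y ∈ Hh X D, g * y = y * g := by
    intro g hg y hy
    have hle : Hh X D ≤ Subgroup.centralizer {g} := by
      unfold Hh
      rw [Subgroup.closure_le]
      intro g' hg'
      rw [SetLike.mem_coe, Subgroup.mem_centralizer_iff]
      intro z hz
      rw [Set.mem_singleton_iff] at hz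
      rw [hz]
      obtain ⟨j, hj, a, ha, rfl⟩ := hg
      obtain ⟨i, hi, b, hb, rfl⟩ := hg'
      exact hH_comm h hD π hπ hR3 hi hj ha hb
    exact Subgroup.mem_centralizer_iff.1 (hle hy) g (Set.mem_singleton g)
  intro x hx y hy
  have hle : Hh X D ≤ Subgroup.centralizer {y} := by
    unfold Hh
    rw [Subgroup.closure_le]
    intro g hg
    rw [SetLike.mem_coe, Subgroup.mem_centralizer_iff]
    intro z hz
    rw [Set.mem_singleton_iff] at hz
    rw [hz]
    exact (step1 g hg y hy).symm
  exact (Subgroup.mem_centralizer_iff.1 (hle hx) y (Set.mem_singleton y)).symm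

/-- the product `∏_i ĥ_{p_i}(t_i)` -/
def prodH (X : ℕ → F → M) (D : ChevalleyDatum) (t : ℕ → F) : M :=
  ((List.range D.rank).map fun i => hH X D (D.simple i) (t i)).prod

/-- every element of `Ĥ` is a product `∏_i ĥ_{p_i}(t_i)` -/
theorem exists_prodH {k : M} (hk : k ∈ Hh X D) :
    ∃ t : ℕ → F, (∀ i, t i ≠ 0) ∧ k = prodH X D t := by
  have hcomm : ∀ (t t' : ℕ → F), (∀ i, t i ≠ 0) → (∀ i, t' i ≠ 0) → ∀ i j,
      i ∈ List.range D.rank → j ∈ List.range D.rank →
      hH X D (D.simple i) (t i) * hH X D (D.simple j) (t' j) =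
        hH X D (D.simple j) (t' j) * hH X D (D.simple i) (t i) := by
    intro t t' ht ht' i j hi hj
    exact hH_comm h hD π hπ hR3 (List.mem_range.1 hj) (List.mem_range.1 hi) (ht i) (ht' j)
  -- products over the members of the list only: use a version with membership
  have hmul : ∀ (t t' : ℕ → F), (∀ i, t i ≠ 0) → (∀ i, t' i ≠ 0) →
      prodH X D t * prodH X D t' = prodH X D (fun i => t i * t' i) := by
    intro t t' ht ht'
    unfold prodH
    have key : ∀ L : List ℕ, (∀ i ∈ L, i < D.rank) →
        (L.map fun i => hH X D (D.simple i) (t i)).prod *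
          (L.map fun i => hH X D (D.simple i) (t' i)).prod =
        (L.map fun i => hH X D (D.simple i) (t i * t' i)).prod := by
      intro L hL
      induction L with
      | nil => simp
      | cons a L ih =>
        have ha := hL a List.mem_cons_self
        have hL' : ∀ i ∈ L, i < D.rank := fun i hi => hL i (List.mem_cons_of_mem _ hi)
        simp only [List.map_cons, List.prod_cons]
        have h1 : (L.map fun i => hH X D (D.simple i) (t i)).prod * hH X D (D.simple a) (t' a) =
            hH X D (D.simple a) (t' a) * (L.map fun i => hH X D (D.simple i) (t i)).prod := by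
          apply Hh_comm h hD π hπ hR3
          · apply Subgroup.list_prod_mem
            intro g hg
            simp only [List.mem_map] at hg
            obtain ⟨i, hi, rfl⟩ := hg
            exact hH_mem_Hh X (hL' i hi) (ht i)
          · exact hH_mem_Hh X ha (ht' a)
        calc hH X D (D.simple a) (t a) * (L.map fun i => hH X D (D.simple i) (t i)).prod *
              (hH X D (D.simple a) (t' a) * (L.map fun i => hH X D (D.simple i) (t' i)).prod)
            = hH X D (D.simple a) (t a) *
                ((L.map fun i => hH X D (D.simple i) (t i)).prod * hH X D (D.simple a) (t' a)) *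
                (L.map fun i => hH X D (D.simple i) (t' i)).prod := by group
          _ = hH X D (D.simple a) (t a) * hH X D (D.simple a) (t' a) *
                ((L.map fun i => hH X D (D.simple i) (t i)).prod *
                  (L.map fun i => hH X D (D.simple i) (t' i)).prod) := by rw [h1]; group
          _ = _ := by rw [ih hL', hR3 a ha _ _ (ht a) (ht' a)]
    exact key _ (fun i hi => List.mem_range.1 hi)
  have hone : prodH X D (fun _ => (1 : F)) = 1 := by
    unfold prodH
    apply List.prod_eq_one
    intro g hg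
    simp only [List.mem_map] at hg
    obtain ⟨i, hi, rfl⟩ := hg
    exact hH_one h hD π hπ hR3 (List.mem_range.1 hi)
  unfold Hh at hk
  induction hk using Subgroup.closure_induction with
  | mem g hg =>
    obtain ⟨i, hi, a, ha, rfl⟩ := hg
    refine ⟨Function.update (fun _ => 1) i a, ?_, ?_⟩
    · intro j
      by_cases e : j = i
      · rw [e, Function.update_self]; exact ha
      · rw [Function.update_of_ne e]; exact one_ne_zero
    · unfold prodH
      have key : ∀ L : List ℕ, L.Nodup → (∀ j ∈ L, j < D.rank) →
          (L.map fun j => hH X D (D.simple j) (Function.update (fun _ => (1 : F)) i a j)).prod =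
            if i ∈ L then hH X D (D.simple i) a else 1 := by
        intro L hL hLr
        induction L with
        | nil => simp
        | cons b L ih =>
          have hb := hLr b List.mem_cons_self
          have hL' : ∀ j ∈ L, j < D.rank := fun j hj => hLr j (List.mem_cons_of_mem _ hj)
          rw [List.nodup_cons] at hL
          simp only [List.map_cons, List.prod_cons]
          rw [ih hL.2 hL']
          by_cases e : b = i
          · subst e
            rw [Function.update_self, if_neg hL.1, mul_one, if_pos List.mem_cons_self]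
          · rw [Function.update_of_ne e, hH_one h hD π hπ hR3 hb, one_mul]
            have : (i ∈ b :: L) ↔ i ∈ L := by
              rw [List.mem_cons]
              constructor
              · rintro (e' | e')
                · exact absurd e'.symm e
                · exact e'
              · exact Or.inr
            simp only [this]
      rw [key _ (List.nodup_range) (fun j hj => List.mem_range.1 hj),
        if_pos (List.mem_range.2 hi)]
  | one => exact ⟨fun _ => 1, fun _ => one_ne_zero, hone.symm⟩
  | mul g₁ g₂ _ _ ih₁ ih₂ =>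
    obtain ⟨t, ht, rfl⟩ := ih₁
    obtain ⟨t', ht', rfl⟩ := ih₂
    exact ⟨fun i => t i * t' i, fun i => mul_ne_zero (ht i) (ht' i), hmul t t' ht ht'⟩
  | inv g _ ih =>
    obtain ⟨t, ht, rfl⟩ := ih
    refine ⟨fun i => (t i)⁻¹, fun i => inv_ne_zero (ht i), ?_⟩
    apply inv_eq_of_mul_eq_one_right
    rw [hmul t _ ht (fun i => inv_ne_zero (ht i))]
    have : (fun i => t i * (t i)⁻¹) = fun _ => (1 : F) := by
      funext i
      exact mul_inv_cancel₀ (ht i)
    rw [this, hone]

omit hR3 in
/-- the action of `∏_i ĥ_{p_i}(t_i)` on the root subgroups -/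
theorem prodH_conj {t : ℕ → F} (ht : ∀ i, t i ≠ 0) {r : ℕ} (hr : r < D.nroots) (u : F) :
    prodH X D t * X r u * (prodH X D t)⁻¹ =
      X r ((∏ i ∈ Finset.range D.rank, (t i) ^ (D.cartan i r)) * u) := by
  rw [← list_prod_range_eq]
  unfold prodH
  have key : ∀ L : List ℕ, (∀ j ∈ L, j < D.rank) → ∀ u : F,
      (L.map fun i => hH X D (D.simple i) (t i)).prod * X r u *
        ((L.map fun i => hH X D (D.simple i) (t i)).prod)⁻¹ =
      X r ((L.map fun i => (t i) ^ (D.cartan i r)).prod * u) := by
    intro L hL
    induction L with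
    | nil => intro u; simp
    | cons a L ih =>
      intro u
      have ha := hL a List.mem_cons_self
      have hL' : ∀ j ∈ L, j < D.rank := fun j hj => hL j (List.mem_cons_of_mem _ hj)
      simp only [List.map_cons, List.prod_cons]
      have e : ∀ (g g' x : M), g * g' * x * (g * g')⁻¹ = g * (g' * x * g'⁻¹) * g⁻¹ := by
        intros; group
      rw [e, ih hL', hH_conj_X_all h hD π hπ ha hr (ht a), mul_assoc]
  exact key _ (fun j hj => List.mem_range.1 hj) u

end tor

end Cfsg.Agent.Helper2.Stb
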