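import Mathlib
import Cfsg.Agent.Helper2.Stb.Tor

set_option autoImplicit false
set_option linter.unusedSectionVars false
set_option linter.unusedSimpArgs false
set_option linter.unusedVariables false

/-! Steinberg presentation, part 14: over a finite field the relations (R3) follow from (R1), (R2)
(Steinberg, Lectures on Chevalley groups, Theorem 9). -/

namespace Cfsg.Agent.Helper2.Stb

open Cfsg.Lie Cfsg.Agent.Helper6 Cfsg.Agent.Helper2.StPerf

variable {D : ChevalleyDatum} {F : Type*} [Field F] {M : Type*} [Group M]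

section rankone

variable {X : ℕ → F → M} (h : R12 D X) (hD : IsTabulated D) (π : M →* GL D.Idx F)
  (hπ : ∀ r < D.nroots, ∀ t : F, π (X r t) = xU (basicOK_of_tabulated hD) r t)
  {i : ℕ} (hi : i < D.rank)
include h hπ hi

/-- `n̂_p x_p(u) n̂_p⁻¹ = x_{-p}(-u)` -/
theorem nS_conj_X_self (u : F) :
    nH X D (D.simple i) 1 * X (D.simple i) u * (nH X D (D.simple i) 1)⁻¹ =
      X (D.neg (D.simple i)) (-u) := by
  have hA := simpleAll_of_tabulated hD hi
  have hp := hA.hS.1
  rw [nH_conj_X_all h hD π hπ hi hp]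
  have e1 : wR D (D.simple i) (D.simple i) = D.neg (D.simple i) := by
    unfold wR
    simp
  have e2 : etaR D (D.simple i) (D.simple i) = -1 := by
    unfold etaR
    simp
  rw [e1, e2]
  simp

/-- `n̂_p x_{-p}(u) n̂_p⁻¹ = x_p(-u)` -/
theorem nS_conj_X_neg (u : F) :
    nH X D (D.simple i) 1 * X (D.neg (D.simple i)) u * (nH X D (D.simple i) 1)⁻¹ =
      X (D.simple i) (-u) := by
  have hB := basicOK_of_tabulated hD
  have hA := simpleAll_of_tabulated hD hi
  have hp := hA.hS.1
  have hn := hB.neg _ hp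
  rw [nH_conj_X_all h hD π hπ hi hn.1]
  have e1 : wR D (D.simple i) (D.neg (D.simple i)) = D.simple i := by
    unfold wR
    simp [hn.2.1]
  have e2 : etaR D (D.simple i) (D.neg (D.simple i)) = -1 := by
    unfold etaR
    simp
  rw [e1, e2]
  simp

/-- `n̂_p(t) x_p(u) n̂_p(t)⁻¹ = x_{-p}(-t⁻² u)` -/
theorem nH_conj_X_self {t : F} (ht : t ≠ 0) (u : F) :
    nH X D (D.simple i) t * X (D.simple i) u * (nH X D (D.simple i) t)⁻¹ =
      X (D.neg (D.simple i)) (-(t ^ 2)⁻¹ * u) := by
  have hB := basicOK_of_tabulated hD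
  have hA := simpleAll_of_tabulated hD hi
  have hp := hA.hS.1
  have hn := hB.neg _ hp
  rw [nH_eq_hH_mul h hD π hπ hp t]
  have e : ∀ (a b g : M), (a * b) * g * (a * b)⁻¹ = a * (b * g * b⁻¹) * a⁻¹ := by
    intros; group
  rw [e, nS_conj_X_self h hD π hπ hi, hH_conj_X_all h hD π hπ hi hn.1 ht, hA.hS.2.2.1]
  congr 1
  rw [zpow_neg, zpow_ofNat]
  ring

/-- `n̂_p(t) x_{-p}(u) n̂_p(t)⁻¹ = x_p(-t² u)` -/
theorem nH_conj_X_neg {t : F} (ht : t ≠ 0) (u : F) :
    nH X D (D.simple i) t * X (D.neg (D.simple i)) u * (nH X D (D.simple i) t)⁻¹ =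
      X (D.simple i) (-(t ^ 2) * u) := by
  have hB := basicOK_of_tabulated hD
  have hA := simpleAll_of_tabulated hD hi
  have hp := hA.hS.1
  have hn := hB.neg _ hp
  rw [nH_eq_hH_mul h hD π hπ hp t]
  have e : ∀ (a b g : M), (a * b) * g * (a * b)⁻¹ = a * (b * g * b⁻¹) * a⁻¹ := by
    intros; group
  rw [e, nS_conj_X_neg h hD π hπ hi, hH_conj_X_all h hD π hπ hi hp ht, hA.hS.2.1]
  congr 1
  rw [zpow_ofNat]
  ring

/-- `x_p(a) n̂_p(t) = n̂_p(t) x_{-p}(-t⁻² a)` -/
theorem X_mul_nH {t : F} (ht : t ≠ 0) (a : F) :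
    X (D.simple i) a * nH X D (D.simple i) t =
      nH X D (D.simple i) t * X (D.neg (D.simple i)) (-(t ^ 2)⁻¹ * a) := by
  have hp := (simpleAll_of_tabulated hD hi).hS.1
  have h1 := nH_conj_X_self h hD π hπ hi (neg_ne_zero.2 ht) a
  rw [nH_neg h hD π hπ hp, inv_inv, neg_sq] at h1
  rw [← h1]
  group

/-- `x_{-p}(b) n̂_p(t) = n̂_p(t) x_p(-t² b)` -/
theorem Xneg_mul_nH {t : F} (ht : t ≠ 0) (b : F) :
    X (D.neg (D.simple i)) b * nH X D (D.simple i) t =
      nH X D (D.simple i) t * X (D.simple i) (-(t ^ 2) * b) := by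
  have hp := (simpleAll_of_tabulated hD hi).hS.1
  have h1 := nH_conj_X_neg h hD π hπ hi (neg_ne_zero.2 ht) b
  rw [nH_neg h hD π hπ hp, inv_inv, neg_sq] at h1
  rw [← h1]
  group

/-- the rank one identity `n̂(t) n̂(u) = n̂(t²/(t+u)) n̂(tu/(t+u))` -/
theorem nH_mul_nH {t u : F} (ht : t ≠ 0) (hu : u ≠ 0) (hw : t + u ≠ 0) :
    nH X D (D.simple i) t * nH X D (D.simple i) u =
      nH X D (D.simple i) (t ^ 2 / (t + u)) * nH X D (D.simple i) (t * u / (t + u)) := by
  have hB := basicOK_of_tabulated hD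
  have hA := simpleAll_of_tabulated hD hi
  have hp := hA.hS.1
  have hn := hB.neg _ hp
  obtain ⟨s, hs⟩ : ∃ s : F, s = t ^ 2 / (t + u) := ⟨_, rfl⟩
  obtain ⟨v, hv⟩ : ∃ v : F, v = t * u / (t + u) := ⟨_, rfl⟩
  have hs0 : s ≠ 0 := by rw [hs]; exact div_ne_zero (pow_ne_zero 2 ht) hw
  have hv0 : v ≠ 0 := by rw [hv]; exact div_ne_zero (mul_ne_zero ht hu) hw
  rw [← hs, ← hv]
  -- it suffices to show `n̂(s)⁻¹ n̂(t) n̂(u) = n̂(v)`
  have key : nH X D (D.simple i) (-s) * (nH X D (D.simple i) t * nH X D (D.simple i) u) =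
      nH X D (D.simple i) v := by
    rw [nH_eq X (D.simple i) (-s)]
    have e1 : -(-s)⁻¹ = s⁻¹ := by rw [inv_neg, neg_neg]
    rw [e1]
    -- move `x(-s)` through `n̂(t) n̂(u)`
    have m1 : X (D.simple i) (-s) * (nH X D (D.simple i) t * nH X D (D.simple i) u) =
        nH X D (D.simple i) t * nH X D (D.simple i) u * X (D.simple i) (-(u ^ 2 / (t + u))) := by
      rw [← mul_assoc, X_mul_nH h hD π hπ hi ht, mul_assoc (nH X D (D.simple i) t),
        Xneg_mul_nH h hD π hπ hi hu, ← mul_assoc]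
      congr 2
      rw [hs]
      field_simp
    -- move `y(s⁻¹)` through `n̂(t)`
    have m2 : X (D.neg (D.simple i)) s⁻¹ * nH X D (D.simple i) t =
        nH X D (D.simple i) t * X (D.simple i) (-(t + u)) := by
      rw [Xneg_mul_nH h hD π hπ hi ht]
      congr 2
      rw [hs]
      field_simp
    -- the middle product
    have m3 : nH X D (D.simple i) t * X (D.simple i) (-(t + u)) * nH X D (D.simple i) u =
        X (D.simple i) t * X (D.neg (D.simple i)) (-v⁻¹) * X (D.simple i) u := by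
      rw [nH_eq X (D.simple i) t, nH_eq X (D.simple i) u]
      have a1 : X (D.simple i) t * X (D.neg (D.simple i)) (-t⁻¹) * X (D.simple i) t *
          X (D.simple i) (-(t + u)) * (X (D.simple i) u * X (D.neg (D.simple i)) (-u⁻¹) *
            X (D.simple i) u) =
          X (D.simple i) t * X (D.neg (D.simple i)) (-t⁻¹) * (X (D.simple i) t *
          X (D.simple i) (-(t + u)) * X (D.simple i) u) * X (D.neg (D.simple i)) (-u⁻¹) *
            X (D.simple i) u := by group
      rw [a1, h.add _ hp, h.add _ hp]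
      have a2 : t + -(t + u) + u = 0 := by ring
      rw [a2, X_zero h hp, mul_one, mul_assoc (X (D.simple i) t), h.add _ hn.1]
      congr 3
      rw [hv]
      field_simp
      ring
    calc X (D.simple i) (-s) * X (D.neg (D.simple i)) s⁻¹ * X (D.simple i) (-s) *
          (nH X D (D.simple i) t * nH X D (D.simple i) u)
        = X (D.simple i) (-s) * X (D.neg (D.simple i)) s⁻¹ * (X (D.simple i) (-s) *
          (nH X D (D.simple i) t * nH X D (D.simple i) u)) := by group
      _ = X (D.simple i) (-s) * (X (D.neg (D.simple i)) s⁻¹ * nH X D (D.simple i) t) *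
          nH X D (D.simple i) u * X (D.simple i) (-(u ^ 2 / (t + u))) := by rw [m1]; group
      _ = X (D.simple i) (-s) * (nH X D (D.simple i) t * X (D.simple i) (-(t + u)) *
          nH X D (D.simple i) u) * X (D.simple i) (-(u ^ 2 / (t + u))) := by rw [m2]; group
      _ = (X (D.simple i) (-s) * X (D.simple i) t) * X (D.neg (D.simple i)) (-v⁻¹) *
          (X (D.simple i) u * X (D.simple i) (-(u ^ 2 / (t + u)))) := by rw [m3]; group
      _ = nH X D (D.simple i) v := by
        rw [h.add _ hp, h.add _ hp, nH_eq X (D.simple i) v]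
        have b1 : -s + t = v := by rw [hs, hv]; field_simp; ring
        have b2 : u + -(u ^ 2 / (t + u)) = v := by rw [hv]; field_simp; ring
        rw [b1, b2]
  rw [nH_neg h hD π hπ hp] at key
  rw [← key]
  group

/-- `ĥ(t) ĥ(u) = ĥ(tu)` when `t + u = 1` -/
theorem hH_mul_of_add_eq_one {t u : F} (ht : t ≠ 0) (hu : u ≠ 0) (htu : t + u = 1) :
    hH X D (D.simple i) t * hH X D (D.simple i) u = hH X D (D.simple i) (t * u) := by
  have hp := (simpleAll_of_tabulated hD hi).hS.1
  have e0 : -t + t * u = -(t ^ 2) := by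
    have : u = 1 - t := by rw [← htu]; ring
    rw [this]; ring
  have hw : -t + t * u ≠ 0 := by
    rw [e0]
    exact neg_ne_zero.2 (pow_ne_zero 2 ht)
  have h1 := nH_mul_nH h hD π hπ hi (neg_ne_zero.2 ht) (mul_ne_zero ht hu) hw
  have e1 : (-t) ^ 2 / (-t + t * u) = -1 := by
    rw [e0, neg_sq, div_neg, div_self (pow_ne_zero 2 ht)]
  have e2 : -t * (t * u) / (-t + t * u) = u := by
    rw [e0]
    field_simp
  rw [e1, e2, nH_neg h hD π hπ hp] at h1
  -- `h1 : n̂(t)⁻¹ n̂(tu) = n̂(-1) n̂(u)`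
  rw [hH_eq, hH_eq, hH_eq]
  calc nH X D (D.simple i) t * nH X D (D.simple i) (-1) *
        (nH X D (D.simple i) u * nH X D (D.simple i) (-1))
      = nH X D (D.simple i) t * (nH X D (D.simple i) (-1) * nH X D (D.simple i) u) *
        nH X D (D.simple i) (-1) := by group
    _ = nH X D (D.simple i) (t * u) * nH X D (D.simple i) (-1) := by rw [← h1]; group

/-- `ĥ(t) n̂(u) ĥ(t)⁻¹ = n̂(t² u)` -/
theorem hH_conj_nH_self {t : F} (ht : t ≠ 0) (u : F) :
    hH X D (D.simple i) t * nH X D (D.simple i) u * (hH X D (D.simple i) t)⁻¹ =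
      nH X D (D.simple i) (t ^ 2 * u) := by
  have hA := simpleAll_of_tabulated hD hi
  rw [hH_conj_nH h hD π hπ hi hi ht, hA.hS.2.1, zpow_ofNat]

/-- `ĥ(t) ĥ(u) ĥ(t)⁻¹ = ĥ(t² u) ĥ(t²)⁻¹` -/
theorem hH_conj_hH_self {t : F} (ht : t ≠ 0) (u : F) :
    hH X D (D.simple i) t * hH X D (D.simple i) u * (hH X D (D.simple i) t)⁻¹ =
      hH X D (D.simple i) (t ^ 2 * u) * (hH X D (D.simple i) (t ^ 2))⁻¹ := by
  have hp := (simpleAll_of_tabulated hD hi).hS.1
  have e : ∀ (g x y : M), g * (x * y) * g⁻¹ = (g * x * g⁻¹) * (g * y * g⁻¹) := by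
    intros; group
  rw [hH_eq X (D.simple i) u, e, hH_conj_nH_self h hD π hπ hi ht, hH_conj_nH_self h hD π hπ hi ht,
    hH_eq, hH_eq, mul_neg, mul_one, nH_neg h hD π hπ hp (t ^ 2)]
  group

theorem hH_one' : hH X D (D.simple i) (1 : F) = 1 := by
  have hp := (simpleAll_of_tabulated hD hi).hS.1
  rw [hH_eq, nH_neg_one h hD π hπ hp, mul_inv_cancel]

variable (hgen : Subgroup.closure {g | ∃ r < D.nroots, ∃ t : F, g = X r t} = ⊤)
include hgen

omit hi in
/-- the cocycle `ĥ_r(t) ĥ_r(u) ĥ_r(tu)⁻¹` is central -/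
theorem hH_cocycle_mem_center {r : ℕ} (hr : r < D.nroots) {t u : F} (ht : t ≠ 0) (hu : u ≠ 0) :
    hH X D r t * hH X D r u * (hH X D r (t * u))⁻¹ ∈ Subgroup.center M := by
  apply ker_le_center h hD π hπ hgen
  rw [MonoidHom.mem_ker, map_mul, map_mul, map_inv, mul_inv_eq_one]
  apply Units.ext
  rw [Units.val_mul, map_hH_val h hD π hπ hr, map_hH_val h hD π hπ hr, map_hH_val h hD π hπ hr,
    hMat_mul_hMat hD hr ht hu]

section finite

variable [Finite F]

/-- over a finite field the `ĥ_p(t)` commute -/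
theorem hH_comm_of_finite {t u : F} (ht : t ≠ 0) (hu : u ≠ 0) :
    hH X D (D.simple i) t * hH X D (D.simple i) u =
      hH X D (D.simple i) u * hH X D (D.simple i) t := by
  have hp := (simpleAll_of_tabulated hD hi).hS.1
  obtain ⟨w, hw⟩ := IsCyclic.exists_monoid_generator (α := Fˣ)
  have key : ∀ k : ℕ, ∃ z ∈ Subgroup.center M,
      hH X D (D.simple i) ((w : F) ^ k) = hH X D (D.simple i) (w : F) ^ k * z := by
    intro k
    induction k with
    | zero => exact ⟨1, Subgroup.one_mem _, by rw [pow_zero, pow_zero, hH_one' h hD π hπ hi, one_mul]⟩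
    | succ k ih =>
      obtain ⟨z, hz, e⟩ := ih
      have hf := hH_cocycle_mem_center h hD π hπ hgen hp (pow_ne_zero k w.ne_zero) w.ne_zero
      obtain ⟨f, hfdef⟩ : ∃ f : M, f = hH X D (D.simple i) ((w : F) ^ k) *
        hH X D (D.simple i) (w : F) * (hH X D (D.simple i) ((w : F) ^ k * (w : F)))⁻¹ := ⟨_, rfl⟩
      rw [← hfdef] at hf
      refine ⟨z * f⁻¹, Subgroup.mul_mem _ hz (Subgroup.inv_mem _ hf), ?_⟩
      have e2 : hH X D (D.simple i) ((w : F) ^ (k + 1)) =
          f⁻¹ * (hH X D (D.simple i) ((w : F) ^ k) * hH X D (D.simple i) (w : F)) := by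
        rw [pow_succ, hfdef]
        group
      rw [e2, e, pow_succ]
      have c1 := Subgroup.mem_center_iff.1 (Subgroup.inv_mem _ hf)
      have c2 := Subgroup.mem_center_iff.1 hz
      rw [← c1, mul_assoc (hH X D (D.simple i) (w : F) ^ k), ← c2, mul_assoc, mul_assoc, mul_assoc]
  obtain ⟨a, ha⟩ := (Submonoid.mem_powers_iff _ _).1 (hw (Units.mk0 t ht))
  obtain ⟨b, hb⟩ := (Submonoid.mem_powers_iff _ _).1 (hw (Units.mk0 u hu))
  have ta : t = (w : F) ^ a := by
    have := congrArg (fun x : Fˣ => (x : F)) ha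
    simpa using this.symm
  have ub : u = (w : F) ^ b := by
    have := congrArg (fun x : Fˣ => (x : F)) hb
    simpa using this.symm
  obtain ⟨z, hz, e⟩ := key a
  obtain ⟨z', hz', e'⟩ := key b
  rw [ta, ub, e, e']
  have c1 : ∀ x : M, Commute z x := fun x => (Subgroup.mem_center_iff.1 hz x).symm
  have c2 : ∀ x : M, Commute z' x := fun x => (Subgroup.mem_center_iff.1 hz' x).symm
  have k1 : Commute (hH X D (D.simple i) (w : F) ^ a) (hH X D (D.simple i) (w : F) ^ b * z') :=
    (Commute.pow_pow_self _ a b).mul_right (c2 _).symm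
  exact (k1.mul_left (c1 _)).eq

/-- `ĥ(a) ĥ(s²) = ĥ(a s²)` over a finite field -/
theorem hH_mul_sq_of_finite {a s : F} (ha : a ≠ 0) (hs : s ≠ 0) :
    hH X D (D.simple i) a * hH X D (D.simple i) (s ^ 2) = hH X D (D.simple i) (a * s ^ 2) := by
  have h1 := hH_conj_hH_self h hD π hπ hi hs a
  rw [hH_comm_of_finite h hD π hπ hi hgen hs ha, mul_inv_cancel_right] at h1
  rw [mul_comm a, h1, inv_mul_cancel_right]

/-- Steinberg's Theorem 9 at a fundamental root: over a finite field (R3) holds -/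
theorem hH_mul_of_finite {t u : F} (ht : t ≠ 0) (hu : u ≠ 0) :
    hH X D (D.simple i) t * hH X D (D.simple i) u = hH X D (D.simple i) (t * u) := by
  classical
  have : Fintype F := Fintype.ofFinite F
  by_cases h2 : ringChar F = 2
  · obtain ⟨s, hs⟩ := FiniteField.isSquare_of_char_two h2 u
    have hs0 : s ≠ 0 := by
      rintro rfl
      rw [mul_zero] at hs
      exact hu hs
    rw [hs, ← pow_two]
    exact hH_mul_sq_of_finite h hD π hπ hi hgen ht hs0
  · obtain ⟨ν, hν⟩ := FiniteField.exists_nonsquare h2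
    have hν0 : ν ≠ 0 := by
      rintro rfl
      exact hν ⟨0, by rw [mul_zero]⟩
    have hcard := FiniteField.odd_card_of_char_ne_two h2
    obtain ⟨a, b, hab⟩ := FiniteField.exists_root_sum_quadratic (R := F)
      (f := Polynomial.X ^ 2) (g := Polynomial.X ^ 2 - Polynomial.C ν)
      (Polynomial.degree_X_pow 2) (Polynomial.degree_X_pow_sub_C (by norm_num) ν) hcard
    simp only [Polynomial.eval_pow, Polynomial.eval_X, Polynomial.eval_sub, Polynomial.eval_C] at hab
    have hab' : a ^ 2 + b ^ 2 = ν := by linear_combination hab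
    have ha0 : a ≠ 0 := by
      rintro rfl
      apply hν
      exact ⟨b, by rw [← hab']; ring⟩
    have hb0 : b ≠ 0 := by
      rintro rfl
      apply hν
      exact ⟨a, by rw [← hab']; ring⟩
    -- the two non-squares with sum one
    have hd := hH_mul_of_add_eq_one h hD π hπ hi (t := a ^ 2 / ν) (u := b ^ 2 / ν)
      (div_ne_zero (pow_ne_zero 2 ha0) hν0) (div_ne_zero (pow_ne_zero 2 hb0) hν0)
      (by rw [← add_div, hab', div_self hν0])
    -- a non-square is `c²/ν`
    have hns : ∀ x : F, x ≠ 0 → ¬ IsSquare x → ∃ c : F, c ≠ 0 ∧ x = c ^ 2 / ν := by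
      intro x hx0 hx
      have h1 : quadraticChar F (x * ν) = 1 := by
        rw [map_mul, quadraticChar_neg_one_iff_not_isSquare.2 hx,
          quadraticChar_neg_one_iff_not_isSquare.2 hν]
        norm_num
      obtain ⟨c, hc⟩ := (quadraticChar_one_iff_isSquare (mul_ne_zero hx0 hν0)).1 h1
      refine ⟨c, ?_, ?_⟩
      · rintro rfl
        rw [mul_zero] at hc
        exact mul_ne_zero hx0 hν0 hc
      · rw [pow_two, ← hc, mul_div_cancel_right₀ _ hν0]
    have sq := fun {a s : F} (ha : a ≠ 0) (hs : s ≠ 0) =>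
      hH_mul_sq_of_finite h hD π hπ hi hgen ha hs
    by_cases hu2 : IsSquare u
    · obtain ⟨s, hs⟩ := hu2
      have hs0 : s ≠ 0 := by
        rintro rfl
        rw [mul_zero] at hs
        exact hu hs
      rw [hs, ← pow_two]
      exact sq ht hs0
    · by_cases ht2 : IsSquare t
      · obtain ⟨s, hs⟩ := ht2
        have hs0 : s ≠ 0 := by
          rintro rfl
          rw [mul_zero] at hs
          exact ht hs
        rw [hH_comm_of_finite h hD π hπ hi hgen ht hu, mul_comm t u, hs, ← pow_two]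
        exact sq hu hs0
      · obtain ⟨c, hc0, hc⟩ := hns t ht ht2
        obtain ⟨d, hd0, hd'⟩ := hns u hu hu2
        -- `t = (a²/ν) (c/a)²`, `u = (b²/ν) (d/b)²`
        have et : t = a ^ 2 / ν * (c / a) ^ 2 := by rw [hc]; field_simp
        have eu : u = b ^ 2 / ν * (d / b) ^ 2 := by rw [hd']; field_simp
        have hca : c / a ≠ 0 := div_ne_zero hc0 ha0
        have hdb : d / b ≠ 0 := div_ne_zero hd0 hb0
        have hA0 : a ^ 2 / ν ≠ 0 := div_ne_zero (pow_ne_zero 2 ha0) hν0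
        have hB0 : b ^ 2 / ν ≠ 0 := div_ne_zero (pow_ne_zero 2 hb0) hν0
        have hcomm := fun {x y : F} (hx : x ≠ 0) (hy : y ≠ 0) =>
          hH_comm_of_finite h hD π hπ hi hgen hx hy
        rw [et, eu, ← sq hA0 hca, ← sq hB0 hdb]
        calc hH X D (D.simple i) (a ^ 2 / ν) * hH X D (D.simple i) ((c / a) ^ 2) *
              (hH X D (D.simple i) (b ^ 2 / ν) * hH X D (D.simple i) ((d / b) ^ 2))
            = hH X D (D.simple i) (a ^ 2 / ν) * (hH X D (D.simple i) ((c / a) ^ 2) *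
              hH X D (D.simple i) (b ^ 2 / ν)) * hH X D (D.simple i) ((d / b) ^ 2) := by group
          _ = hH X D (D.simple i) (a ^ 2 / ν) * hH X D (D.simple i) (b ^ 2 / ν) *
              hH X D (D.simple i) ((c / a) ^ 2) * hH X D (D.simple i) ((d / b) ^ 2) := by
              rw [hcomm (pow_ne_zero 2 hca) hB0]; group
          _ = hH X D (D.simple i) (a ^ 2 / ν * (b ^ 2 / ν) * (c / a) ^ 2 * (d / b) ^ 2) := by
              rw [hd, sq (mul_ne_zero hA0 hB0) hca,
                sq (mul_ne_zero (mul_ne_zero hA0 hB0) (pow_ne_zero 2 hca)) hdb]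
          _ = _ := by
              congr 1
              ring

end finite

end rankone

section transport

variable {X : ℕ → F → M} (h : R12 D X) (hD : IsTabulated D) (π : M →* GL D.Idx F)
  (hπ : ∀ r < D.nroots, ∀ t : F, π (X r t) = xU (basicOK_of_tabulated hD) r t)
include h hπ

/-- the relation (R3) at the root `r` -/
def R3At (X : ℕ → F → M) (D : ChevalleyDatum) (r : ℕ) : Prop :=
  ∀ t u : F, t ≠ 0 → u ≠ 0 → hH X D r t * hH X D r u = hH X D r (t * u)

/-- `n̂_p n̂_s(t) n̂_p⁻¹ = n̂_{w_p s}(η t)` -/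
theorem nS_conj_nH {i : ℕ} (hi : i < D.rank) {s : ℕ} (hs : s < D.nroots) {t : F} (ht : t ≠ 0) :
    nH X D (D.simple i) 1 * nH X D s t * (nH X D (D.simple i) 1)⁻¹ =
      nH X D (wR D (D.simple i) s) (((etaR D (D.simple i) s : ℤ) : F) * t) := by
  have hB := basicOK_of_tabulated hD
  have hA := simpleAll_of_tabulated hD hi
  have hp := hA.hS.1
  have hn := hB.neg _ hs
  have e : ∀ (g a b c : M), g * (a * b * c) * g⁻¹ = (g * a * g⁻¹) * (g * b * g⁻¹) * (g * c * g⁻¹) := by
    intros; group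
  rw [nH_eq X s t, e, nH_conj_X_all h hD π hπ hi hs, nH_conj_X_all h hD π hπ hi hn.1,
    etaR_neg hB hA hs, hA.hC.negw s hs, nH_eq]
  congr 2
  rcases etaR_pm hB hp hA.hR hs with h1 | h1 <;> rw [h1] <;> simp

theorem r3At_step {i : ℕ} (hi : i < D.rank) {s : ℕ} (hs : s < D.nroots) (hR : R3At X D s) :
    R3At X D (wR D (D.simple i) s) := by
  have hB := basicOK_of_tabulated hD
  have hA := simpleAll_of_tabulated hD hi
  have hp := hA.hS.1
  have hs' : wR D (D.simple i) s < D.nroots := wR_lt hB hp hA.hR hs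
  obtain ⟨n, hn⟩ : ∃ n : M, n = nH X D (D.simple i) 1 := ⟨_, rfl⟩
  have e : ∀ (g x y : M), g * (x * y) * g⁻¹ = (g * x * g⁻¹) * (g * y * g⁻¹) := by
    intros; group
  -- `φ(t) = n ĥ_s(t) n⁻¹` is multiplicative
  have hφ : ∀ t u : F, t ≠ 0 → u ≠ 0 →
      (n * hH X D s t * n⁻¹) * (n * hH X D s u * n⁻¹) = n * hH X D s (t * u) * n⁻¹ := by
    intro t u ht hu
    rw [← hR t u ht hu]
    group
  intro t u ht hu
  rcases etaR_pm hB hp hA.hR hs with h1 | h1
  · -- `η = 1`
    have key : ∀ v : F, v ≠ 0 → hH X D (wR D (D.simple i) s) v = n * hH X D s v * n⁻¹ := by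
      intro v hv
      rw [hH_eq X s v, e, hn, nS_conj_nH h hD π hπ hi hs hv,
        nS_conj_nH h hD π hπ hi hs (neg_ne_zero.2 one_ne_zero), h1, hH_eq]
      simp
    rw [key t ht, key u hu, key (t * u) (mul_ne_zero ht hu)]
    exact hφ t u ht hu
  · -- `η = -1`
    obtain ⟨N, hN⟩ : ∃ N : M, N = nH X D (wR D (D.simple i) s) 1 := ⟨_, rfl⟩
    have key : ∀ v : F, v ≠ 0 →
        hH X D (wR D (D.simple i) s) v = N * (n * hH X D s v * n⁻¹)⁻¹ * N⁻¹ := by
      intro v hv
      rw [hH_eq X s v, e, hn, nS_conj_nH h hD π hπ hi hs hv,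
        nS_conj_nH h hD π hπ hi hs (neg_ne_zero.2 one_ne_zero), h1, hH_eq]
      have a1 : ((-1 : ℤ) : F) * v = -v := by simp
      have a2 : ((-1 : ℤ) : F) * -1 = 1 := by simp
      rw [a1, a2, nH_neg h hD π hπ hs' v, nH_neg_one h hD π hπ hs', hN]
      group
    rw [key t ht, key u hu, key (t * u) (mul_ne_zero ht hu), mul_comm t u, ← hφ u t hu ht]
    group

variable (hgen : Subgroup.closure {g | ∃ r < D.nroots, ∃ t : F, g = X r t} = ⊤)
include hgen

/-- Steinberg's Theorem 9: over a finite field (R3) holds at every root -/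
theorem r3At_of_finite [Finite F] {r : ℕ} (hr : r < D.nroots) : R3At X D r := by
  have Δ := bnData_of_tabulated F hD
  have key : ∀ r, Reach D r → r < D.nroots ∧ R3At X D r := by
    intro r hR
    induction hR with
    | simple hi =>
      exact ⟨(simpleAll_of_tabulated hD hi).hS.1,
        fun t u ht hu => hH_mul_of_finite h hD π hπ hi hgen ht hu⟩
    | step hi hs _ ih =>
      have hA := simpleAll_of_tabulated hD hi
      exact ⟨wR_lt (basicOK_of_tabulated hD) hA.hS.1 hA.hR hs, r3At_step h hD π hπ hi hs ih.2⟩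
  exact (key r (Δ.hReach r hr)).2

end transport

theorem lift_of_eq_mk {α : Type*} (rels : Set (FreeGroup α)) (g : FreeGroup α) :
    FreeGroup.lift (fun a => (PresentedGroup.of a : PresentedGroup rels)) g =
      PresentedGroup.mk rels g := by
  have e : FreeGroup.lift (fun a => (PresentedGroup.of a : PresentedGroup rels)) =
      PresentedGroup.mk rels :=
    FreeGroup.ext_hom _ _ (fun a => by rw [FreeGroup.lift_apply_of]; rfl)
  rw [e]

end Cfsg.Agent.Helper2.Stb
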