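import Mathlib
import Cfsg.Agent.Helper6.Chev.TablesBN

set_option autoImplicit false

/-! The exceptional graph automorphisms of `B₂`, `F₄` (characteristic 2) and `G₂`
(characteristic 3): the root permutation, the exponents, and the table check that the
commutator relations are preserved. -/

namespace Cfsg.Agent.Helper2.Stb

open Cfsg.Lie Cfsg.Agent.Helper6

/-- signature of the image of a term of `[x_s(u), x_r(t)]` -/
def sig1 (rho lam : ℕ → ℕ) (c : ℕ × ℤ × ℕ × ℕ) : ℕ × ℤ × ℕ × ℕ :=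
  (rho c.1, c.2.1 ^ (lam c.1) * (-1) ^ (c.2.2.1 * lam c.1), lam c.1 * c.2.2.1, lam c.1 * c.2.2.2)

/-- signature of a term of `[x_{ρ s}(u^{λ_s}), x_{ρ r}(t^{λ_r})]` -/
def sig2 (lr ls : ℕ) (c : ℕ × ℤ × ℕ × ℕ) : ℕ × ℤ × ℕ × ℕ :=
  (c.1, c.2.1 * (-1) ^ c.2.2.1, lr * c.2.2.1, ls * c.2.2.2)

/-- reduce the coefficients modulo `p` and drop the vanishing terms -/
def normP (p : ℕ) (L : List (ℕ × ℤ × ℕ × ℕ)) : List (ℕ × ℤ × ℕ × ℕ) :=
  (L.map fun c => (c.1, c.2.1 % (p : ℤ), c.2.2.1, c.2.2.2)).filter fun c => !(decide (c.2.1 = 0))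

/-- the root subgroups of `q`, `q'` commute in characteristic `p` -/
def commOK (D : ChevalleyDatum) (p : ℕ) (q q' : ℕ) : Bool :=
  Nat.blt q D.nroots && Nat.blt q' D.nroots && !Nat.beq q' q && !Nat.beq q' (negF D q) &&
  allL (commTermsG (ceF D) q q') fun c => decide (c.2.1 % (p : ℤ) = 0)

/-- pairwise check -/
def pwChk {α : Type} (R : α → α → Bool) : List α → Bool
  | [] => true
  | a :: L => allL L (R a) && pwChk R L

/-- the check for the pair `(r, s)` -/
def pairChk (D : ChevalleyDatum) (p : ℕ) (rho lam : ℕ → ℕ) (r s : ℕ) : Bool :=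
  !Nat.beq (rho s) (rho r) && !Nat.beq (rho s) (negF D (rho r)) &&
  allL (commTermsG (ceF D) r s) (fun c => Nat.blt c.1 D.nroots) &&
  (normP p ((commTermsG (ceF D) r s).map (sig1 rho lam))).isPerm
    (normP p ((commTermsG (ceF D) (rho r) (rho s)).map (sig2 (lam r) (lam s)))) &&
  pwChk (fun a b => commOK D p a.1 b.1)
    (normP p ((commTermsG (ceF D) (rho r) (rho s)).map (sig2 (lam r) (lam s))))

/-- the full check -/
def graphChk (D : ChevalleyDatum) (p : ℕ) (rho lam : ℕ → ℕ) : Bool :=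
  allLt D.nroots fun r =>
    Nat.blt (rho r) D.nroots && Nat.beq (rho (rho r)) r && Nat.beq (lam r * lam (rho r)) p &&
    (Nat.beq (lam r) 1 || Nat.beq (lam r) p) &&
    allLt D.nroots fun s => Nat.beq s r || Nat.beq s (negF D r) || pairChk D p rho lam r s

/-- the root permutations -/
def rhoL (D : ChevalleyDatum) : List ℕ :=
  if D.nroots = 8 then [1, 0, 3, 2, 5, 4, 7, 6]
  else if D.nroots = 12 then [2, 3, 0, 1, 5, 4, 7, 6, 10, 11, 8, 9]
  else [3, 7, 8, 0, 9, 11, 18, 1, 2, 4, 15, 5, 16, 21, 23, 10, 12, 19, 6, 17, 22, 13, 20, 14, 33, 27,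
    34, 25, 30, 41, 28, 35, 37, 24, 26, 31, 42, 32, 43, 45, 46, 29, 36, 38, 47, 39, 40, 44]

/-- the exponents -/
def lamL (D : ChevalleyDatum) : List ℕ :=
  if D.nroots = 8 then [1, 2, 2, 1, 1, 2, 2, 1]
  else if D.nroots = 12 then [1, 1, 3, 3, 3, 1, 1, 3, 3, 3, 1, 1]
  else [1, 1, 1, 2, 1, 1, 1, 2, 2, 2, 2, 2, 2, 2, 2, 1, 1, 1, 2, 2, 2, 1, 1, 1, 1, 1, 1, 2, 2, 2, 1,
    1, 1, 2, 2, 2, 2, 2, 2, 2, 2, 1, 1, 1, 2, 1, 1, 1]

/-- the root permutation of the graph automorphism (the identity out of range) -/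
def rhoG (D : ChevalleyDatum) (r : ℕ) : ℕ := (rhoL D).getD r r

/-- the exponent of the graph automorphism at the root `r` -/
def lamG (D : ChevalleyDatum) (r : ℕ) : ℕ := (lamL D).getD r 1

set_option maxRecDepth 100000 in
theorem graphChk_B2 : graphChk chevB2 2 (rhoG chevB2) (lamG chevB2) = true := by decide +kernel

set_option maxRecDepth 100000 in
theorem graphChk_F4 : graphChk chevF4 2 (rhoG chevF4) (lamG chevF4) = true := by decide +kernel

set_option maxRecDepth 100000 in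
theorem graphChk_G2 : graphChk chevG2 3 (rhoG chevG2) (lamG chevG2) = true := by decide +kernel

end Cfsg.Agent.Helper2.Stb
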