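import Mathlib
import Cfsg.Agent.Helper2.Stb.TabGraph
import Cfsg.Agent.Helper2.Stb.Center
import Cfsg.Agent.S1080
import Cfsg.Agent.Helper6.Chev.Perfect

set_option autoImplicit false
set_option linter.unusedSectionVars false
set_option linter.unusedSimpArgs false
set_option linter.unusedVariables false

/-! The exceptional graph automorphisms of `B₂`, `F₄` (characteristic 2) and `G₂`
(characteristic 3), part 2: the construction from the table check, through Steinberg's
presentation. -/

namespace Cfsg.Agent.Helper2.Stb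

open Cfsg.Lie Cfsg.Agent.Helper6 Cfsg.Agent.Helper2.StPerf

variable {D : ChevalleyDatum} {K : Type*} [Field K]

/-- evaluation of a signature at `(t, u)` -/
def evS (t u : K) (c : ℕ × ℤ × ℕ × ℕ) : ℕ × K := (c.1, (c.2.1 : K) * t ^ c.2.2.1 * u ^ c.2.2.2)

theorem pwChk_iff {α : Type} (R : α → α → Bool) (L : List α) :
    pwChk R L = true ↔ L.Pairwise (fun a b => R a b = true) := by
  induction L with
  | nil => simp [pwChk]
  | cons a L ih =>
    rw [pwChk, Bool.and_eq_true, allL_iff, ih, List.pairwise_cons]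

/-- what the table check gives -/
structure GraphOK (D : ChevalleyDatum) (p : ℕ) (rho lam : ℕ → ℕ) : Prop where
  lt : ∀ r < D.nroots, rho r < D.nroots
  invol : ∀ r < D.nroots, rho (rho r) = r
  lam_mul : ∀ r < D.nroots, lam r * lam (rho r) = p
  lam_cases : ∀ r < D.nroots, lam r = 1 ∨ lam r = p
  pair : ∀ r < D.nroots, ∀ s < D.nroots, s ≠ r → s ≠ D.neg r → pairChk D p rho lam r s = true

theorem graphOK_of_chk (hD : IsTabulated D) {p : ℕ} {rho lam : ℕ → ℕ}
    (h : graphChk D p rho lam = true) : GraphOK D p rho lam := by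
  have hF := fastOK_of_tabulated hD
  simp only [graphChk, allLt_iff, Bool.and_eq_true, Bool.or_eq_true, Nat.blt_eq, Nat.beq_eq] at h
  refine ⟨fun r hr => (h r hr).1.1.1.1, fun r hr => (h r hr).1.1.1.2, fun r hr => (h r hr).1.1.2,
    fun r hr => (h r hr).1.2, ?_⟩
  intro r hr s hs h1 h2
  rcases (h r hr).2 s hs with (e | e) | e
  · exact absurd e h1
  · rw [negF_eq hF.chk] at e
    exact absurd e h2
  · exact e

section charp

variable (p : ℕ) [CharP K p]

theorem intCast_mod_charP (z : ℤ) : ((z % (p : ℤ) : ℤ) : K) = (z : K) := by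
  rw [CharP.intCast_eq_intCast K p]
  exact Int.mod_modEq _ _

theorem wordU_normP (hB : BasicOK D) (t u : K) (L : List (ℕ × ℤ × ℕ × ℕ)) :
    wordU hB ((normP p L).map (evS t u)) = wordU hB (L.map (evS t u)) := by
  induction L with
  | nil => rfl
  | cons c L ih =>
    have e : normP p (c :: L) =
        if c.2.1 % (p : ℤ) = 0 then normP p L
        else (c.1, c.2.1 % (p : ℤ), c.2.2.1, c.2.2.2) :: normP p L := by
      unfold normP
      rw [List.map_cons, List.filter_cons]
      by_cases h0 : c.2.1 % (p : ℤ) = 0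
      · simp [h0]
      · simp [h0]
    rw [e, List.map_cons, wordU_cons]
    by_cases h0 : c.2.1 % (p : ℤ) = 0
    · rw [if_pos h0, ih]
      have h2 : (evS t u c).2 = 0 := by
        unfold evS
        simp only
        rw [← intCast_mod_charP p c.2.1, h0, Int.cast_zero, zero_mul, zero_mul]
      rw [h2, xU_zero, one_mul]
    · rw [if_neg h0, List.map_cons, wordU_cons, ih]
      have h2 : evS t u (c.1, c.2.1 % (p : ℤ), c.2.2.1, c.2.2.2) = evS t u c := by
        unfold evS
        simp only
        rw [intCast_mod_charP]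
      rw [h2]

theorem wordU_allzero (hB : BasicOK D) (T : List (ℕ × ℤ × ℕ × ℕ))
    (hT : ∀ c ∈ T, c.2.1 % (p : ℤ) = 0) (a b : K) :
    wordU hB (T.map fun c => (c.1, (c.2.1 : K) * (-a) ^ c.2.2.1 * b ^ c.2.2.2)) = 1 := by
  induction T with
  | nil => exact wordU_nil hB
  | cons c T ih =>
    rw [List.map_cons, wordU_cons, ih (fun c' hc' => hT c' (List.mem_cons_of_mem _ hc')), mul_one]
    simp only
    rw [← intCast_mod_charP p c.2.1, hT c List.mem_cons_self, Int.cast_zero, zero_mul, zero_mul,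
      xU_zero]

theorem commute_of_commOK (hD : IsTabulated D) {q q' : ℕ} (h : commOK D p q q' = true) (a b : K) :
    Commute (xU (basicOK_of_tabulated hD) q a) (xU (basicOK_of_tabulated hD) q' b) := by
  have hB := basicOK_of_tabulated hD
  have hF := fastOK_of_tabulated hD
  have Δ := bnData_of_tabulated K hD
  simp only [commOK, Bool.and_eq_true, Nat.blt_eq, Bool.not_eq_true', allL_iff,
    decide_eq_true_eq] at h
  obtain ⟨⟨⟨⟨h1, h2⟩, h3⟩, h4⟩, h5⟩ := h
  rw [negF_eq hF.chk] at h4
  rw [ceF_eq hF.keys hF.chk, commTermsG_eq] at h5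
  have hc := Δ.hC q h1 q' h2 (Nat.ne_of_beq_eq_false h3) (Nat.ne_of_beq_eq_false h4) a b
  have hw : D.wordMat K (D.commWord K q q' a b) = 1 := by
    rw [← wordU_val hB]
    unfold ChevalleyDatum.commWord
    rw [wordU_allzero p hB _ h5]
    rfl
  rw [hw, mul_one] at hc
  unfold Commute SemiconjBy
  apply Units.ext
  simp only [Units.val_mul, xU_val]
  exact hc.symm

end charp

theorem commWord_sig2 (r' s' lr ls : ℕ) (t u : K) :
    D.commWord K r' s' (t ^ lr) (u ^ ls) =
      ((D.commTerms r' s').map (sig2 lr ls)).map (evS t u) := by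
  unfold ChevalleyDatum.commWord
  rw [List.map_map]
  apply List.map_congr_left
  intro c _
  unfold sig2 evS
  simp only [Function.comp_apply]
  refine Prod.ext rfl ?_
  simp only
  push_cast
  ring

theorem commWord_sig1 (rho lam : ℕ → ℕ) (r s : ℕ) (t u : K) :
    (D.commWord K r s t u).map (fun q => (rho q.1, q.2 ^ lam q.1)) =
      ((D.commTerms r s).map (sig1 rho lam)).map (evS t u) := by
  unfold ChevalleyDatum.commWord
  rw [List.map_map, List.map_map]
  apply List.map_congr_left
  intro c _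
  unfold sig1 evS
  simp only [Function.comp_apply]
  refine Prod.ext rfl ?_
  simp only
  push_cast
  ring

/-- the images of the generators under the graph automorphism -/
noncomputable def gY (hB : BasicOK D) (K : Type*) [Field K] (rho lam : ℕ → ℕ)
    (q : Fin D.nroots × K) : ↥(D.group K) :=
  gX hB K (rho q.1.val) (q.2 ^ lam q.1.val)

theorem liftY_stX (hB : BasicOK D) (rho lam : ℕ → ℕ) {r : ℕ} (hr : r < D.nroots) (t : K) :
    FreeGroup.lift (gY hB K rho lam) (D.stX r t) = gX hB K (rho r) (t ^ lam r) := by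
  unfold ChevalleyDatum.stX
  rw [dif_pos hr, FreeGroup.lift_apply_of]
  rfl

theorem liftY_stWord_val (hB : BasicOK D) (rho lam : ℕ → ℕ) (w : List (ℕ × K))
    (hw : ∀ q ∈ w, q.1 < D.nroots) :
    ((FreeGroup.lift (gY hB K rho lam) (D.stWord w) : ↥(D.group K)) : GL D.Idx K) =
      wordU hB (w.map fun q => (rho q.1, q.2 ^ lam q.1)) := by
  unfold ChevalleyDatum.stWord
  induction w with
  | nil =>
    rw [List.map_nil, List.prod_nil, map_one, List.map_nil, wordU_nil]
    rfl
  | cons q w ih =>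
    rw [List.map_cons, List.prod_cons, map_mul, Subgroup.coe_mul,
      ih (fun q' hq' => hw q' (List.mem_cons_of_mem _ hq')),
      liftY_stX hB rho lam (hw q List.mem_cons_self), gX_val, List.map_cons, wordU_cons]

section main

variable (p : ℕ) [Fact p.Prime] [CharP K p] (hD : IsTabulated D) {rho lam : ℕ → ℕ}
  (hG : GraphOK D p rho lam)

include hG in
theorem liftY_relsAB {g : FreeGroup (Fin D.nroots × K)} (hg : g ∈ D.steinbergRelsAB K) :
    FreeGroup.lift (gY (basicOK_of_tabulated hD) K rho lam) g = 1 := by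
  have hB := basicOK_of_tabulated hD
  have hF := fastOK_of_tabulated hD
  have Δ := bnData_of_tabulated K hD
  rcases hg with ⟨r, t₁, t₂, hr, rfl⟩ | ⟨r, s, t, u, hr, hs, h1, h2, rfl⟩
  · rw [map_mul, map_mul, map_inv, liftY_stX _ rho lam hr, liftY_stX _ rho lam hr,
      liftY_stX _ rho lam hr, mul_inv_eq_one]
    apply Subtype.ext
    rw [Subgroup.coe_mul, gX_val, gX_val, gX_val, Cfsg.Agent.Helper6.xU_mul]
    congr 1
    rcases hG.lam_cases r hr with e | e
    · rw [e, pow_one, pow_one, pow_one]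
    · rw [e]
      exact (add_pow_char (R := K) t₁ t₂ p).symm
  · have hP := hG.pair r hr s hs h1 h2
    simp only [pairChk, Bool.and_eq_true, Bool.not_eq_true', allL_iff, Nat.blt_eq,
      List.isPerm_iff, pwChk_iff] at hP
    obtain ⟨⟨⟨⟨e1, e2⟩, e3⟩, e4⟩, e5⟩ := hP
    rw [negF_eq hF.chk] at e2
    rw [ceF_eq hF.keys hF.chk, commTermsG_eq] at e3 e4 e5
    have hρr := hG.lt r hr
    have hρs := hG.lt s hs
    have hw : ∀ q ∈ D.commWord K r s t u, q.1 < D.nroots := by
      intro q hq
      unfold ChevalleyDatum.commWord at hq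
      rw [List.mem_map] at hq
      obtain ⟨c, hc, rfl⟩ := hq
      exact e3 c hc
    rw [map_mul, map_mul, map_mul, map_mul, map_inv, map_inv, map_inv, liftY_stX _ rho lam hr,
      liftY_stX _ rho lam hs, mul_inv_eq_one]
    apply Subtype.ext
    simp only [Subgroup.coe_mul, Subgroup.coe_inv, gX_val]
    rw [liftY_stWord_val _ rho lam _ hw, commWord_sig1]
    have hc := Δ.hC (rho r) hρr (rho s) hρs (Nat.ne_of_beq_eq_false e1)
      (Nat.ne_of_beq_eq_false e2) (t ^ lam r) (u ^ lam s)
    have e : xU hB (rho s) (u ^ lam s) * xU hB (rho r) (t ^ lam r) =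
        xU hB (rho r) (t ^ lam r) * xU hB (rho s) (u ^ lam s) *
          wordU hB (D.commWord K (rho r) (rho s) (t ^ lam r) (u ^ lam s)) := by
      apply Units.ext
      simp only [Units.val_mul, xU_val, wordU_val]
      exact hc
    have key : wordU hB (D.commWord K (rho r) (rho s) (t ^ lam r) (u ^ lam s)) =
        wordU hB (((D.commTerms r s).map (sig1 rho lam)).map (evS t u)) := by
      rw [commWord_sig2, ← wordU_normP p hB t u,
        ← wordU_normP p hB t u ((D.commTerms r s).map (sig1 rho lam))]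
      unfold wordU
      apply List.Perm.prod_eq'
      · exact ((e4.symm.map (evS t u)).map _)
      · rw [List.pairwise_map, List.pairwise_map]
        exact e5.imp (fun {a b} h => commute_of_commOK p hD h _ _)
    rw [← key, ← mul_inv_eq_one]
    calc (xU hB (rho s) (u ^ lam s))⁻¹ * (xU hB (rho r) (t ^ lam r))⁻¹ * xU hB (rho s) (u ^ lam s) *
          xU hB (rho r) (t ^ lam r) *
          (wordU hB (D.commWord K (rho r) (rho s) (t ^ lam r) (u ^ lam s)))⁻¹
        = (xU hB (rho s) (u ^ lam s))⁻¹ * (xU hB (rho r) (t ^ lam r))⁻¹ *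
            (xU hB (rho s) (u ^ lam s) * xU hB (rho r) (t ^ lam r)) *
            (wordU hB (D.commWord K (rho r) (rho s) (t ^ lam r) (u ^ lam s)))⁻¹ := by group
      _ = 1 := by rw [e]; group

/-- the homomorphism from the Steinberg cover defined by the graph automorphism -/
noncomputable def phiG : D.SteinbergCover K →* ↥(D.group K) :=
  PresentedGroup.toGroup (f := gY (basicOK_of_tabulated hD) K rho lam)
    (fun g hg => liftY_relsAB p hD hG hg)

theorem phiG_apply {r : ℕ} (hr : r < D.nroots) (t : K) :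
    phiG (K := K) p hD hG (pX D (D.steinbergRelsAB K) r t) =
      gX (basicOK_of_tabulated hD) K (rho r) (t ^ lam r) := by
  unfold phiG pX
  have : PresentedGroup.toGroup (f := gY (basicOK_of_tabulated hD) K rho lam)
      (fun g hg => liftY_relsAB p hD hG hg)
      (PresentedGroup.mk (D.steinbergRelsAB K) (D.stX r t)) =
      FreeGroup.lift (gY (basicOK_of_tabulated hD) K rho lam) (D.stX r t) := rfl
  rw [this, liftY_stX _ rho lam hr]

theorem thetaAB_pX (r : ℕ) (t : K) (hr : r < D.nroots) :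
    thetaAB hD K (pX D (D.steinbergRelsAB K) r t) = gX (basicOK_of_tabulated hD) K r t := by
  apply Subtype.ext
  apply Units.ext
  rw [thetaAB_apply hD r t hr, gX_val, xU_val]

include hG in
/-- the endomorphism `x_r(t) ↦ x_{ρ r}(t^{λ_r})` -/
theorem exists_graph_hom (hperf : ∀ x : K, ∃ y : K, y ^ p = x) :
    ∃ α : ↥(D.group K) →* ↥(D.group K), Function.Surjective α ∧ ∀ r < D.nroots, ∀ t : K,
      α (gX (basicOK_of_tabulated hD) K r t) =
        gX (basicOK_of_tabulated hD) K (rho r) (t ^ lam r) := by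
  have hB := basicOK_of_tabulated hD
  have hsub : D.steinbergRelsAB K ⊆ D.steinbergRelsAB K := subset_rfl
  have hθ : ∀ (r : ℕ) (t : K), r < D.nroots →
      ((thetaAB hD K (pX D (D.steinbergRelsAB K) r t) : GL D.Idx K) : Matrix D.Idx D.Idx K) =
        D.x K r t := fun r t hr => thetaAB_apply hD r t hr
  have hsurj := surjective_pres hsub (thetaAB hD K) hθ
  have hker := ker_le_center_pres hD hsub (thetaAB hD K) hθ
  have hφs : Function.Surjective (phiG (K := K) p hD hG) := by
    have key : ∀ g ∈ D.group K, ∃ x, ((phiG (K := K) p hD hG x : ↥(D.group K)) : GL D.Idx K) = g := by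
      intro g hg
      unfold ChevalleyDatum.group at hg
      induction hg using Subgroup.closure_induction with
      | mem g hg =>
        obtain ⟨r, t, hrt⟩ := hg
        have hr := r.isLt
        obtain ⟨y, hy⟩ : ∃ y : K, y ^ lam (rho r.val) = t := by
          rcases hG.lam_cases (rho r.val) (hG.lt _ hr) with e | e
          · exact ⟨t, by rw [e, pow_one]⟩
          · rw [e]
            exact hperf t
        refine ⟨pX D (D.steinbergRelsAB K) (rho r.val) y, ?_⟩
        rw [phiG_apply (K := K) p hD hG (hG.lt _ hr), gX_val, hG.invol _ hr, hy]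
        apply Units.ext
        rw [xU_val, hrt, x_of_lt hr]
      | one => exact ⟨1, by rw [map_one]; rfl⟩
      | mul g₁ g₂ _ _ ih₁ ih₂ =>
        obtain ⟨x₁, rfl⟩ := ih₁
        obtain ⟨x₂, rfl⟩ := ih₂
        exact ⟨x₁ * x₂, by rw [map_mul]; rfl⟩
      | inv g _ ih =>
        obtain ⟨x, rfl⟩ := ih
        exact ⟨x⁻¹, by rw [map_inv]; rfl⟩
    intro y
    obtain ⟨x, hx⟩ := key y.val y.property
    exact ⟨x, Subtype.ext hx⟩
  have hk : (thetaAB hD K).ker ≤ (phiG (K := K) p hD hG).ker := by
    intro z hz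
    rw [MonoidHom.mem_ker]
    have hzc := hker hz
    have h1 : phiG (K := K) p hD hG z ∈ Subgroup.center ↥(D.group K) := by
      rw [Subgroup.mem_center_iff]
      intro g
      obtain ⟨x, rfl⟩ := hφs g
      rw [← map_mul, ← map_mul, Subgroup.mem_center_iff.1 hzc x]
    rw [center_group_eq_bot hD, Subgroup.mem_bot] at h1
    exact h1
  have hlift : ∀ x, ((thetaAB hD K).liftOfSurjective hsurj ⟨phiG (K := K) p hD hG, hk⟩) (thetaAB hD K x) =
      phiG (K := K) p hD hG x := fun x =>
    (thetaAB hD K).liftOfRightInverse_comp_apply _ _ ⟨phiG (K := K) p hD hG, hk⟩ x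
  refine ⟨(thetaAB hD K).liftOfSurjective hsurj ⟨phiG (K := K) p hD hG, hk⟩, ?_, ?_⟩
  · intro y
    obtain ⟨x, rfl⟩ := hφs y
    exact ⟨thetaAB hD K x, hlift x⟩
  · intro r hr t
    rw [← thetaAB_pX hD r t hr, hlift, phiG_apply (K := K) p hD hG hr]

include hG in
/-- the graph automorphism `x_r(t) ↦ x_{ρ r}(t^{λ_r})` -/
theorem exists_graph_aut (hperf : ∀ x : K, ∃ y : K, y ^ p = x) :
    ∃ α : ↥(D.group K) ≃* ↥(D.group K), ∀ r < D.nroots, ∀ t : K,
      α (gX (basicOK_of_tabulated hD) K r t) =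
        gX (basicOK_of_tabulated hD) K (rho r) (t ^ lam r) := by
  have hB := basicOK_of_tabulated hD
  obtain ⟨α₀, hsurj, hα⟩ := exists_graph_hom p hD hG hperf
  have hbij : Function.Bijective (frobenius K p) :=
    ⟨frobenius_inj K p, fun x => by
      obtain ⟨y, hy⟩ := hperf x
      exact ⟨y, by rw [frobenius_def]; exact hy⟩⟩
  obtain ⟨β, hβ⟩ := Cfsg.Agent.S1080.result D hD (RingEquiv.ofBijective (frobenius K p) hbij)
  have key : ∀ g ∈ D.group K, ∀ hg : g ∈ D.group K, α₀ (α₀ ⟨g, hg⟩) = β ⟨g, hg⟩ := by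
    intro g hg0
    unfold ChevalleyDatum.group at hg0
    induction hg0 using Subgroup.closure_induction with
    | mem g hgen =>
      intro hg
      obtain ⟨r, t, hrt⟩ := hgen
      have e : (⟨g, hg⟩ : ↥(D.group K)) = gX hB K r.val t := by
        apply Subtype.ext
        apply Units.ext
        rw [gX_val, xU_val, x_of_lt r.isLt]
        exact hrt
      rw [e, hα r.val r.isLt, hα _ (hG.lt _ r.isLt), hG.invol _ r.isLt, ← pow_mul,
        hG.lam_mul _ r.isLt]
      apply Subtype.ext
      apply Units.ext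
      rw [gX_val, xU_val, hβ (gX hB K r.val t) r.val t r.isLt (by rw [gX_val, xU_val])]
      rfl
    | one =>
      intro hg
      have : (⟨1, hg⟩ : ↥(D.group K)) = 1 := rfl
      rw [this, map_one, map_one, map_one]
    | mul x y hx hy ihx ihy =>
      intro hg
      have : (⟨x * y, hg⟩ : ↥(D.group K)) = ⟨x, hx⟩ * ⟨y, hy⟩ := rfl
      rw [this, map_mul, map_mul, map_mul, ihx hx, ihy hy]
    | inv x hx ih =>
      intro hg
      have : (⟨x⁻¹, hg⟩ : ↥(D.group K)) = ⟨x, hx⟩⁻¹ := rfl
      rw [this, map_inv, map_inv, map_inv, ih hx]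
  have hinj : Function.Injective α₀ := by
    intro g₁ g₂ h12
    apply β.injective
    rw [← key g₁.val g₁.property g₁.property, ← key g₂.val g₂.property g₂.property]
    exact congrArg α₀ h12
  refine ⟨MulEquiv.ofBijective α₀ ⟨hinj, hsurj⟩, ?_⟩
  intro r hr t
  exact hα r hr t

end main

theorem isTab_B2 : IsTabulated chevB2 := by simp [IsTabulated]

theorem isTab_F4 : IsTabulated chevF4 := by simp [IsTabulated]

theorem isTab_G2 : IsTabulated chevG2 := by simp [IsTabulated]

/-- the graph automorphisms of `B₂`, `F₄` in characteristic 2 and of `G₂` in characteristic 3, on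
all the root elements: `x_r(t) ↦ x_{ρ r}(t^{λ_r})` with `ρ = rhoG D`, `λ = lamG D` -/
theorem graph_aut_B2 [CharP K 2] (hperf : ∀ x : K, ∃ y : K, y ^ 2 = x) :
    ∃ α : ↥(chevB2.group K) ≃* ↥(chevB2.group K), ∀ r < chevB2.nroots, ∀ t : K,
      ((α (gX (basicOK_of_tabulated isTab_B2) K r t) : GL chevB2.Idx K) :
        Matrix chevB2.Idx chevB2.Idx K) = chevB2.x K (rhoG chevB2 r) (t ^ lamG chevB2 r) := by
  have : Fact (Nat.Prime 2) := ⟨Nat.prime_two⟩
  have hD : IsTabulated chevB2 := isTab_B2
  obtain ⟨α, hα⟩ := exists_graph_aut 2 hD (graphOK_of_chk hD graphChk_B2) hperf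
  exact ⟨α, fun r hr t => by rw [hα r hr t, gX_val, xU_val]⟩

theorem graph_aut_F4 [CharP K 2] (hperf : ∀ x : K, ∃ y : K, y ^ 2 = x) :
    ∃ α : ↥(chevF4.group K) ≃* ↥(chevF4.group K), ∀ r < chevF4.nroots, ∀ t : K,
      ((α (gX (basicOK_of_tabulated isTab_F4) K r t) : GL chevF4.Idx K) :
        Matrix chevF4.Idx chevF4.Idx K) = chevF4.x K (rhoG chevF4 r) (t ^ lamG chevF4 r) := by
  have : Fact (Nat.Prime 2) := ⟨Nat.prime_two⟩
  have hD : IsTabulated chevF4 := isTab_F4
  obtain ⟨α, hα⟩ := exists_graph_aut 2 hD (graphOK_of_chk hD graphChk_F4) hperf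
  exact ⟨α, fun r hr t => by rw [hα r hr t, gX_val, xU_val]⟩

theorem graph_aut_G2 [CharP K 3] (hperf : ∀ x : K, ∃ y : K, y ^ 3 = x) :
    ∃ α : ↥(chevG2.group K) ≃* ↥(chevG2.group K), ∀ r < chevG2.nroots, ∀ t : K,
      ((α (gX (basicOK_of_tabulated isTab_G2) K r t) : GL chevG2.Idx K) :
        Matrix chevG2.Idx chevG2.Idx K) = chevG2.x K (rhoG chevG2 r) (t ^ lamG chevG2 r) := by
  have : Fact (Nat.Prime 3) := ⟨Nat.prime_three⟩
  have hD : IsTabulated chevG2 := isTab_G2
  obtain ⟨α, hα⟩ := exists_graph_aut 3 hD (graphOK_of_chk hD graphChk_G2) hperf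
  exact ⟨α, fun r hr t => by rw [hα r hr t, gX_val, xU_val]⟩

/-- reading off the value of a graph automorphism at an element known by its matrix -/
theorem graph_aut_apply {D : ChevalleyDatum} (hD : IsTabulated D)
    {α : ↥(D.group K) ≃* ↥(D.group K)} {rho lam : ℕ → ℕ}
    (hα : ∀ r < D.nroots, ∀ t : K,
      ((α (gX (basicOK_of_tabulated hD) K r t) : GL D.Idx K) : Matrix D.Idx D.Idx K) =
        D.x K (rho r) (t ^ lam r))
    (g : ↥(D.group K)) {r : ℕ} (hr : r < D.nroots) {r' l : ℕ} (e1 : rho r = r') (e2 : lam r = l)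
    (t : K) (hg : ((g : GL D.Idx K) : Matrix D.Idx D.Idx K) = D.x K r t) :
    ((α g : GL D.Idx K) : Matrix D.Idx D.Idx K) = D.x K r' (t ^ l) := by
  have e : g = gX (basicOK_of_tabulated hD) K r t := by
    apply Subtype.ext
    apply Units.ext
    rw [gX_val, xU_val]
    exact hg
  rw [e, hα r hr t, e1, e2]

end Cfsg.Agent.Helper2.Stb
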