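import Mathlib
import Cfsg.Agent.Helper2.Stb.Tor

set_option autoImplicit false
set_option linter.unusedSectionVars false
set_option linter.unusedSimpArgs false
set_option linter.unusedVariables false

/-! Steinberg presentation, part 12: for a unimodular Cartan matrix (types `G₂`, `F₄`, `E₈`) the
Steinberg group with the relations (R3) is isomorphic to the Chevalley group. -/

namespace Cfsg.Agent.Helper2.Stb

open Cfsg.Lie Cfsg.Agent.Helper6 Cfsg.Agent.Helper2.StPerf

variable {D : ChevalleyDatum} {F : Type*} [Field F] {M : Type*} [Group M]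

/-- the inverse Cartan matrices of types `G₂`, `F₄`, `E₈` -/
def invList (D : ChevalleyDatum) : List (List ℤ) :=
  if D.nroots = 12 then [[2, 3], [1, 2]]
  else if D.nroots = 48 then [[2, 3, 4, 2], [3, 6, 8, 4], [2, 4, 6, 3], [1, 2, 3, 2]]
  else [[4, 5, 7, 10, 8, 6, 4, 2], [5, 8, 10, 15, 12, 9, 6, 3], [7, 10, 14, 20, 16, 12, 8, 4],
    [10, 15, 20, 30, 24, 18, 12, 6], [8, 12, 16, 24, 20, 15, 10, 5], [6, 9, 12, 18, 15, 12, 8, 4],
    [4, 6, 8, 12, 10, 8, 6, 3], [2, 3, 4, 6, 5, 4, 3, 2]]

/-- entries of the inverse Cartan matrix -/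
def invB (D : ChevalleyDatum) (j k : ℕ) : ℤ := ((invList D).getD j []).getD k 0

/-- `A · B = 1` -/
def invChk (D : ChevalleyDatum) : Bool :=
  allLt D.rank fun i => allLt D.rank fun k =>
    decide (((List.range D.rank).map fun j => D.cartan i (D.simple j) * invB D j k).sum =
      if i = k then 1 else 0)

set_option maxRecDepth 100000 in
theorem invChk_of_mem {D : ChevalleyDatum} (hD : D ∈ [chevG2, chevF4, chevE8]) :
    invChk D = true := by
  simp only [List.mem_cons, List.not_mem_nil, or_false] at hD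
  rcases hD with rfl | rfl | rfl <;> decide +kernel

theorem list_sum_range_eq (n : ℕ) (f : ℕ → ℤ) :
    ((List.range n).map f).sum = ∑ i ∈ Finset.range n, f i := by
  induction n with
  | zero => simp
  | succ n ih =>
    rw [List.range_succ, List.map_append, List.sum_append, Finset.sum_range_succ, ih]
    simp

/-- an integer inverse of the Cartan matrix -/
def InvCartan (D : ChevalleyDatum) (B : ℕ → ℕ → ℤ) : Prop :=
  ∀ i < D.rank, ∀ k < D.rank,
    (∑ j ∈ Finset.range D.rank, D.cartan i (D.simple j) * B j k) = if i = k then 1 else 0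

theorem invCartan_of_mem {D : ChevalleyDatum} (hD : D ∈ [chevG2, chevF4, chevE8]) :
    InvCartan D (invB D) := by
  have h := invChk_of_mem hD
  simp only [invChk, allLt_iff, decide_eq_true_eq] at h
  intro i hi k hk
  rw [← list_sum_range_eq]
  exact h i hi k hk

/-- the characters of the fundamental roots separate the points of the torus -/
theorem eq_one_of_char_trivial {B : ℕ → ℕ → ℤ} (hB : InvCartan D B) {t : ℕ → F}
    (ht : ∀ i, t i ≠ 0)
    (hχ : ∀ j < D.rank, ∏ i ∈ Finset.range D.rank, (t i) ^ (D.cartan i (D.simple j)) = 1) :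
    ∀ k < D.rank, t k = 1 := by
  intro k hk
  have e1 : ∏ j ∈ Finset.range D.rank,
      (∏ i ∈ Finset.range D.rank, (t i) ^ (D.cartan i (D.simple j))) ^ (B j k) = 1 := by
    apply Finset.prod_eq_one
    intro j hj
    rw [hχ j (Finset.mem_range.1 hj), one_zpow]
  have e2 : ∏ j ∈ Finset.range D.rank,
      (∏ i ∈ Finset.range D.rank, (t i) ^ (D.cartan i (D.simple j))) ^ (B j k) =
      ∏ i ∈ Finset.range D.rank, (t i) ^ (if i = k then (1 : ℤ) else 0) := by
    calc ∏ j ∈ Finset.range D.rank,
          (∏ i ∈ Finset.range D.rank, (t i) ^ (D.cartan i (D.simple j))) ^ (B j k)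
        = ∏ j ∈ Finset.range D.rank, ∏ i ∈ Finset.range D.rank,
            ((t i) ^ (D.cartan i (D.simple j))) ^ (B j k) := by
          apply Finset.prod_congr rfl
          intro j _
          rw [Finset.prod_zpow]
      _ = ∏ i ∈ Finset.range D.rank, ∏ j ∈ Finset.range D.rank,
            ((t i) ^ (D.cartan i (D.simple j))) ^ (B j k) := Finset.prod_comm
      _ = _ := by
          apply Finset.prod_congr rfl
          intro i hi
          rw [← hB i (Finset.mem_range.1 hi) k hk, zpow_sum_range (t i) (ht i)]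
          apply Finset.prod_congr rfl
          intro j _
          rw [zpow_mul]
  rw [e2, Finset.prod_eq_single k] at e1
  · simpa using e1
  · intro i _ hik
    rw [if_neg hik, zpow_zero]
  · intro hk'
    exact absurd (Finset.mem_range.2 hk) hk'

section main

variable {X : ℕ → F → M} (h : R12 D X) (hD : IsTabulated D) (π : M →* GL D.Idx F)
  (hπ : ∀ r < D.nroots, ∀ t : F, π (X r t) = xU (basicOK_of_tabulated hD) r t)
  (hR3 : ∀ i < D.rank, ∀ a b : F, a ≠ 0 → b ≠ 0 →
    hH X D (D.simple i) a * hH X D (D.simple i) b = hH X D (D.simple i) (a * b))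
  {B : ℕ → ℕ → ℤ} (hBinv : InvCartan D B)
include h hπ hR3 hBinv

/-- an element of `Ĥ` in the kernel of `π` is trivial -/
theorem eq_one_of_mem_Hh_of_map {k : M} (hk : k ∈ Hh X D) (hπk : π k = 1) : k = 1 := by
  have hB := basicOK_of_tabulated hD
  obtain ⟨t, ht, rfl⟩ := exists_prodH h hD π hπ hR3 hk
  have hχ : ∀ j < D.rank, ∏ i ∈ Finset.range D.rank, (t i) ^ (D.cartan i (D.simple j)) = 1 := by
    intro j hj
    have hp := (simpleAll_of_tabulated hD hj).hS.1
    have h1 := prodH_conj h hD π hπ ht hp (1 : F)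
    have h2 := congrArg π h1
    rw [map_mul, map_mul, map_inv, hπk, one_mul, inv_one, mul_one, hπ _ hp, hπ _ hp] at h2
    have h3 := xU_inj hB hp h2
    rw [mul_one] at h3
    exact h3.symm
  have h1 := eq_one_of_char_trivial hBinv ht hχ
  unfold prodH
  apply List.prod_eq_one
  intro g hg
  simp only [List.mem_map] at hg
  obtain ⟨i, hi, rfl⟩ := hg
  have hi' := List.mem_range.1 hi
  rw [h1 i hi']
  exact hH_one h hD π hπ hR3 hi'

end main

/-- the Steinberg group (with (R3)) of a datum with unimodular Cartan matrix has trivial centre -/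
theorem center_steinberg_eq_bot {K : Type*} [Field K] {D : ChevalleyDatum}
    (hD : D ∈ [chevG2, chevF4, chevE8]) : Subgroup.center (D.SteinbergGroup K) = ⊥ := by
  have hD' : IsTabulated D := by
    simp only [List.mem_cons, List.not_mem_nil, or_false] at hD
    unfold IsTabulated
    rcases hD with rfl | rfl | rfl <;> simp
  have hsub : D.steinbergRelsAB K ⊆ D.steinbergRels K := fun g hg => Or.inl hg
  have hθ : ∀ (r : ℕ) (t : K), r < D.nroots →
      ((thetaABC hD' K (pX D (D.steinbergRels K) r t) : GL D.Idx K) : Matrix D.Idx D.Idx K) =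
        D.x K r t := fun r t hr => thetaABC_apply hD' r t hr
  have hsurj := surjective_pres hsub _ hθ
  have hR3 : ∀ i < D.rank, ∀ a b : K, a ≠ 0 → b ≠ 0 →
      hH (pX D (D.steinbergRels K)) D (D.simple i) a * hH (pX D (D.steinbergRels K)) D (D.simple i) b =
        hH (pX D (D.steinbergRels K)) D (D.simple i) (a * b) := by
    intro i hi a b ha hb
    have hp := (simpleAll_of_tabulated hD' hi).hS.1
    have h1 : PresentedGroup.mk (D.steinbergRels K)
        (D.stH (D.simple i) a * D.stH (D.simple i) b * (D.stH (D.simple i) (a * b))⁻¹) = 1 :=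
      PresentedGroup.one_of_mem (Or.inr ⟨D.simple i, a, b, hp, ha, hb, rfl⟩)
    rw [map_mul, map_mul, map_inv, mul_inv_eq_one] at h1
    unfold ChevalleyDatum.stH at h1
    rw [mk_stWord, mk_stWord, mk_stWord] at h1
    exact h1
  rw [eq_bot_iff]
  intro z hz
  rw [Subgroup.mem_bot]
  have h1 : thetaABC hD' K z ∈ Subgroup.center ↥(D.group K) := by
    rw [Subgroup.mem_center_iff]
    intro g
    obtain ⟨x, rfl⟩ := hsurj g
    rw [← map_mul, ← map_mul, Subgroup.mem_center_iff.1 hz x]
  rw [center_group_eq_bot hD', Subgroup.mem_bot] at h1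
  have hzk : z ∈ (thetaABC hD' K).ker := h1
  have hzH := ker_le_Hh_pres hD' hsub _ hθ hzk
  refine eq_one_of_mem_Hh_of_map (r12_pX hsub) hD' ((D.group K).subtype.comp (thetaABC hD' K))
    (hπ_of hD' hsub _ hθ) hR3 (invCartan_of_mem hD) hzH ?_
  rw [MonoidHom.comp_apply, h1]
  rfl

end Cfsg.Agent.Helper2.Stb
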