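import Mathlib
import Cfsg.Agent.Helper2.Stb.Coll

set_option autoImplicit false
set_option linter.unusedSectionVars false
set_option linter.unusedSimpArgs false
set_option linter.unusedVariables false

/-! Collection in a group satisfying (R1) and only part of the relations (R2). -/

namespace Cfsg.Agent.Helper2.Stb

open Cfsg.Lie Cfsg.Agent.Helper6 Cfsg.Agent.Helper2.StPerf

variable {D : ChevalleyDatum} {F : Type*} [Field F] {M : Type*} [Group M]

/-- the relations (R1), and the relations (R2) for the pairs of roots satisfying `P` -/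
structure R12On (D : ChevalleyDatum) (X : ℕ → F → M) (P : ℕ → ℕ → Prop) : Prop where
  add : ∀ r < D.nroots, ∀ t u : F, X r t * X r u = X r (t + u)
  comm : ∀ r < D.nroots, ∀ s < D.nroots, s ≠ r → s ≠ D.neg r → P r s → ∀ t u : F,
    (X s u)⁻¹ * (X r t)⁻¹ * X s u * X r t = wordX X (D.commWord F r s t u)

theorem R12.on {X : ℕ → F → M} (h : R12 D X) (P : ℕ → ℕ → Prop) : R12On D X P :=
  ⟨h.add, fun r hr s hs h1 h2 _ => h.comm r hr s hs h1 h2⟩

theorem X_zeroP {X : ℕ → F → M} {P : ℕ → ℕ → Prop} (h : R12On D X P) {r : ℕ}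
    (hr : r < D.nroots) : X r 0 = 1 := by
  have h1 := h.add r hr 0 0
  rw [add_zero] at h1
  have h' : X r 0 * X r 0 = X r 0 * 1 := by rw [mul_one]; exact h1
  exact mul_left_cancel h'

theorem X_invP {X : ℕ → F → M} {P : ℕ → ℕ → Prop} (h : R12On D X P) {r : ℕ}
    (hr : r < D.nroots) (t : F) : (X r t)⁻¹ = X r (-t) := by
  apply inv_eq_of_mul_eq_one_right
  rw [h.add r hr, add_neg_cancel, X_zeroP h hr]

/-- the conjugation form of (R2) -/
theorem conj_XP {X : ℕ → F → M} {P : ℕ → ℕ → Prop} (h : R12On D X P) {k s : ℕ}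
    (hk : k < D.nroots) (hs : s < D.nroots) (h1 : s ≠ k) (h2 : s ≠ D.neg k) (hP : P k s)
    (t u : F) :
    X k t * X s u * (X k t)⁻¹ = X s u * wordX X (D.commWord F k s (-t) u) := by
  have hc := h.comm k hk s hs h1 h2 hP (-t) u
  rw [← hc, X_invP h hk t, X_invP h hk (-t), neg_neg]
  have e : X k t * X k (-t) = 1 := by rw [h.add k hk, add_neg_cancel, X_zeroP h hk]
  have e' : X k t = (X k (-t))⁻¹ := eq_inv_of_mul_eq_one_left e
  rw [e']
  group

/-- conditions for collecting the root `k` in front of the list `L` -/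
structure CollP (D : ChevalleyDatum) (P : ℕ → ℕ → Prop) (k : ℕ) (L : List ℕ) : Prop where
  hk : k < D.nroots
  hL : ∀ s ∈ L, s < D.nroots ∧ s ≠ k ∧ s ≠ D.neg k ∧ P k s ∧ ∀ c ∈ D.commTerms k s, c.1 ∈ L

theorem conj_X_mem_ULP {X : ℕ → F → M} {P : ℕ → ℕ → Prop} (h : R12On D X P) {k : ℕ}
    {L : List ℕ} (hc : CollP D P k L) {s : ℕ} (hs : s ∈ L) (t u : F) :
    X k t * X s u * (X k t)⁻¹ ∈ UL X L := by
  obtain ⟨a1, a2, a3, aP, a4⟩ := hc.hL s hs
  rw [conj_XP h hc.hk a1 a2 a3 aP]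
  apply Subgroup.mul_mem _ (X_mem_UL X hs u)
  apply wordX_mem_UL
  intro p hp
  obtain ⟨c, hc', e⟩ := commWord_fst_mem hp
  rw [e]
  exact a4 c hc'

theorem conj_mem_ULP {X : ℕ → F → M} {P : ℕ → ℕ → Prop} (h : R12On D X P) {k : ℕ}
    {L : List ℕ} (hc : CollP D P k L) (t : F) {g : M} (hg : g ∈ UL X L) :
    X k t * g * (X k t)⁻¹ ∈ UL X L := by
  refine conj_closure_mem' (X k t) ?_ g hg
  rintro x ⟨s, hs, u, rfl⟩
  exact conj_X_mem_ULP h hc hs t u

/-- every element of `⟨X_k, X_L⟩` is `x_k(a)` times an element of `⟨X_L⟩` -/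
theorem exists_mul_of_mem_ULP {X : ℕ → F → M} {P : ℕ → ℕ → Prop} (h : R12On D X P) {k : ℕ}
    {L : List ℕ} (hc : CollP D P k L) {g : M} (hg : g ∈ UL X (k :: L)) :
    ∃ a : F, ∃ g' ∈ UL X L, g = X k a * g' := by
  have hk := hc.hk
  unfold UL at hg
  induction hg using Subgroup.closure_induction with
  | mem g hg =>
    obtain ⟨s, hs, u, rfl⟩ := hg
    rcases List.mem_cons.1 hs with rfl | hs'
    · exact ⟨u, 1, Subgroup.one_mem _, by rw [mul_one]⟩
    · exact ⟨0, X s u, X_mem_UL X hs' u, by rw [X_zeroP h hk, one_mul]⟩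
  | one => exact ⟨0, 1, Subgroup.one_mem _, by rw [X_zeroP h hk, one_mul]⟩
  | mul g₁ g₂ _ _ ih₁ ih₂ =>
    obtain ⟨a₁, g₁', h1, rfl⟩ := ih₁
    obtain ⟨a₂, g₂', h2, rfl⟩ := ih₂
    refine ⟨a₁ + a₂, (X k (-a₂) * g₁' * (X k (-a₂))⁻¹) * g₂', ?_, ?_⟩
    · exact Subgroup.mul_mem _ (conj_mem_ULP h hc _ h1) h2
    · rw [← h.add k hk, X_invP h hk (-a₂), neg_neg]
      have e : X k a₂ * X k (-a₂) = 1 := by rw [h.add k hk, add_neg_cancel, X_zeroP h hk]
      calc X k a₁ * g₁' * (X k a₂ * g₂')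
          = X k a₁ * (1 : M) * g₁' * X k a₂ * g₂' := by group
        _ = X k a₁ * X k a₂ * (X k (-a₂) * g₁' * X k a₂ * g₂') := by
            rw [← e]; group
        _ = _ := by group
  | inv g _ ih =>
    obtain ⟨a, g', h1, rfl⟩ := ih
    refine ⟨-a, X k a * g'⁻¹ * (X k a)⁻¹, ?_, ?_⟩
    · exact conj_mem_ULP h hc _ (Subgroup.inv_mem _ h1)
    · rw [← X_invP h hk]; group

/-- good lists of roots, relative to the pairs `P` -/
inductive GoodLP (hB : BasicOK D) (F : Type*) [Field F] (P : ℕ → ℕ → Prop) : List ℕ → Prop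
  | nil : GoodLP hB F P []
  | cons {k : ℕ} {L : List ℕ} : GoodLP hB F P L → CollP D P k L →
      (∀ a : F, xU hB k a ∈ UL (xU hB (F := F)) L → a = 0) → GoodLP hB F P (k :: L)

theorem GoodLP.lt {hB : BasicOK D} {P : ℕ → ℕ → Prop} {L : List ℕ} (hG : GoodLP hB F P L) :
    ∀ r ∈ L, r < D.nroots := by
  induction hG with
  | nil => intro r hr; exact absurd hr List.not_mem_nil
  | cons _ hc _ ih =>
    intro r hr
    rcases List.mem_cons.1 hr with rfl | hr'
    · exact hc.hk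
    · exact ih r hr'

section inj

variable {X : ℕ → F → M} {P : ℕ → ℕ → Prop} (h : R12On D X P) (hB : BasicOK D)
  (π : M →* GL D.Idx F) (hπ : ∀ r < D.nroots, ∀ t : F, π (X r t) = xU hB r t)
include h hπ

theorem map_UL_leP {L : List ℕ} (hL : ∀ r ∈ L, r < D.nroots) {g : M} (hg : g ∈ UL X L) :
    π g ∈ UL (xU hB (F := F)) L := by
  have hle : UL X L ≤ (UL (xU hB (F := F)) L).comap π := by
    apply UL_le
    intro r hr t
    rw [Subgroup.mem_comap, hπ r (hL r hr)]
    exact X_mem_UL _ hr t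
  exact hle hg

/-- `π` is injective on the subgroup generated by a good list of roots -/
theorem eq_one_of_goodP {L : List ℕ} (hG : GoodLP hB F P L) :
    ∀ g ∈ UL X L, π g = 1 → g = 1 := by
  induction hG with
  | nil =>
    intro g hg _
    rw [UL_nil, Subgroup.mem_bot] at hg
    exact hg
  | @cons k L hG' hc hz ih =>
    intro g hg hg1
    obtain ⟨a, g', hg', rfl⟩ := exists_mul_of_mem_ULP h hc hg
    rw [map_mul, hπ k hc.hk] at hg1
    have hm : xU hB k a ∈ UL (xU hB (F := F)) L := by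
      have e : xU hB k a = (π g')⁻¹ := eq_inv_of_mul_eq_one_left hg1
      rw [e]
      exact Subgroup.inv_mem _ (map_UL_leP h hB π hπ hG'.lt hg')
    have ha := hz a hm
    rw [ha, xU_zero, one_mul] at hg1
    rw [ha, X_zeroP h hc.hk, one_mul]
    exact ih g' hg' hg1

theorem eq_of_goodP {L : List ℕ} (hG : GoodLP hB F P L) {g₁ g₂ : M} (h1 : g₁ ∈ UL X L)
    (h2 : g₂ ∈ UL X L) (e : π g₁ = π g₂) : g₁ = g₂ := by
  have := eq_one_of_goodP h hB π hπ hG (g₁ * g₂⁻¹)
    (Subgroup.mul_mem _ h1 (Subgroup.inv_mem _ h2)) (by rw [map_mul, map_inv, e, mul_inv_cancel])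
  exact mul_inv_eq_one.1 this

end inj

end Cfsg.Agent.Helper2.Stb
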