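import Mathlib
import Cfsg.Agent.Helper2.Stb.CExt
import Cfsg.Agent.Helper2.Stb.CollP
import Cfsg.Agent.Helper2.Stb.Rel34

set_option autoImplicit false
set_option linter.unusedSectionVars false
set_option linter.unusedSimpArgs false
set_option linter.unusedVariables false

/-! Steinberg's theorem on central extensions, part 1: torus elements and canonical lifts. -/

namespace Cfsg.Agent.Helper2.Stb

open Cfsg.Lie Cfsg.Agent.Helper6 Cfsg.Agent.Helper2.StPerf
open scoped commutatorElement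

variable {D : ChevalleyDatum} {F : Type*} [Field F] {M : Type*} [Group M]

/-- torus-like elements: they act on every root subgroup by a non-zero scalar -/
def IsTor (X : ℕ → F → M) (D : ChevalleyDatum) (g : M) (χ : ℕ → F) : Prop :=
  (∀ r < D.nroots, χ r ≠ 0) ∧ ∀ r < D.nroots, ∀ t : F, g * X r t * g⁻¹ = X r (χ r * t)

theorem IsTor.congr {X : ℕ → F → M} {g : M} {χ χ' : ℕ → F} (h1 : IsTor X D g χ)
    (e : ∀ r < D.nroots, χ r = χ' r) : IsTor X D g χ' :=
  ⟨fun r hr => by rw [← e r hr]; exact h1.1 r hr, fun r hr t => by rw [← e r hr]; exact h1.2 r hr t⟩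

theorem IsTor.one (X : ℕ → F → M) : IsTor X D 1 (fun _ => 1) :=
  ⟨fun _ _ => one_ne_zero, fun r _ t => by simp⟩

theorem IsTor.mul {X : ℕ → F → M} {g g' : M} {χ χ' : ℕ → F} (h1 : IsTor X D g χ)
    (h2 : IsTor X D g' χ') : IsTor X D (g * g') (fun r => χ r * χ' r) := by
  refine ⟨fun r hr => mul_ne_zero (h1.1 r hr) (h2.1 r hr), fun r hr t => ?_⟩
  have e : g * g' * X r t * (g * g')⁻¹ = g * (g' * X r t * g'⁻¹) * g⁻¹ := by group
  rw [e, h2.2 r hr, h1.2 r hr, mul_assoc]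

theorem IsTor.inv {X : ℕ → F → M} {g : M} {χ : ℕ → F} (h1 : IsTor X D g χ) :
    IsTor X D g⁻¹ (fun r => (χ r)⁻¹) := by
  refine ⟨fun r hr => inv_ne_zero (h1.1 r hr), fun r hr t => ?_⟩
  have e := h1.2 r hr ((χ r)⁻¹ * t)
  rw [mul_inv_cancel_left₀ (h1.1 r hr)] at e
  rw [← e]
  group

/-- the value of the cocharacter `m` on the root `r` -/
def chi (D : ChevalleyDatum) (m : List ℤ) (r : ℕ) : ℤ :=
  ((List.range D.rank).map fun i => m.getD i 0 * D.cartan i r).sum

/-- the torus element `∏ ĥ_i(v^{m_i})` -/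
def torEl (X : ℕ → F → M) (D : ChevalleyDatum) (m : List ℤ) (v : F) : M :=
  ((List.range D.rank).map fun i => hH X D (D.simple i) (v ^ (m.getD i 0))).prod

section tor

variable {X : ℕ → F → M} (h : R12 D X) (hD : IsTabulated D) (π : M →* GL D.Idx F)
  (hπ : ∀ r < D.nroots, ∀ t : F, π (X r t) = xU (basicOK_of_tabulated hD) r t)
include h hπ

theorem isTor_hH {i : ℕ} (hi : i < D.rank) {c : F} (hc : c ≠ 0) :
    IsTor X D (hH X D (D.simple i) c) (fun r => c ^ (D.cartan i r)) :=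
  ⟨fun r _ => zpow_ne_zero _ hc, fun r hr t => hH_conj_X_all h hD π hπ hi hr hc t⟩

theorem isTor_torEl_aux (m : List ℤ) {v : F} (hv : v ≠ 0) (Ls : List ℕ)
    (hLs : ∀ i ∈ Ls, i < D.rank) :
    IsTor X D ((Ls.map fun i => hH X D (D.simple i) (v ^ (m.getD i 0))).prod)
      (fun r => v ^ ((Ls.map fun i => m.getD i 0 * D.cartan i r).sum)) := by
  induction Ls with
  | nil =>
    simp only [List.map_nil, List.prod_nil, List.sum_nil, zpow_zero]
    exact IsTor.one X
  | cons i Ls ih =>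
    have hi := hLs i List.mem_cons_self
    have ih' := ih (fun j hj => hLs j (List.mem_cons_of_mem _ hj))
    simp only [List.map_cons, List.prod_cons, List.sum_cons]
    refine ((isTor_hH h hD π hπ hi (zpow_ne_zero _ hv)).mul ih').congr ?_
    intro r _
    rw [← zpow_mul, ← zpow_add₀ hv]

theorem isTor_torEl (m : List ℤ) {v : F} (hv : v ≠ 0) :
    IsTor X D (torEl X D m v) (fun r => v ^ chi D m r) :=
  isTor_torEl_aux h hD π hπ m hv (List.range D.rank) (fun i hi => List.mem_range.1 hi)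

variable (hgen : Subgroup.closure {g | ∃ r < D.nroots, ∃ t : F, g = X r t} = ⊤)
include hgen

omit h hπ in
theorem mem_center_of_comm_gen {z : M} (hz : ∀ r < D.nroots, ∀ t : F, z * X r t * z⁻¹ = X r t) :
    z ∈ Subgroup.center M := by
  rw [Subgroup.mem_center_iff]
  intro g
  have hg : g ∈ Subgroup.closure {g | ∃ r < D.nroots, ∃ t : F, g = X r t} := by
    rw [hgen]; exact Subgroup.mem_top _
  induction hg using Subgroup.closure_induction with
  | mem g hg =>
    obtain ⟨r, hr, t, rfl⟩ := hg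
    have := hz r hr t
    calc X r t * z = (z * X r t * z⁻¹) * z := by rw [this]
      _ = z * X r t := by group
  | one => simp
  | mul a b _ _ iha ihb => rw [mul_assoc, ihb, ← mul_assoc, iha, mul_assoc]
  | inv a _ iha =>
    calc a⁻¹ * z = a⁻¹ * (z * a) * a⁻¹ := by group
      _ = a⁻¹ * (a * z) * a⁻¹ := by rw [iha]
      _ = z * a⁻¹ := by group

omit h hπ in
/-- torus-like elements commute modulo the centre -/
theorem tor_comm_mem_center {g g' : M} {χ χ' : ℕ → F} (h1 : IsTor X D g χ)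
    (h2 : IsTor X D g' χ') : g'⁻¹ * (g * g' * g⁻¹) ∈ Subgroup.center M := by
  apply mem_center_of_comm_gen hgen
  intro r hr t
  have hz := ((h2.inv.mul (h1.mul h2)).mul h1.inv).2 r hr t
  have e : g'⁻¹ * (g * g' * g⁻¹) = g'⁻¹ * (g * g') * g⁻¹ := by group
  rw [e, hz]
  congr 1
  simp only
  have a1 := h1.1 r hr
  have a2 := h2.1 r hr
  field_simp

end tor

section lifts

variable {X : ℕ → F → M} (h : R12 D X) (hD : IsTabulated D) (π : M →* GL D.Idx F)
  (hπ : ∀ r < D.nroots, ∀ t : F, π (X r t) = xU (basicOK_of_tabulated hD) r t)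
  (hgen : Subgroup.closure {g | ∃ r < D.nroots, ∃ t : F, g = X r t} = ⊤)
  {E : Type*} [Group E] (ψ : E →* M) (hψ : Function.Surjective ψ)
  (hc : ψ.ker ≤ Subgroup.center E)

section steps

include h hψ hc

/-- commutators of lifts of commuting root elements are invariant under torus elements -/
theorem comm_lift_tor {r s : ℕ} (hr : r < D.nroots) (hs : s < D.nroots) {g : M} {χ : ℕ → F}
    (hg : IsTor X D g χ) {t u : F} (hcomm : X r t * X s u = X s u * X r t) {a b a' b' : E}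
    (ha : ψ a = X r t) (hb : ψ b = X s u) (ha' : ψ a' = X r (χ r * t))
    (hb' : ψ b' = X s (χ s * u)) : ⁅a', b'⁆ = ⁅a, b⁆ := by
  obtain ⟨g', hg'⟩ := hψ g
  have hcen : ⁅a, b⁆ ∈ Subgroup.center E :=
    comm_mem_center_of_map ψ hc (by rw [ha, hb]; exact hcomm)
  have e1 : g' * ⁅a, b⁆ * g'⁻¹ = ⁅a, b⁆ := by
    rw [Subgroup.mem_center_iff.1 hcen g']; group
  have e2 : g' * ⁅a, b⁆ * g'⁻¹ = ⁅g' * a * g'⁻¹, g' * b * g'⁻¹⁆ := by
    simp only [commutatorElement_def]; group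
  rw [← e1, e2]
  apply comm_eq_of_map_eq ψ hc
  · rw [ha', map_mul, map_mul, map_inv, hg', ha, hg.2 r hr]
  · rw [hb', map_mul, map_mul, map_inv, hg', hb, hg.2 s hs]

/-- Step B: lifts of commuting root elements (for independent roots) commute -/
theorem lifts_commute_of_tor {r s : ℕ} (hr : r < D.nroots) (hs : s < D.nroots)
    (hcomm : ∀ t u : F, X r t * X s u = X s u * X r t) {g : M} {χ : ℕ → F}
    (hg : IsTor X D g χ) (h1 : χ r = 1) (h2 : χ s ≠ 1) (t u : F) (e1 e2 : E)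
    (he1 : ψ e1 = X r t) (he2 : ψ e2 = X s u) : e1 * e2 = e2 * e1 := by
  obtain ⟨L, hL⟩ : ∃ L : M → E, ∀ x, ψ (L x) = x :=
    ⟨Function.surjInv hψ, Function.surjInv_eq hψ⟩
  obtain ⟨f, hf⟩ : ∃ f : F → E, ∀ u', f u' = ⁅L (X r t), L (X s u')⁆ := ⟨_, fun _ => rfl⟩
  have key : ∀ u', f u' = 1 := by
    apply mul_eq_one_of_scale f ?_ (sub_ne_zero.2 h2) ?_
    · intro u u'
      rw [hf, hf, hf]
      have e : ⁅L (X r t), L (X s (u + u'))⁆ = ⁅L (X r t), L (X s u) * L (X s u')⁆ := by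
        apply comm_eq_of_map_eq ψ hc rfl
        rw [hL, map_mul, hL, hL, h.add s hs]
      rw [e]
      apply comm_mul_right_of_central
      apply comm_mem_center_of_map ψ hc
      rw [hL, hL]; exact hcomm t u'
    · intro u'
      rw [hf, hf]
      refine comm_lift_tor h ψ hψ hc hr hs hg (hcomm t u') (hL _) (hL _) ?_ (hL _)
      rw [hL, h1, one_mul]
  have e : ⁅e1, e2⁆ = f u := by
    rw [hf]
    apply comm_eq_of_map_eq ψ hc
    · rw [he1, hL]
    · rw [he2, hL]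
  rw [key] at e
  exact (commutatorElement_eq_one_iff_commute.1 e).eq

/-- Step A: lifts of elements of one root subgroup commute -/
theorem lifts_commute_self {r : ℕ} (hr : r < D.nroots) {b : F} (hb : 1 + b + b ^ 2 ≠ 0)
    {g : M} {χ : ℕ → F} (hg : IsTor X D g χ) (hgb : χ r = b)
    {g₂ : M} {χ₂ : ℕ → F} (hg₂ : IsTor X D g₂ χ₂) (hgb₂ : χ₂ r = b + 1)
    (t u : F) (e1 e2 : E) (he1 : ψ e1 = X r t) (he2 : ψ e2 = X r u) : e1 * e2 = e2 * e1 := by
  obtain ⟨L, hL⟩ : ∃ L : M → E, ∀ x, ψ (L x) = x :=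
    ⟨Function.surjInv hψ, Function.surjInv_eq hψ⟩
  obtain ⟨f, hf⟩ : ∃ f : F → F → E, ∀ t' u', f t' u' = ⁅L (X r t'), L (X r u')⁆ :=
    ⟨_, fun _ _ => rfl⟩
  have hcomm : ∀ t u : F, X r t * X r u = X r u * X r t := by
    intro t u
    rw [h.add r hr, h.add r hr, add_comm]
  have hcen : ∀ t u : F, ⁅L (X r t), L (X r u)⁆ ∈ Subgroup.center E := by
    intro t u
    apply comm_mem_center_of_map ψ hc
    rw [hL, hL]; exact hcomm t u
  have key : ∀ t' u', f t' u' = 1 := by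
    apply bimul_eq_one_of_scale f ?_ ?_ hb ?_ ?_
    · intro t t' u
      rw [hf, hf, hf]
      have e : ⁅L (X r (t + t')), L (X r u)⁆ = ⁅L (X r t) * L (X r t'), L (X r u)⁆ := by
        apply comm_eq_of_map_eq ψ hc _ rfl
        rw [hL, map_mul, hL, hL, h.add r hr]
      rw [e]
      exact comm_mul_left_of_central (hcen t' u)
    · intro t u u'
      rw [hf, hf, hf]
      have e : ⁅L (X r t), L (X r (u + u'))⁆ = ⁅L (X r t), L (X r u) * L (X r u')⁆ := by
        apply comm_eq_of_map_eq ψ hc rfl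
        rw [hL, map_mul, hL, hL, h.add r hr]
      rw [e]
      exact comm_mul_right_of_central (hcen t u')
    · intro t u
      rw [hf, hf, ← hgb]
      exact comm_lift_tor h ψ hψ hc hr hr hg (hcomm t u) (hL _) (hL _) (hL _) (hL _)
    · intro t u
      rw [hf, hf, ← hgb₂]
      exact comm_lift_tor h ψ hψ hc hr hr hg₂ (hcomm t u) (hL _) (hL _) (hL _) (hL _)
  have e : ⁅e1, e2⁆ = f t u := by
    rw [hf]
    apply comm_eq_of_map_eq ψ hc
    · rw [he1, hL]
    · rw [he2, hL]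
  rw [key] at e
  exact (commutatorElement_eq_one_iff_commute.1 e).eq

end steps

/-- the canonical lift of `x_r(t)` -/
noncomputable def liftY (ψ : E →* M) (hψ : Function.Surjective ψ) (X : ℕ → F → M)
    (tg : ℕ → M) (tχ : ℕ → ℕ → F) (r : ℕ) (t : F) : E :=
  ⁅Function.surjInv hψ (tg r), Function.surjInv hψ (X r ((tχ r r - 1)⁻¹ * t))⁆

omit [Field F] in
theorem map_wordX' {N : Type*} [Group N] (φ : M →* N) (X : ℕ → F → M) (w : List (ℕ × F)) :
    φ (wordX X w) = wordX (fun r t => φ (X r t)) w := by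
  unfold wordX
  rw [map_list_prod, List.map_map]
  rfl

omit [Field F] in
theorem wordX_congr {X X' : ℕ → F → M} {w : List (ℕ × F)}
    (h : ∀ p ∈ w, X p.1 p.2 = X' p.1 p.2) : wordX X w = wordX X' w := by
  unfold wordX
  congr 1
  exact List.map_congr_left h

section canon

variable (tg : ℕ → M) (tχ : ℕ → ℕ → F)
  (hT : ∀ r < D.nroots, IsTor X D (tg r) (tχ r) ∧ tχ r r ≠ 1)
  (hA : ∀ r < D.nroots, ∀ (t u : F) (e1 e2 : E), ψ e1 = X r t → ψ e2 = X r u →
    e1 * e2 = e2 * e1)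
include h hψ hc hT

theorem map_liftY {r : ℕ} (hr : r < D.nroots) (t : F) :
    ψ (liftY ψ hψ X tg tχ r t) = X r t := by
  unfold liftY
  rw [map_commutatorElement, Function.surjInv_eq hψ, Function.surjInv_eq hψ,
    commutatorElement_def, (hT r hr).1.2 r hr, X_inv h hr, h.add r hr]
  congr 1
  have := sub_ne_zero.2 (hT r hr).2
  field_simp
  ring

theorem map_wordX_liftY {w : List (ℕ × F)} (hw : ∀ p ∈ w, p.1 < D.nroots) :
    ψ (wordX (liftY ψ hψ X tg tχ) w) = wordX X w := by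
  rw [map_wordX']
  apply wordX_congr
  intro p hp
  exact map_liftY h ψ hψ hc tg tχ hT (hw p hp) p.2

include hA in
theorem liftY_add {r : ℕ} (hr : r < D.nroots) (t u : F) :
    liftY ψ hψ X tg tχ r t * liftY ψ hψ X tg tχ r u = liftY ψ hψ X tg tχ r (t + u) := by
  obtain ⟨k, hk⟩ : ∃ k : F, k = (tχ r r - 1)⁻¹ := ⟨_, rfl⟩
  obtain ⟨a, ha⟩ : ∃ a : E, a = Function.surjInv hψ (tg r) := ⟨_, rfl⟩
  obtain ⟨x, hx⟩ : ∃ x : E, x = Function.surjInv hψ (X r (k * t)) := ⟨_, rfl⟩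
  obtain ⟨y, hy⟩ : ∃ y : E, y = Function.surjInv hψ (X r (k * u)) := ⟨_, rfl⟩
  have hψx : ψ x = X r (k * t) := by rw [hx, Function.surjInv_eq hψ]
  have hψy : ψ y = X r (k * u) := by rw [hy, Function.surjInv_eq hψ]
  have e1 : liftY ψ hψ X tg tχ r (t + u) = ⁅a, x * y⁆ := by
    unfold liftY
    rw [← hk, ← ha]
    apply comm_eq_of_map_eq ψ hc rfl
    rw [Function.surjInv_eq hψ, map_mul, hψx, hψy, h.add r hr, mul_add]
  have e2 : ⁅a, x * y⁆ = ⁅a, x⁆ * (x * ⁅a, y⁆ * x⁻¹) := by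
    simp only [commutatorElement_def]; group
  have e3 : ψ ⁅a, y⁆ = X r u := by
    have := map_liftY h ψ hψ hc tg tχ hT hr u
    unfold liftY at this
    rw [← hk, ← ha, ← hy] at this
    exact this
  have e4 : x * ⁅a, y⁆ = ⁅a, y⁆ * x := hA r hr _ _ _ _ hψx e3
  rw [e1, e2, e4, mul_inv_cancel_right]
  unfold liftY
  rw [← hk, ← ha, ← hx, ← hy]

include hπ hgen in
theorem liftY_tor (hperf : commutator M = ⊤) {g : M} {χ : ℕ → F} (hg : IsTor X D g χ)
    {g' : E} (hg' : ψ g' = g) {r : ℕ} (hr : r < D.nroots) (t : F) :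
    g' * liftY ψ hψ X tg tχ r t * g'⁻¹ = liftY ψ hψ X tg tχ r (χ r * t) := by
  obtain ⟨k, hk⟩ : ∃ k : F, k = (tχ r r - 1)⁻¹ := ⟨_, rfl⟩
  obtain ⟨a, ha⟩ : ∃ a : E, a = Function.surjInv hψ (tg r) := ⟨_, rfl⟩
  have hψa : ψ a = tg r := by rw [ha, Function.surjInv_eq hψ]
  unfold liftY
  rw [← hk, ← ha]
  obtain ⟨x, hx⟩ : ∃ x : E, x = Function.surjInv hψ (X r (k * t)) := ⟨_, rfl⟩
  obtain ⟨x', hx'⟩ : ∃ x' : E, x' = Function.surjInv hψ (X r (k * (χ r * t))) := ⟨_, rfl⟩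
  rw [← hx, ← hx']
  have hψx : ψ x = X r (k * t) := by rw [hx, Function.surjInv_eq hψ]
  have hψx' : ψ x' = X r (k * (χ r * t)) := by rw [hx', Function.surjInv_eq hψ]
  have e2 : g' * ⁅a, x⁆ * g'⁻¹ = ⁅g' * a * g'⁻¹, g' * x * g'⁻¹⁆ := by
    simp only [commutatorElement_def]; group
  rw [e2]
  have hz := tor_comm_mem_center hgen hg (hT r hr).1
  obtain ⟨zE, hzE⟩ := hψ ((tg r)⁻¹ * (g * tg r * g⁻¹))
  have hzc : zE ∈ Subgroup.center E := lift_central ψ hc hψ hperf (by rw [hzE]; exact hz)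
  have e3 : ⁅g' * a * g'⁻¹, g' * x * g'⁻¹⁆ = ⁅zE * a, x'⁆ := by
    apply comm_eq_of_map_eq ψ hc
    · rw [map_mul, map_mul, map_inv, hg', hψa, map_mul, hzE, hψa,
        ← Subgroup.mem_center_iff.1 hz (tg r)]
      group
    · rw [map_mul, map_mul, map_inv, hg', hψx, hg.2 r hr, hψx']
      congr 1
      ring
  rw [e3, comm_mul_central_left hzc]

end canon

end lifts

end Cfsg.Agent.Helper2.Stb
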