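import Mathlib
import Cfsg.Agent.Helper2.Stb.Univ

set_option autoImplicit false
set_option linter.unusedSectionVars false
set_option linter.unusedSimpArgs false
set_option linter.unusedVariables false

/-! Steinberg's theorem on central extensions, part 2: the relations (R2) for the canonical
lifts, by induction on the number of terms of the commutator formula. -/

namespace Cfsg.Agent.Helper2.Stb

open Cfsg.Lie Cfsg.Agent.Helper6 Cfsg.Agent.Helper2.StPerf
open scoped commutatorElement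

variable {D : ChevalleyDatum} {F : Type*} [Field F] {M : Type*} [Group M]

/-- the data needed for a pair of roots with a non-trivial commutator formula -/
structure PairOK (X : ℕ → F → M) (D : ChevalleyDatum) (hB : BasicOK D) (r s : ℕ) : Prop where
  good : GoodLP hB F (fun a b => (D.commTerms a b).length < (D.commTerms r s).length)
    (s :: (D.commTerms r s).map (·.1))
  tor : ∃ (g : M) (χ : ℕ → F), IsTor X D g χ ∧ χ r = 1 ∧ χ s ≠ 1 ∧
    ∀ c ∈ D.commTerms r s, χ c.1 = χ s ^ c.2.2.2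

section main

variable {X : ℕ → F → M} (h : R12 D X) (hD : IsTabulated D) (π : M →* GL D.Idx F)
  (hπ : ∀ r < D.nroots, ∀ t : F, π (X r t) = xU (basicOK_of_tabulated hD) r t)
  (hgen : Subgroup.closure {g | ∃ r < D.nroots, ∃ t : F, g = X r t} = ⊤)
  {E : Type*} [Group E] (ψ : E →* M) (hψ : Function.Surjective ψ)
  (hc : ψ.ker ≤ Subgroup.center E) (hperf : commutator M = ⊤)
  (tg : ℕ → M) (tχ : ℕ → ℕ → F)
  (hT : ∀ r < D.nroots, IsTor X D (tg r) (tχ r) ∧ tχ r r ≠ 1)
  (hA : ∀ r < D.nroots, ∀ (t u : F) (e1 e2 : E), ψ e1 = X r t → ψ e2 = X r u →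
    e1 * e2 = e2 * e1)
include h hπ hgen hψ hc hperf hT hA

local notation "Y" => liftY ψ hψ X tg tχ

/-- the relation (R2) for a pair of roots, from the additivity of the right-hand side -/
theorem r2_of_additive {r s : ℕ} (hr : r < D.nroots) (hs : s < D.nroots)
    (h1 : s ≠ r) (h2 : s ≠ D.neg r) (hterms : ∀ c ∈ D.commTerms r s, c.1 < D.nroots)
    (Hadd : ∀ t u u' : F, (Y s u')⁻¹ * wordX Y (D.commWord F r s t u) * Y s u' *
      wordX Y (D.commWord F r s t u') = wordX Y (D.commWord F r s t (u + u')))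
    {g : M} {χ : ℕ → F} (hg : IsTor X D g χ) (hχr : χ r = 1) (hχs : χ s ≠ 1)
    (hχ : ∀ c ∈ D.commTerms r s, χ c.1 = χ s ^ c.2.2.2) (t u : F) :
    (Y s u)⁻¹ * (Y r t)⁻¹ * Y s u * Y r t = wordX Y (D.commWord F r s t u) := by
  have hw : ∀ t u : F, ∀ p ∈ D.commWord F r s t u, p.1 < D.nroots := by
    intro t u p hp
    obtain ⟨c, hc', e⟩ := commWord_fst_mem hp
    rw [e]
    exact hterms c hc'
  obtain ⟨lhs, hlhs⟩ : ∃ lhs : F → E, ∀ u, lhs u = (Y s u)⁻¹ * (Y r t)⁻¹ * Y s u * Y r t :=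
    ⟨_, fun _ => rfl⟩
  obtain ⟨rhs, hrhs⟩ : ∃ rhs : F → E, ∀ u, rhs u = wordX Y (D.commWord F r s t u) :=
    ⟨_, fun _ => rfl⟩
  have hmap : ∀ u, ψ (lhs u) = ψ (rhs u) := by
    intro u
    rw [hlhs, hrhs, map_mul, map_mul, map_mul, map_inv, map_inv,
      map_liftY h ψ hψ hc tg tχ hT hs, map_liftY h ψ hψ hc tg tχ hT hr,
      map_wordX_liftY h ψ hψ hc tg tχ hT (hw t u), h.comm r hr s hs h1 h2]
  obtain ⟨d, hd⟩ : ∃ d : F → E, ∀ u, d u = lhs u * (rhs u)⁻¹ := ⟨_, fun _ => rfl⟩
  have hdc : ∀ u, d u ∈ Subgroup.center E := fun u =>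
    hc (by rw [MonoidHom.mem_ker, hd, map_mul, map_inv, hmap, mul_inv_cancel])
  have hl : ∀ u, lhs u = d u * rhs u := by
    intro u; rw [hd]; group
  have key : ∀ u, d u = 1 := by
    apply mul_eq_one_of_scale d ?_ (sub_ne_zero.2 hχs) ?_
    · intro u u'
      have e1 : lhs (u + u') = (Y s u')⁻¹ * lhs u * Y s u' * lhs u' := by
        rw [hlhs, hlhs, hlhs, ← liftY_add h ψ hψ hc tg tχ hT hA hs u u']
        group
      have e2 : (Y s u')⁻¹ * (d u * rhs u) * Y s u' * (d u' * rhs u') =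
          d u * d u' * ((Y s u')⁻¹ * rhs u * Y s u' * rhs u') := by
        have c1 := Subgroup.mem_center_iff.1 (hdc u)
        have c2 := Subgroup.mem_center_iff.1 (hdc u')
        calc (Y s u')⁻¹ * (d u * rhs u) * Y s u' * (d u' * rhs u')
            = ((Y s u')⁻¹ * d u) * rhs u * Y s u' * (d u' * rhs u') := by group
          _ = (d u * (Y s u')⁻¹) * rhs u * Y s u' * (d u' * rhs u') := by rw [c1]
          _ = d u * (((Y s u')⁻¹ * rhs u * Y s u') * d u') * rhs u' := by group
          _ = d u * (d u' * ((Y s u')⁻¹ * rhs u * Y s u')) * rhs u' := by rw [c2]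
          _ = _ := by group
      rw [hd (u + u'), e1, hl u, hl u', e2, hrhs u, hrhs u', Hadd, ← hrhs]
      group
    · intro u
      obtain ⟨g', hg'⟩ := hψ g
      have hY : ∀ k < D.nroots, ∀ a : F, g' * Y k a * g'⁻¹ = Y k (χ k * a) := fun k hk a =>
        liftY_tor h hD π hπ hgen ψ hψ hc tg tχ hT hperf hg hg' hk a
      have hYr : g' * Y r t * g'⁻¹ = Y r t := by rw [hY r hr, hχr, one_mul]
      have e1 : g' * lhs u * g'⁻¹ = lhs (χ s * u) := by
        have e0 : g' * ((Y s u)⁻¹ * (Y r t)⁻¹ * Y s u * Y r t) * g'⁻¹ =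
            (g' * Y s u * g'⁻¹)⁻¹ * (g' * Y r t * g'⁻¹)⁻¹ * (g' * Y s u * g'⁻¹) *
              (g' * Y r t * g'⁻¹) := by group
        rw [hlhs, hlhs, e0, hY s hs, hYr]
      have e2 : g' * rhs u * g'⁻¹ = rhs (χ s * u) := by
        rw [hrhs, hrhs, conj_wordX g' id χ _ (fun q hq => hY q.1 (hw t u q hq) q.2)]
        congr 1
        unfold ChevalleyDatum.commWord
        rw [List.map_map]
        apply List.map_congr_left
        intro c hc'
        simp only [Function.comp, id]
        rw [hχ c hc', mul_pow]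
        congr 1
        ring
      have e3 : g' * lhs u * g'⁻¹ * (g' * rhs u * g'⁻¹)⁻¹ = g' * (lhs u * (rhs u)⁻¹) * g'⁻¹ := by
        group
      rw [hd (χ s * u), ← e1, ← e2, e3, ← hd u, Subgroup.mem_center_iff.1 (hdc u) g']
      group
  have := key u
  rw [hd, hlhs, hrhs] at this
  exact mul_inv_eq_one.1 this

/-- the transfer principle: the additivity identity for the right-hand side of (R2) holds for
the lifts as soon as the lower relations do -/
theorem hadd_of_good {P : ℕ → ℕ → Prop} (hY : R12On D Y P) {r s : ℕ} (hr : r < D.nroots)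
    (hs : s < D.nroots) (h1 : s ≠ r) (h2 : s ≠ D.neg r)
    (hG : GoodLP (basicOK_of_tabulated hD) F P (s :: (D.commTerms r s).map (·.1)))
    (t u u' : F) :
    (Y s u')⁻¹ * wordX Y (D.commWord F r s t u) * Y s u' *
      wordX Y (D.commWord F r s t u') = wordX Y (D.commWord F r s t (u + u')) := by
  have hB := basicOK_of_tabulated hD
  have hlt := hG.lt
  have hw : ∀ t u : F, ∀ p ∈ D.commWord F r s t u, p.1 < D.nroots := by
    intro t u p hp
    obtain ⟨c, hc', e⟩ := commWord_fst_mem hp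
    rw [e]
    exact hlt _ (List.mem_cons_of_mem _ (List.mem_map.2 ⟨c, hc', rfl⟩))
  have hwm : ∀ t u : F, wordX Y (D.commWord F r s t u) ∈
      UL Y (s :: (D.commTerms r s).map (·.1)) := by
    intro t u
    apply wordX_mem_UL
    intro p hp
    obtain ⟨c, hc', e⟩ := commWord_fst_mem hp
    rw [e]
    exact List.mem_cons_of_mem _ (List.mem_map.2 ⟨c, hc', rfl⟩)
  have hsm : ∀ a : F, Y s a ∈ UL Y (s :: (D.commTerms r s).map (·.1)) := fun a =>
    X_mem_UL Y List.mem_cons_self a
  have hπY : ∀ k < D.nroots, ∀ a : F, (π.comp ψ) (Y k a) = xU (basicOK_of_tabulated hD) k a := by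
    intro k hk a
    rw [MonoidHom.comp_apply, map_liftY h ψ hψ hc tg tχ hT hk, hπ k hk]
  refine eq_of_goodP hY (basicOK_of_tabulated hD) (π.comp ψ) hπY hG ?_ (hwm t (u + u')) ?_
  · exact Subgroup.mul_mem _ (Subgroup.mul_mem _ (Subgroup.mul_mem _
      (Subgroup.inv_mem _ (hsm u')) (hwm t u)) (hsm u')) (hwm t u')
  · rw [MonoidHom.comp_apply, MonoidHom.comp_apply]
    congr 1
    rw [map_mul, map_mul, map_mul, map_inv, map_liftY h ψ hψ hc tg tχ hT hs,
      map_wordX_liftY h ψ hψ hc tg tχ hT (hw t u), map_wordX_liftY h ψ hψ hc tg tχ hT (hw t u'),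
      map_wordX_liftY h ψ hψ hc tg tχ hT (hw t (u + u')), ← h.comm r hr s hs h1 h2,
      ← h.comm r hr s hs h1 h2, ← h.comm r hr s hs h1 h2, ← h.add s hs u u']
    group

/-- the canonical lifts satisfy the relations (R1) and (R2) -/
theorem r12_liftY
    (hB0 : ∀ r < D.nroots, ∀ s < D.nroots, s ≠ r → s ≠ D.neg r → D.commTerms r s = [] →
      ∃ (g : M) (χ : ℕ → F), IsTor X D g χ ∧ χ r = 1 ∧ χ s ≠ 1)
    (hP : ∀ r < D.nroots, ∀ s < D.nroots, s ≠ r → s ≠ D.neg r → D.commTerms r s ≠ [] →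
      PairOK (F := F) X D (basicOK_of_tabulated hD) r s) : R12 D Y := by
  have hadd : ∀ r < D.nroots, ∀ t u : F, Y r t * Y r u = Y r (t + u) := fun r hr t u =>
    liftY_add h ψ hψ hc tg tχ hT hA hr t u
  have main : ∀ n : ℕ, ∀ r < D.nroots, ∀ s < D.nroots, s ≠ r → s ≠ D.neg r →
      (D.commTerms r s).length = n → ∀ t u : F,
      (Y s u)⁻¹ * (Y r t)⁻¹ * Y s u * Y r t = wordX Y (D.commWord F r s t u) := by
    intro n
    induction n using Nat.strong_induction_on with
    | _ n ih =>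
      intro r hr s hs h1 h2 hlen t u
      by_cases hnil : D.commTerms r s = []
      · obtain ⟨g, χ, hg, e1, e2⟩ := hB0 r hr s hs h1 h2 hnil
        have hcommX : ∀ t u : F, X r t * X s u = X s u * X r t := by
          intro t u
          have := h.comm r hr s hs h1 h2 t u
          unfold ChevalleyDatum.commWord at this
          rw [hnil, List.map_nil, wordX_nil] at this
          calc X r t * X s u = X s u * X r t * ((X s u)⁻¹ * (X r t)⁻¹ * X s u * X r t)⁻¹ := by
                group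
            _ = X s u * X r t := by rw [this, inv_one, mul_one]
        have hcm := lifts_commute_of_tor h ψ hψ hc hr hs hcommX hg e1 e2 t u (Y r t) (Y s u)
          (map_liftY h ψ hψ hc tg tχ hT hr t) (map_liftY h ψ hψ hc tg tχ hT hs u)
        unfold ChevalleyDatum.commWord
        rw [hnil, List.map_nil, wordX_nil]
        calc (Y s u)⁻¹ * (Y r t)⁻¹ * Y s u * Y r t
            = (Y s u)⁻¹ * (Y r t)⁻¹ * (Y s u * Y r t) := by group
          _ = 1 := by rw [← hcm]; group
      · have hPO := hP r hr s hs h1 h2 hnil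
        obtain ⟨g, χ, hg, e1, e2, e3⟩ := hPO.tor
        have hG := hPO.good
        have hY : R12On D Y
            (fun a b => (D.commTerms a b).length < (D.commTerms r s).length) :=
          ⟨hadd, fun a ha b hb hb1 hb2 hlt t u =>
            ih _ (hlen ▸ hlt) a ha b hb hb1 hb2 rfl t u⟩
        have hterms : ∀ c ∈ D.commTerms r s, c.1 < D.nroots := fun c hc' =>
          hG.lt _ (List.mem_cons_of_mem _ (List.mem_map.2 ⟨c, hc', rfl⟩))
        exact r2_of_additive h hD π hπ hgen ψ hψ hc hperf tg tχ hT hA hr hs h1 h2 hterms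
          (hadd_of_good h hD π hπ hgen ψ hψ hc hperf tg tχ hT hA hY hr hs h1 h2 hG)
          hg e1 e2 e3 t u
  exact ⟨hadd, fun r hr s hs h1 h2 t u => main _ r hr s hs h1 h2 rfl t u⟩

end main

end Cfsg.Agent.Helper2.Stb
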