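import Mathlib
import Cfsg.Agent.Helper2.Stb.Univ2
import Cfsg.Agent.Helper2.Stb.CollTab
import Cfsg.Agent.Helper2.Stb.Main
import Cfsg.Agent.Helper2.StPerfC

set_option autoImplicit false
set_option linter.unusedSectionVars false
set_option linter.unusedSimpArgs false
set_option linter.unusedVariables false

/-! Steinberg's theorem on central extensions, part 3: the hypotheses from table checks. -/

namespace Cfsg.Agent.Helper2.Stb

open Cfsg.Lie Cfsg.Agent.Helper6 Cfsg.Agent.Helper2.StPerf
open scoped commutatorElement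

variable {D : ChevalleyDatum} {F : Type*} [Field F] {M : Type*} [Group M]

/-- the collection conditions for the root `k` in front of the list `T` -/
def collChk (D : ChevalleyDatum) (n k : ℕ) (T : List ℕ) : Bool :=
  decide (k < D.nroots) && T.all fun s => decide (s < D.nroots) && decide (s ≠ k) &&
    decide (s ≠ D.neg k) && decide ((D.commTerms k s).length < n) &&
    (D.commTerms k s).all fun c => T.contains c.1

/-- some word of the list `ws` maps `k` to a positive root below the images of all of `T` -/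
def tailChk (D : ChevalleyDatum) (ws : List (List ℕ)) (k : ℕ) (T : List ℕ) : Bool :=
  ws.any fun w => (w.all fun i => decide (i < D.rank)) && decide (D.nroots / 2 ≤ wFoldD D w k) &&
    T.all fun s => decide (wFoldD D w k < wFoldD D w s)

/-- the list is good -/
def goodChk (D : ChevalleyDatum) (ws : List (List ℕ)) (n : ℕ) : List ℕ → Bool
  | [] => true
  | k :: T => collChk D n k T && tailChk D ws k T && goodChk D ws n T

theorem goodLP_of_chk (hD : IsTabulated D) (ws : List (List ℕ)) (n : ℕ) :
    ∀ L : List ℕ, goodChk D ws n L = true →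
      GoodLP (basicOK_of_tabulated hD) F (fun a b => (D.commTerms a b).length < n) L := by
  have hB := basicOK_of_tabulated hD
  have hF := fastOK_of_tabulated hD
  have hO := ordOK_of_tabulated hD
  obtain ⟨lam, Λ, M', h1, h2, h3, h4, h5⟩ := hO.ex
  have Δ := bnData_of_tabulated F hD
  have hAll := Δ.hAll
  have hn := Δ.hn
  intro L
  induction L with
  | nil => intro _; exact GoodLP.nil
  | cons k T ih =>
    intro hchk
    simp only [goodChk, Bool.and_eq_true] at hchk
    obtain ⟨⟨hcoll, htail⟩, hrest⟩ := hchk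
    simp only [collChk, Bool.and_eq_true, decide_eq_true_eq, List.all_eq_true,
      List.contains_iff_mem] at hcoll
    obtain ⟨hk, hT⟩ := hcoll
    have hGT := ih hrest
    refine GoodLP.cons hGT ⟨hk, ?_⟩ ?_
    · intro s hs
      obtain ⟨⟨⟨⟨a1, a2⟩, a3⟩, a4⟩, a5⟩ := hT s hs
      exact ⟨a1, a2, a3, a4, a5⟩
    · simp only [tailChk, List.any_eq_true, Bool.and_eq_true, List.all_eq_true,
        decide_eq_true_eq] at htail
      obtain ⟨w, _, ⟨hw, hpos⟩, hlt⟩ := htail
      have hwk : wFoldD D w k = wFold D w k := wFoldD_eq hB hF hn hAll hw hk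
      rw [hwk] at hpos
      have hwklt : wFold D w k < D.nroots := wFold_lt hB hAll hw hk
      intro a ha
      obtain ⟨n₀, hn₀⟩ : ∃ n₀, n₀ = nW hB F w := ⟨_, rfl⟩
      have hconj : ∀ g ∈ UL (xU (basicOK_of_tabulated hD) (F := F)) T,
          n₀ * g * n₀⁻¹ ∈ Uge D F (wFold D w k + 1) := by
        apply conj_closure_mem'
        rintro x ⟨s, hs, t, rfl⟩
        have hsn : s < D.nroots := (hT s hs).1.1.1.1
        have hlt' := hlt s hs
        rw [hwk, wFoldD_eq hB hF hn hAll hw hsn] at hlt'
        obtain ⟨t', ht'⟩ := nW_conj (F := F) hB hAll hw hsn t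
        rw [hn₀, ht']
        exact xU_mem_Uge hB hlt' (wFold_lt hB hAll hw hsn) t'
      have h6 := hconj _ ha
      obtain ⟨t', ht'⟩ := nW_conj (F := F) hB hAll hw hk a
      rw [hn₀, ht'] at h6
      have ht0 := eq_zero_of_xU_mem_Uge hB hF h1 h2 h3 h4 hpos hwklt h6
      rw [ht0, xU_zero] at ht'
      have e : xU hB k a = 1 := by
        have : xU hB k a = (nW hB F w)⁻¹ * (nW hB F w * xU hB k a * (nW hB F w)⁻¹) *
            nW hB F w := by group
        rw [this, ht']
        group
      exact eq_zero_of_xU_eq_one hB hk e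

/-- for each root a cocharacter with value `1` on it -/
def witAChk (D : ChevalleyDatum) (wA : ℕ → List ℤ) : Bool :=
  allLt D.nroots fun r => decide (chi D (wA r) r = 1)

/-- for each pair of independent roots a cocharacter trivial on the first, non-trivial (of absolute
value at most `3`) on the second, and compatible with the commutator formula -/
def witPChk (D : ChevalleyDatum) (wP : ℕ → ℕ → List ℤ) : Bool :=
  allLt D.nroots fun r => allLt D.nroots fun s => decide (s = r) || decide (s = D.neg r) ||
    (decide (chi D (wP r s) r = 0) && decide (chi D (wP r s) s ≠ 0) &&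
      decide ((chi D (wP r s) s).natAbs ≤ 3) &&
      (D.commTerms r s).all fun c =>
        decide (chi D (wP r s) c.1 = (c.2.2.2 : ℤ) * chi D (wP r s) s))

/-- the lists of all pairs with a non-trivial commutator formula are good -/
def pairsChk (D : ChevalleyDatum) (ws : List (List ℕ)) : Bool :=
  allLt D.nroots fun r => allLt D.nroots fun s => decide (s = r) || decide (s = D.neg r) ||
    (D.commTerms r s).isEmpty ||
    goodChk D ws (D.commTerms r s).length (s :: (D.commTerms r s).map (·.1))

section tabs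

variable {X : ℕ → F → M} (h : R12 D X) (hD : IsTabulated D) (π : M →* GL D.Idx F)
  (hπ : ∀ r < D.nroots, ∀ t : F, π (X r t) = xU (basicOK_of_tabulated hD) r t)
  (hK5 : ∃ s : Finset F, 4 < s.card)
include h hπ hK5

theorem exists_tor_of_witP {wP : ℕ → ℕ → List ℤ} (hchk : witPChk D wP = true) {r s : ℕ}
    (hr : r < D.nroots) (hs : s < D.nroots) (h1 : s ≠ r) (h2 : s ≠ D.neg r) :
    ∃ (g : M) (χ : ℕ → F), IsTor X D g χ ∧ χ r = 1 ∧ χ s ≠ 1 ∧
      ∀ c ∈ D.commTerms r s, χ c.1 = χ s ^ c.2.2.2 := by
  simp only [witPChk, allLt_iff, Bool.or_eq_true, Bool.and_eq_true, decide_eq_true_eq,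
    List.all_eq_true] at hchk
  rcases hchk r hr s hs with (e | e) | ⟨⟨⟨c1, c2⟩, c3⟩, c4⟩
  · exact absurd e h1
  · exact absurd e h2
  · obtain ⟨k, hk⟩ : ∃ k : ℤ, k = chi D (wP r s) s := ⟨_, rfl⟩
    rw [← hk] at c2 c3
    have hk1 : 1 ≤ k.natAbs := Int.natAbs_pos.2 c2
    obtain ⟨v, hv0, hv1⟩ := exists_pow_ne_one hK5 hk1 c3
    refine ⟨torEl X D (wP r s) v, fun a => v ^ chi D (wP r s) a,
      isTor_torEl h hD π hπ _ hv0, ?_, ?_, ?_⟩
    · simp only [c1, zpow_zero]
    · simp only [← hk]
      rcases Int.natAbs_eq k with e | e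
      · rw [e, zpow_natCast]; exact hv1
      · rw [e, zpow_neg, zpow_natCast]
        intro e'
        exact hv1 (inv_eq_one.1 e')
    · intro c hc'
      simp only [c4 c hc', ← hk]
      rw [mul_comm, zpow_mul, zpow_natCast]

theorem exists_torA_of_witA {wA : ℕ → List ℤ} (hchk : witAChk D wA = true) {r : ℕ}
    (hr : r < D.nroots) {v : F} (hv : v ≠ 0) :
    ∃ (g : M) (χ : ℕ → F), IsTor X D g χ ∧ χ r = v := by
  simp only [witAChk, allLt_iff, decide_eq_true_eq] at hchk
  refine ⟨torEl X D (wA r) v, fun a => v ^ chi D (wA r) a, isTor_torEl h hD π hπ _ hv, ?_⟩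
  simp only [hchk r hr, zpow_one]

end tabs

end Cfsg.Agent.Helper2.Stb
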