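import Mathlib
import Cfsg.Agent.Helper2.Stb.UnivTab

set_option autoImplicit false
set_option linter.unusedSectionVars false
set_option linter.unusedSimpArgs false
set_option linter.unusedVariables false

/-! Steinberg's theorem on central extensions, part 4: central extensions of the group presented
by (R1), (R2) split (given the table checks), and the universal property. -/

namespace Cfsg.Agent.Helper2.Stb

open Cfsg.Lie Cfsg.Agent.Helper6 Cfsg.Agent.Helper2.StPerf
open scoped commutatorElement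

variable {D : ChevalleyDatum} {K : Type*} [Field K]

theorem lift_stX_gen {E : Type*} [Group E] (Y : ℕ → K → E) {r : ℕ} (hr : r < D.nroots) (t : K) :
    FreeGroup.lift (fun a : Fin D.nroots × K => Y a.1.val a.2) (D.stX r t) = Y r t := by
  unfold ChevalleyDatum.stX
  rw [dif_pos hr, FreeGroup.lift_apply_of]

theorem lift_stWord_gen {E : Type*} [Group E] (Y : ℕ → K → E) (w : List (ℕ × K))
    (hw : ∀ p ∈ w, p.1 < D.nroots) :
    FreeGroup.lift (fun a : Fin D.nroots × K => Y a.1.val a.2) (D.stWord w) = wordX Y w := by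
  unfold ChevalleyDatum.stWord
  induction w with
  | nil => simp [wordX_nil]
  | cons p w ih =>
    rw [List.map_cons, List.prod_cons, map_mul, wordX_cons,
      ih (fun q hq => hw q (List.mem_cons_of_mem _ hq)), lift_stX_gen Y (hw p List.mem_cons_self)]

/-- every central extension of the group presented by (R1), (R2) splits -/
theorem exists_section_of_chk (hK5 : ∃ s : Finset K, 4 < s.card) (hD : IsTabulated D)
    {wA : ℕ → List ℤ} {wP : ℕ → ℕ → List ℤ} {ws : List (List ℕ)}
    (hA : witAChk D wA = true) (hP : witPChk D wP = true) (hG : pairsChk D ws = true)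
    {E : Type*} [Group E] (ψ : E →* D.SteinbergCover K) (hψ : Function.Surjective ψ)
    (hc : ψ.ker ≤ Subgroup.center E) :
    ∃ σ : D.SteinbergCover K →* E, ψ.comp σ = MonoidHom.id _ := by
  have hsub : D.steinbergRelsAB K ⊆ D.steinbergRelsAB K := subset_rfl
  have hθ : ∀ (r : ℕ) (t : K), r < D.nroots →
      ((thetaAB hD K (pX D (D.steinbergRelsAB K) r t) : GL D.Idx K) : Matrix D.Idx D.Idx K) =
        D.x K r t := fun r t hr => thetaAB_apply hD r t hr
  obtain ⟨X, hX⟩ : ∃ X : ℕ → K → D.SteinbergCover K, X = pX D (D.steinbergRelsAB K) := ⟨_, rfl⟩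
  have h : R12 D X := by rw [hX]; exact r12_pX hsub
  obtain ⟨π, hπdef⟩ : ∃ π : D.SteinbergCover K →* GL D.Idx K,
      π = (D.group K).subtype.comp (thetaAB hD K) := ⟨_, rfl⟩
  have hπ : ∀ r < D.nroots, ∀ t : K, π (X r t) = xU (basicOK_of_tabulated hD) r t := by
    rw [hX, hπdef]; exact hπ_of hD hsub _ hθ
  have hgen : Subgroup.closure {g | ∃ r < D.nroots, ∃ t : K, g = X r t} = ⊤ := by
    rw [hX]; exact gen_pX
  obtain ⟨v₀, hv0, hv1⟩ := exists_pow_ne_one hK5 (le_refl 1) (by norm_num)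
  rw [pow_one] at hv1
  have hperf : commutator (D.SteinbergCover K) = ⊤ := by
    have hall := inDer_of_tabulated hD h (fun _ => ⟨v₀, hv0, hv1⟩)
    rw [eq_top_iff, ← hgen, Subgroup.closure_le]
    rintro _ ⟨r, hr, t, rfl⟩
    exact hall r hr t
  obtain ⟨tg, htg⟩ : ∃ tg : ℕ → D.SteinbergCover K, tg = fun r => torEl X D (wA r) v₀ :=
    ⟨_, rfl⟩
  obtain ⟨tχ, htχ⟩ : ∃ tχ : ℕ → ℕ → K, tχ = fun r a => v₀ ^ chi D (wA r) a := ⟨_, rfl⟩
  have hA' := hA
  simp only [witAChk, allLt_iff, decide_eq_true_eq] at hA'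
  have hT : ∀ r < D.nroots, IsTor X D (tg r) (tχ r) ∧ tχ r r ≠ 1 := by
    intro r hr
    rw [htg, htχ]
    refine ⟨isTor_torEl h hD π hπ _ hv0, ?_⟩
    simp only [hA' r hr, zpow_one]
    exact hv1
  obtain ⟨b, hb0, hb1, hb⟩ := exists_stepA_scalar hK5
  have hAA : ∀ r < D.nroots, ∀ (t u : K) (e1 e2 : E), ψ e1 = X r t → ψ e2 = X r u →
      e1 * e2 = e2 * e1 := by
    intro r hr t u e1 e2 he1 he2
    obtain ⟨g, χ, hg, e⟩ := exists_torA_of_witA h hD π hπ hK5 hA hr hb0
    obtain ⟨g₂, χ₂, hg₂, e₂⟩ := exists_torA_of_witA h hD π hπ hK5 hA hr hb1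
    exact lifts_commute_self h ψ hψ hc hr hb hg e hg₂ e₂ t u e1 e2 he1 he2
  have hB0 : ∀ r < D.nroots, ∀ s < D.nroots, s ≠ r → s ≠ D.neg r → D.commTerms r s = [] →
      ∃ (g : D.SteinbergCover K) (χ : ℕ → K), IsTor X D g χ ∧ χ r = 1 ∧ χ s ≠ 1 := by
    intro r hr s hs h1 h2 _
    obtain ⟨g, χ, hg, e1, e2, _⟩ := exists_tor_of_witP h hD π hπ hK5 hP hr hs h1 h2
    exact ⟨g, χ, hg, e1, e2⟩
  have hPO : ∀ r < D.nroots, ∀ s < D.nroots, s ≠ r → s ≠ D.neg r → D.commTerms r s ≠ [] →
      PairOK (F := K) X D (basicOK_of_tabulated hD) r s := by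
    intro r hr s hs h1 h2 hne
    refine ⟨?_, exists_tor_of_witP h hD π hπ hK5 hP hr hs h1 h2⟩
    have hG' := hG
    simp only [pairsChk, allLt_iff, Bool.or_eq_true, decide_eq_true_eq, List.isEmpty_iff] at hG'
    rcases hG' r hr s hs with ((e | e) | e) | e
    · exact absurd e h1
    · exact absurd e h2
    · exact absurd e hne
    · exact goodLP_of_chk hD ws _ _ e
  have hR := r12_liftY h hD π hπ hgen ψ hψ hc hperf tg tχ hT hAA hB0 hPO
  obtain ⟨Y, hY⟩ : ∃ Y : ℕ → K → E, Y = liftY ψ hψ X tg tχ := ⟨_, rfl⟩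
  rw [← hY] at hR
  have hrels : ∀ g ∈ D.steinbergRelsAB K,
      FreeGroup.lift (fun a : Fin D.nroots × K => Y a.1.val a.2) g = 1 := by
    intro g hg
    rcases hg with ⟨r, t₁, t₂, hr, rfl⟩ | ⟨r, s, t, u, hr, hs, h1, h2, rfl⟩
    · rw [map_mul, map_mul, map_inv, lift_stX_gen Y hr, lift_stX_gen Y hr, lift_stX_gen Y hr,
        mul_inv_eq_one]
      exact hR.add r hr t₁ t₂
    · have hw : ∀ p ∈ D.commWord K r s t u, p.1 < D.nroots := by
        intro p hp
        obtain ⟨c, hc', e⟩ := commWord_fst_mem hp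
        rw [e]
        have hne : D.commTerms r s ≠ [] := List.ne_nil_of_mem hc'
        exact (hPO r hr s hs h1 h2 hne).good.lt _
          (List.mem_cons_of_mem _ (List.mem_map.2 ⟨c, hc', rfl⟩))
      rw [map_mul, map_mul, map_mul, map_mul, map_inv, map_inv, map_inv, lift_stX_gen Y hr,
        lift_stX_gen Y hs, lift_stWord_gen Y _ hw, mul_inv_eq_one]
      exact hR.comm r hr s hs h1 h2 t u
  refine ⟨PresentedGroup.toGroup hrels, ?_⟩
  apply PresentedGroup.ext
  intro a
  rw [MonoidHom.comp_apply, PresentedGroup.toGroup.of, MonoidHom.id_apply, hY,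
    map_liftY h ψ hψ hc tg tχ hT a.1.isLt, hX]
  unfold pX ChevalleyDatum.stX
  rw [dif_pos a.1.isLt]
  rfl

/-- the universal property: homomorphisms from the group presented by (R1), (R2) lift uniquely
through central extensions -/
theorem lift_unique_of_chk (hK5 : ∃ s : Finset K, 4 < s.card) (hD : IsTabulated D)
    {wA : ℕ → List ℤ} {wP : ℕ → ℕ → List ℤ} {ws : List (List ℕ)}
    (hA : witAChk D wA = true) (hP : witPChk D wP = true) (hG : pairsChk D ws = true)
    {G₁ E : Type*} [Group G₁] [Group E] (π₁ : E →* G₁) (hπ : Function.Surjective π₁)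
    (hc : π₁.ker ≤ Subgroup.center E) (σ : D.SteinbergCover K →* G₁) :
    ∃! τ : D.SteinbergCover K →* E, π₁.comp τ = σ := by
  -- perfectness
  obtain ⟨v₀, hv0, hv1⟩ := exists_pow_ne_one hK5 (le_refl 1) (by norm_num)
  rw [pow_one] at hv1
  have hsub : D.steinbergRelsAB K ⊆ D.steinbergRelsAB K := subset_rfl
  have hperf : commutator (D.SteinbergCover K) = ⊤ := by
    have hall := inDer_of_tabulated hD (r12_pX hsub) (fun _ => ⟨v₀, hv0, hv1⟩)
    rw [eq_top_iff, ← gen_pX (D := D) (rels := D.steinbergRelsAB K), Subgroup.closure_le]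
    rintro _ ⟨r, hr, t, rfl⟩
    exact hall r hr t
  -- the pullback
  obtain ⟨P, hPdef⟩ : ∃ P : Subgroup (E × D.SteinbergCover K),
      P = (π₁.comp (MonoidHom.fst E (D.SteinbergCover K))).eqLocus
        (σ.comp (MonoidHom.snd E (D.SteinbergCover K))) := ⟨_, rfl⟩
  have hPmem : ∀ p : E × D.SteinbergCover K, p ∈ P ↔ π₁ p.1 = σ p.2 := by
    intro p; rw [hPdef]; rfl
  obtain ⟨ψ, hψdef⟩ : ∃ ψ : ↥P →* D.SteinbergCover K,
      ψ = (MonoidHom.snd E (D.SteinbergCover K)).comp P.subtype := ⟨_, rfl⟩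
  have hψa : ∀ p : ↥P, ψ p = p.1.2 := by intro p; rw [hψdef]; rfl
  have hψs : Function.Surjective ψ := by
    intro x
    obtain ⟨e, he⟩ := hπ (σ x)
    exact ⟨⟨(e, x), (hPmem _).2 he⟩, by rw [hψa]⟩
  have hψc : ψ.ker ≤ Subgroup.center ↥P := by
    intro p hp
    rw [MonoidHom.mem_ker, hψa] at hp
    have hp1 : π₁ p.1.1 = 1 := by rw [(hPmem _).1 p.2, hp, map_one]
    have hcen := Subgroup.mem_center_iff.1 (hc (MonoidHom.mem_ker.2 hp1))
    rw [Subgroup.mem_center_iff]
    intro q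
    apply Subtype.ext
    apply Prod.ext
    · exact hcen q.1.1
    · show q.1.2 * p.1.2 = p.1.2 * q.1.2
      rw [hp, mul_one, one_mul]
  obtain ⟨s, hs⟩ := exists_section_of_chk hK5 hD hA hP hG ψ hψs hψc
  have hs' : ∀ x, (s x).1.2 = x := by
    intro x
    have := congrArg (fun f => f x) hs
    simp only [MonoidHom.comp_apply, MonoidHom.id_apply] at this
    rw [hψa] at this
    exact this
  refine ⟨(MonoidHom.fst E (D.SteinbergCover K)).comp (P.subtype.comp s), ?_, ?_⟩
  · apply MonoidHom.ext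
    intro x
    show π₁ (s x).1.1 = σ x
    rw [(hPmem _).1 (s x).2, hs']
  · intro τ' hτ'
    have hτ : π₁.comp ((MonoidHom.fst E (D.SteinbergCover K)).comp (P.subtype.comp s)) = σ := by
      apply MonoidHom.ext
      intro x
      show π₁ (s x).1.1 = σ x
      rw [(hPmem _).1 (s x).2, hs']
    obtain ⟨τ, hτdef⟩ : ∃ τ : D.SteinbergCover K →* E,
        τ = (MonoidHom.fst E (D.SteinbergCover K)).comp (P.subtype.comp s) := ⟨_, rfl⟩
    rw [← hτdef] at hτ ⊢
    have hle : commutator (D.SteinbergCover K) ≤ τ'.eqLocus τ := by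
      rw [commutator_eq_closure, Subgroup.closure_le]
      rintro _ ⟨x, y, rfl⟩
      show τ' ⁅x, y⁆ = τ ⁅x, y⁆
      rw [map_commutatorElement, map_commutatorElement]
      apply comm_eq_of_map_eq π₁ hc
      · have a1 := congrArg (fun f => f x) hτ'
        have a2 := congrArg (fun f => f x) hτ
        simp only [MonoidHom.comp_apply] at a1 a2
        rw [a1, a2]
      · have a1 := congrArg (fun f => f y) hτ'
        have a2 := congrArg (fun f => f y) hτ
        simp only [MonoidHom.comp_apply] at a1 a2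
        rw [a1, a2]
    rw [hperf] at hle
    apply MonoidHom.ext
    intro x
    exact hle (Subgroup.mem_top x)

end Cfsg.Agent.Helper2.Stb
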