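import Mathlib
import Cfsg.Agent.Helper2.Stb.UnivMain

set_option autoImplicit false
set_option linter.unusedSectionVars false
set_option linter.unusedSimpArgs false
set_option linter.unusedVariables false

/-! Steinberg's theorem on central extensions, type G₂. -/

namespace Cfsg.Agent.Helper2.Stb

open Cfsg.Lie Cfsg.Agent.Helper6 Cfsg.Agent.Helper2.StPerf

/-- cocharacters with value `1` on the given root (type G₂) -/
def wAG2 (r : ℕ) : List ℤ :=
  ([[0, -1], [0, 1], [-1, 0], [1, 0], [0, 1], [1, 1], [-1, -1], [0, -1], [0, 1], [1, 0], [0, -1],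
    [0, 1]] : List (List ℤ)).getD r []

/-- cocharacters trivial on the first root (type G₂): the coroot orthogonal to it -/
def wPG2 (r _s : ℕ) : List ℤ :=
  ([[1, 0], [1, 3], [0, 1], [1, 1], [1, 2], [2, 3], [2, 3], [1, 2], [1, 1], [0, 1], [1, 3],
    [1, 0]] : List (List ℤ)).getD r []

/-- words for all elements of the Weyl group of type G₂ -/
def wsG2 : List (List ℕ) :=
  [[], [0], [1], [0, 1], [1, 0], [0, 1, 0], [1, 0, 1], [0, 1, 0, 1], [1, 0, 1, 0], [0, 1, 0, 1, 0],
    [1, 0, 1, 0, 1], [0, 1, 0, 1, 0, 1]]

set_option maxRecDepth 100000 in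
theorem witAChk_G2 : witAChk chevG2 wAG2 = true := by decide +kernel

set_option maxRecDepth 100000 in
theorem witPChk_G2 : witPChk chevG2 wPG2 = true := by decide +kernel

set_option maxRecDepth 100000 in
theorem pairsChk_G2 : pairsChk chevG2 wsG2 = true := by decide +kernel

theorem isTab_G2' : IsTabulated chevG2 := by simp [IsTabulated]

/-- Steinberg: over a field with more than four elements, homomorphisms from the group of type
G₂ presented by (R1), (R2) lift uniquely through central extensions -/
theorem lift_unique_G2 {K : Type*} [Field K] (hK5 : ∃ s : Finset K, 4 < s.card)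
    {G₁ E : Type*} [Group G₁] [Group E] (π₁ : E →* G₁) (hπ : Function.Surjective π₁)
    (hc : π₁.ker ≤ Subgroup.center E) (σ : chevG2.SteinbergCover K →* G₁) :
    ∃! τ : chevG2.SteinbergCover K →* E, π₁.comp τ = σ :=
  lift_unique_of_chk hK5 isTab_G2' witAChk_G2 witPChk_G2 pairsChk_G2 π₁ hπ hc σ

end Cfsg.Agent.Helper2.Stb
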